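import Mathlib
import Groth.Prelude.Def_GrLC
import Groth.Prelude.Def_Wider
import Groth.Agent.Lib.Helper9.GrLC.GrH2
import Groth.Agent.Lib.Helper9.GrLC.Van
import Groth.Agent.Lib.Helper9.GrLC.Fg
import Groth.Agent.Lib.Helper6.CMReg.CRb
import Groth.Agent.Lib.Helper6.CMReg.CRc
import Groth.Agent.Lib.Helper6.CMReg.CRj
import Groth.Agent.S13224

set_option autoImplicit false
set_option linter.unusedSectionVars false
set_option linter.unusedVariables false
set_option linter.unusedSimpArgs false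
set_option linter.style.haveILetI false
set_option maxHeartbeats 400000

/-!
# Isomorphisms between homogeneous pieces of local cohomology along short exact sequences (helper6)
-/

universe u

namespace Groth.Agent.Lib.Helper6.SegK

open CategoryTheory DirectSum Groth.Agent.Helper9.GrLCLib Groth.Agent.Helper8.LC
open Groth.Agent.Lib.Helper6.CMReg

variable {R : Type u} [CommRing R] [IsNoetherianRing R] {𝒜 : ℤ → AddSubgroup R} [GradedRing 𝒜]
variable (a : HomogeneousIdeal 𝒜)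

/-- the degree `g` piece of `H^q_a(X)` as a module over the degree zero subring -/
abbrev LCp (X : GrLC.GMod.{u} 𝒜) (q : ℕ) (g : ℤ) : Type u :=
  ↥(Fg.LCcomp 𝒜 X.gr a.toIdeal q g)

/-- two modules over the degree zero subring are isomorphic -/
def PIso (A B : Type u) [AddCommGroup A] [Module (GrLC.deg0 𝒜) A] [AddCommGroup B]
    [Module (GrLC.deg0 𝒜) B] : Prop := Nonempty (A ≃ₗ[GrLC.deg0 𝒜] B)

lemma PIso.refl (A : Type u) [AddCommGroup A] [Module (GrLC.deg0 𝒜) A] : PIso (𝒜 := 𝒜) A A :=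
  ⟨LinearEquiv.refl _ _⟩

lemma PIso.symm {A B : Type u} [AddCommGroup A] [Module (GrLC.deg0 𝒜) A] [AddCommGroup B]
    [Module (GrLC.deg0 𝒜) B] (h : PIso (𝒜 := 𝒜) A B) : PIso (𝒜 := 𝒜) B A :=
  ⟨h.some.symm⟩

lemma PIso.trans {A B C : Type u} [AddCommGroup A] [Module (GrLC.deg0 𝒜) A] [AddCommGroup B]
    [Module (GrLC.deg0 𝒜) B] [AddCommGroup C] [Module (GrLC.deg0 𝒜) C]
    (h : PIso (𝒜 := 𝒜) A B) (h' : PIso (𝒜 := 𝒜) B C) : PIso (𝒜 := 𝒜) A C :=
  ⟨h.some.trans h'.some⟩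

lemma PIso.finrank_eq {A B : Type u} [AddCommGroup A] [Module (GrLC.deg0 𝒜) A] [AddCommGroup B]
    [Module (GrLC.deg0 𝒜) B] (h : PIso (𝒜 := 𝒜) A B) :
    Module.finrank (GrLC.deg0 𝒜) A = Module.finrank (GrLC.deg0 𝒜) B :=
  LinearEquiv.finrank_eq h.some

section Gen

variable {M N : Type u} [AddCommGroup M] [Module R M] [AddCommGroup N] [Module R N]
  (ℳ : ℤ → AddSubgroup M) [DirectSum.Decomposition ℳ] [SetLike.GradedSMul 𝒜 ℳ]
  (𝒩 : ℤ → AddSubgroup N) [DirectSum.Decomposition 𝒩] [SetLike.GradedSMul 𝒜 𝒩]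

/-- a linear map between local cohomology modules which is bijective on pieces -/
theorem piso_of_map (J : Ideal R) (i i' : ℕ) (g g' : ℤ)
    (f : LocCoh.H J i M →ₗ[R] LocCoh.H J i' N)
    (hf : ∀ x ∈ LCgr 𝒜 ℳ J i g, f x ∈ LCgr 𝒜 𝒩 J i' g')
    (hinj : ∀ x ∈ LCgr 𝒜 ℳ J i g, f x = 0 → x = 0)
    (hsurj : ∀ y ∈ LCgr 𝒜 𝒩 J i' g', ∃ x ∈ LCgr 𝒜 ℳ J i g, f x = y) :
    PIso (𝒜 := 𝒜) ↥(Fg.LCcomp 𝒜 ℳ J i g) ↥(Fg.LCcomp 𝒜 𝒩 J i' g') := by
  have h1 : Function.Injective (Fg.compMap 𝒜 ℳ 𝒩 J i i' g g' f hf) := by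
    rw [injective_iff_map_eq_zero]
    intro w hw
    apply Subtype.ext
    apply hinj _ w.2
    have := congrArg Subtype.val hw
    rw [Fg.compMap_apply] at this
    exact this
  have h2 : Function.Surjective (Fg.compMap 𝒜 ℳ 𝒩 J i i' g g' f hf) := by
    intro z
    obtain ⟨w, hw, hwz⟩ := hsurj _ z.2
    refine ⟨⟨w, hw⟩, ?_⟩
    apply Subtype.ext
    rw [Fg.compMap_apply]
    exact hwz
  exact ⟨LinearEquiv.ofBijective _ ⟨h1, h2⟩⟩

end Gen

section SES

variable (X₁ X₂ X₃ : GrLC.GMod.{u} 𝒜)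
  (j : X₁.carrier →ₗ[R] X₂.carrier) (p : X₂.carrier →ₗ[R] X₃.carrier)
  (h : p ∘ₗ j = 0) (hS : (sesOf j p h).ShortExact)
  (hj : GrLC.IsGrHom X₁.gr X₂.gr j) (hp : GrLC.IsGrHom X₂.gr X₃.gr p)

include hS hj hp in
/-- the connecting map is an isomorphism on pieces when the middle term has no cohomology -/
theorem piso_delta (q : ℕ) (g : ℤ) (h1 : Van a X₂ q g) (h2 : Van a X₂ (q + 1) g) :
    PIso (𝒜 := 𝒜) (LCp a X₃ q g) (LCp a X₁ (q + 1) g) := by
  refine piso_of_map X₃.gr X₁.gr a.toIdeal q (q + 1) g g (δ a.toIdeal q hS)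
    (fun x hx => LCgr_δ 𝒜 X₁.gr X₂.gr X₃.gr j p h hS hj hp a.toIdeal q g x hx) ?_ ?_
  · intro w hw hw0
    obtain ⟨v, hv, hvw⟩ := Van.exists_LCgr_of_δ_eq_zero 𝒜 X₂.gr X₃.gr j p h hS hp a q g w hw hw0
    rw [← hvw, h1 v hv, map_zero]
  · intro z hz
    have hz0 : ((localCohomology a.toIdeal (q + 1)).map (ModuleCat.ofHom j)) z = 0 :=
      h2 _ (Van.LCgr_map_zero 𝒜 X₁.gr X₂.gr a.toIdeal (q + 1) g j hj _ hz)
    exact Van.exists_LCgr_of_map_f_eq_zero 𝒜 X₁.gr X₂.gr X₃.gr j p h hS hj hp a q g z hz hz0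

include hS hj hp in
/-- the first map is an isomorphism on pieces of positive cohomological degree when the third term
has no cohomology -/
theorem piso_left_succ (q : ℕ) (g : ℤ) (h1 : Van a X₃ q g) (h2 : Van a X₃ (q + 1) g) :
    PIso (𝒜 := 𝒜) (LCp a X₁ (q + 1) g) (LCp a X₂ (q + 1) g) := by
  refine piso_of_map X₁.gr X₂.gr a.toIdeal (q + 1) (q + 1) g g
    ((localCohomology a.toIdeal (q + 1)).map (ModuleCat.ofHom j)).hom
    (fun x hx => Van.LCgr_map_zero 𝒜 X₁.gr X₂.gr a.toIdeal (q + 1) g j hj x hx) ?_ ?_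
  · intro z hz hz0
    obtain ⟨w, hw, hwz⟩ := Van.exists_LCgr_of_map_f_eq_zero 𝒜 X₁.gr X₂.gr X₃.gr j p h hS hj hp a
      q g z hz hz0
    rw [← hwz, h1 w hw, map_zero]
  · intro v hv
    have hv0 : ((localCohomology a.toIdeal (q + 1)).map (ModuleCat.ofHom p)) v = 0 :=
      h2 _ (Van.LCgr_map_zero 𝒜 X₂.gr X₃.gr a.toIdeal (q + 1) g p hp _ hv)
    exact Van.exists_LCgr_of_map_g_eq_zero 𝒜 X₁.gr X₂.gr j p h hS hj a (q + 1) g v hv hv0

include hS hj hp in
/-- the first map is an isomorphism on pieces of `H^0` when the third term has no `H^0` -/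
theorem piso_left_zero (g : ℤ) (h2 : Van a X₃ 0 g) :
    PIso (𝒜 := 𝒜) (LCp a X₁ 0 g) (LCp a X₂ 0 g) := by
  have hjinj : Function.Injective j := (ModuleCat.mono_iff_injective (sesOf j p h).f).mp hS.mono_f
  refine piso_of_map X₁.gr X₂.gr a.toIdeal 0 0 g g
    ((localCohomology a.toIdeal 0).map (ModuleCat.ofHom j)).hom
    (fun x hx => Van.LCgr_map_zero 𝒜 X₁.gr X₂.gr a.toIdeal 0 g j hj x hx) ?_ ?_
  · intro z hz hz0
    have hz0' : ((localCohomology a.toIdeal 0).map (ModuleCat.ofHom j)) z = 0 := hz0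
    have h3 := Groth.Agent.S13224.Aux.ev0_map' a.toIdeal j z
    rw [hz0', map_zero] at h3
    have h4 : ev0 a.toIdeal (ModuleCat.of R X₁.carrier) z = 0 :=
      hjinj (h3.symm.trans (map_zero j).symm)
    exact ev0_injective a.toIdeal (ModuleCat.of R X₁.carrier) (h4.trans (map_zero _).symm)
  · intro v hv
    have hv0 : ((localCohomology a.toIdeal 0).map (ModuleCat.ofHom p)) v = 0 :=
      h2 _ (Van.LCgr_map_zero 𝒜 X₂.gr X₃.gr a.toIdeal 0 g p hp _ hv)
    exact Van.exists_LCgr_of_map_g_eq_zero 𝒜 X₁.gr X₂.gr j p h hS hj a 0 g v hv hv0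

include hS hj hp in
/-- the second map is an isomorphism on pieces when the first term has no cohomology -/
theorem piso_right (q : ℕ) (g : ℤ) (h1 : Van a X₁ q g) (h2 : Van a X₁ (q + 1) g) :
    PIso (𝒜 := 𝒜) (LCp a X₂ q g) (LCp a X₃ q g) := by
  refine piso_of_map X₂.gr X₃.gr a.toIdeal q q g g
    ((localCohomology a.toIdeal q).map (ModuleCat.ofHom p)).hom
    (fun x hx => Van.LCgr_map_zero 𝒜 X₂.gr X₃.gr a.toIdeal q g p hp x hx) ?_ ?_
  · intro v hv hv0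
    obtain ⟨w, hw, hwv⟩ := Van.exists_LCgr_of_map_g_eq_zero 𝒜 X₁.gr X₂.gr j p h hS hj a q g
      v hv hv0
    have hwv' : ((localCohomology a.toIdeal q).map (ModuleCat.ofHom j)) w = v := hwv
    rw [← hwv', h1 w hw, map_zero]
  · intro z hz
    have hz0 : δ a.toIdeal q hS z = 0 :=
      h2 _ (LCgr_δ 𝒜 X₁.gr X₂.gr X₃.gr j p h hS hj hp a.toIdeal q g _ hz)
    exact Van.exists_LCgr_of_δ_eq_zero 𝒜 X₂.gr X₃.gr j p h hS hp a q g z hz hz0

end SES

section Equiv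

/-- pieces of local cohomology are invariant under homogeneous isomorphisms -/
theorem piso_of_equiv (X Y : GrLC.GMod.{u} 𝒜) (e : X.carrier ≃ₗ[R] Y.carrier)
    (he : GrLC.IsGrHom X.gr Y.gr e.toLinearMap)
    (he' : GrLC.IsGrHom Y.gr X.gr e.symm.toLinearMap) (q : ℕ) (g : ℤ) :
    PIso (𝒜 := 𝒜) (LCp a X q g) (LCp a Y q g) := by
  refine piso_of_map X.gr Y.gr a.toIdeal q q g g
    ((localCohomology a.toIdeal q).map (ModuleCat.ofHom e.toLinearMap)).hom
    (fun x hx => Van.LCgr_map_zero 𝒜 X.gr Y.gr a.toIdeal q g _ he x hx) ?_ ?_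
  · intro x hx hx0
    have hx0' : ((localCohomology a.toIdeal q).map (ModuleCat.ofHom e.toLinearMap)) x = 0 := hx0
    have h3 := Hmap_comp a.toIdeal q e.toLinearMap e.symm.toLinearMap x
    rw [e.symm_comp, Hmap_id, hx0', map_zero] at h3
    exact h3
  · intro y hy
    refine ⟨((localCohomology a.toIdeal q).map (ModuleCat.ofHom e.symm.toLinearMap)) y,
      Van.LCgr_map_zero 𝒜 Y.gr X.gr a.toIdeal q g _ he' y hy, ?_⟩
    have h3 := Hmap_comp a.toIdeal q e.symm.toLinearMap e.toLinearMap y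
    rw [e.comp_symm, Hmap_id] at h3
    exact h3.symm

end Equiv

section Torsion

/-- for a torsion module the pieces of `H^0` are the pieces of the module -/
theorem piso_torsion (X : GrLC.GMod.{u} 𝒜) (hX : LocCoh.IsPowerTorsion a.toIdeal X.carrier)
    (g : ℤ) : PIso (𝒜 := 𝒜) (LCp a X 0 g) ↥(GrLC.comp 𝒜 X.gr g) := by
  let f : LCp a X 0 g →ₗ[GrLC.deg0 𝒜] ↥(GrLC.comp 𝒜 X.gr g) :=
    ((ev0 a.toIdeal (ModuleCat.of R X.carrier)).restrictScalars (GrLC.deg0 𝒜)).restrict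
      (p := Fg.LCcomp 𝒜 X.gr a.toIdeal 0 g) (q := GrLC.comp 𝒜 X.gr g)
      (fun x hx => (Van.mem_LCgr_zero 𝒜 X.gr a.toIdeal g x).mp hx)
  have hinj : Function.Injective f := by
    intro x y hxy
    apply Subtype.ext
    apply ev0_injective a.toIdeal (ModuleCat.of R X.carrier)
    exact congrArg Subtype.val hxy
  have hsurj : Function.Surjective f := by
    intro m
    obtain ⟨z, hz⟩ := exists_ev0_eq a.toIdeal (ModuleCat.of R X.carrier) (m : X.carrier)
      (hX (m : X.carrier))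
    have hz' : z ∈ LCgr 𝒜 X.gr a.toIdeal 0 g := by
      apply (Van.mem_LCgr_zero 𝒜 X.gr a.toIdeal g z).mpr
      rw [hz]
      exact m.2
    exact ⟨⟨z, hz'⟩, Subtype.ext hz⟩
  exact ⟨LinearEquiv.ofBijective f ⟨hinj, hsurj⟩⟩

/-- a torsion module has no higher local cohomology -/
theorem van_of_torsion (X : GrLC.GMod.{u} 𝒜) (hX : LocCoh.IsPowerTorsion a.toIdeal X.carrier)
    (q : ℕ) (hq : 1 ≤ q) (g : ℤ) : Van a X q g := by
  intro z hz
  haveI := subsingleton_of_isPowerTorsion a.toIdeal q (by omega) X.carrier hX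
  exact Subsingleton.elim _ _

end Torsion

end Groth.Agent.Lib.Helper6.SegK
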