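import Mathlib
import Groth.Prelude.Def_GrLC
import Groth.Prelude.Def_Wider
import Groth.Agent.Lib.Helper6.SegK.SKa
import Groth.Agent.Lib.Helper6.CMReg.CRe

set_option autoImplicit false
set_option linter.unusedSectionVars false
set_option linter.unusedVariables false
set_option linter.unusedSimpArgs false
set_option linter.style.haveILetI false
set_option maxHeartbeats 400000

/-!
# Computing graded local cohomology from a coresolution by modules without local cohomology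
(helper6)

A `CoPack` is the total module of a cochain complex `X = C^0 → C^1 → C^2 → ⋯` of graded modules, such
that the `C^j`, `j ≥ 1`, have no local cohomology at all and all the cohomology modules of the
complex are torsion.  Then `H^n_a(X)_g ≅ H^n(C^•)_g`.
-/

universe u

namespace Groth.Agent.Lib.Helper6.SegK

open CategoryTheory DirectSum Groth.Agent.Helper9.GrLCLib Groth.Agent.Helper8.LC
open Groth.Agent.Lib.Helper6.CMReg

variable {R : Type u} [CommRing R] [IsNoetherianRing R] {𝒜 : ℤ → AddSubgroup R} [GradedRing 𝒜]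

section Res

variable (a : HomogeneousIdeal 𝒜)
variable (T T' : GrLC.GMod.{u} 𝒜) (f : T.carrier →ₗ[R] T'.carrier)
  (hf : GrLC.IsGrHom T.gr T'.gr f) (Q : Submodule R T.carrier) (hQ : Q.IsHomogeneous T.gr)
  (hZ : (Q ⊓ LinearMap.ker f).IsHomogeneous T.gr) (hB : (Q.map f).IsHomogeneous T'.gr)

lemma resMap_comp_inclMap :
    resMap T T' f Q hQ hB ∘ₗ inclMap T (Q ⊓ LinearMap.ker f) Q hZ hQ inf_le_left = 0 := by
  apply LinearMap.ext
  intro x
  apply subMap_injective T' (Q.map f) hB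
  rw [LinearMap.comp_apply, subMap_resMap, subMap_inclMap, LinearMap.zero_apply, map_zero]
  have hx : subMap T (Q ⊓ LinearMap.ker f) hZ x ∈ Q ⊓ LinearMap.ker f := subMap_mem T _ hZ x
  exact hx.2

lemma ses_res :
    (sesOf (inclMap T (Q ⊓ LinearMap.ker f) Q hZ hQ inf_le_left) (resMap T T' f Q hQ hB)
      (resMap_comp_inclMap T T' f Q hQ hZ hB)).ShortExact := by
  apply sesOf_shortExact
  · exact inclMap_injective T _ Q hZ hQ inf_le_left
  · intro y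
    have hy : subMap T' (Q.map f) hB y ∈ Q.map f := subMap_mem T' _ hB y
    obtain ⟨x, hx, hxy⟩ := hy
    obtain ⟨x', hx'⟩ : ∃ x' : (subGMod T Q hQ).carrier, subMap T Q hQ x' = x :=
      ⟨(⟨x, hx⟩ : ↥Q), rfl⟩
    refine ⟨x', ?_⟩
    apply subMap_injective T' (Q.map f) hB
    rw [subMap_resMap, hx', hxy]
  · ext x
    constructor
    · intro hx
      have h1 : f (subMap T Q hQ x) = 0 := by
        rw [← subMap_resMap T T' f Q hQ hB x, LinearMap.mem_ker.mp hx, map_zero]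
      obtain ⟨z, hz⟩ : ∃ z : (subGMod T (Q ⊓ LinearMap.ker f) hZ).carrier,
          subMap T _ hZ z = subMap T Q hQ x :=
        ⟨(⟨subMap T Q hQ x, ⟨subMap_mem T Q hQ x, h1⟩⟩ : ↥(Q ⊓ LinearMap.ker f)), rfl⟩
      refine ⟨z, ?_⟩
      apply subMap_injective T Q hQ
      rw [subMap_inclMap, hz]
    · rintro ⟨z, rfl⟩
      exact LinearMap.congr_fun (resMap_comp_inclMap T T' f Q hQ hZ hB) z

include hf in
lemma isGrHom_resMap :
    GrLC.IsGrHom (subGMod T Q hQ).gr (subGMod T' (Q.map f) hB).gr (resMap T T' f Q hQ hB) := by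
  intro g x hx
  apply (mem_subGMod_gr T' (Q.map f) hB g _).mpr
  rw [subMap_resMap]
  exact hf g _ ((mem_subGMod_gr T Q hQ g x).mp hx)

end Res

/-- the total module of a coresolution of `X` by modules without local cohomology, with torsion
cohomology -/
structure CoPack (a : HomogeneousIdeal 𝒜) (X : GrLC.GMod.{u} 𝒜) where
  /-- the total module -/
  T : GrLC.GMod.{u} 𝒜
  /-- the differential -/
  D : T.carrier →ₗ[R] T.carrier
  D_gr : GrLC.IsGrHom T.gr T.gr D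
  D_D : ∀ x, D (D x) = 0
  /-- the terms -/
  C : ℕ → Submodule R T.carrier
  C_hom : ∀ j, (C j).IsHomogeneous T.gr
  D_C : ∀ j x, x ∈ C j → D x ∈ C (j + 1)
  /-- the identification of `X` with the term of degree zero -/
  φ : X.carrier →ₗ[R] T.carrier
  φ_gr : GrLC.IsGrHom X.gr T.gr φ
  φ_inj : Function.Injective φ
  φ_range : LinearMap.range φ = C 0
  van : ∀ j, 1 ≤ j → ∀ (q : ℕ) (g : ℤ), Van a (subGMod T (C j) (C_hom j)) q g
  tors : ∀ j z, z ∈ C j → D z = 0 →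
    ∃ n : ℕ, ∀ r ∈ a.toIdeal ^ n, r • z ∈ (prevC C j).map D

namespace CoPack

variable {a : HomogeneousIdeal 𝒜} {X : GrLC.GMod.{u} 𝒜} (K : CoPack a X)

/-- the cocycles -/
def Z (j : ℕ) : Submodule R K.T.carrier := K.C j ⊓ LinearMap.ker K.D

/-- the coboundaries -/
def B (j : ℕ) : Submodule R K.T.carrier := (prevC K.C j).map K.D

lemma prevC_hom' : ∀ j, (prevC K.C j).IsHomogeneous K.T.gr
  | 0 => bot_isHomogeneous K.T.gr
  | j + 1 => K.C_hom j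

lemma Z_hom (j : ℕ) : (K.Z j).IsHomogeneous K.T.gr :=
  inf_isHomogeneous K.T.gr (K.C_hom j) (ker_isHomogeneous K.T.gr K.T.gr K.D_gr)

lemma B_hom (j : ℕ) : (K.B j).IsHomogeneous K.T.gr :=
  map_isHomogeneous K.T.gr K.T.gr K.D_gr (K.prevC_hom' j)

lemma B_le_Z : ∀ j, K.B j ≤ K.Z j
  | 0 => by
    intro x hx
    obtain ⟨w, hw, rfl⟩ := hx
    have hw0 : w = 0 := (Submodule.mem_bot R).mp hw
    rw [hw0, map_zero]
    exact Submodule.zero_mem _
  | j + 1 => by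
    intro x hx
    obtain ⟨w, hw, rfl⟩ := hx
    exact ⟨K.D_C j w hw, LinearMap.mem_ker.mpr (K.D_D w)⟩

lemma Z_le_C (j : ℕ) : K.Z j ≤ K.C j := inf_le_left

lemma B_succ_le_C (j : ℕ) : K.B (j + 1) ≤ K.C (j + 1) := (K.B_le_Z (j + 1)).trans (K.Z_le_C (j + 1))

/-- the graded module `C^j` -/
noncomputable abbrev Cm (j : ℕ) : GrLC.GMod.{u} 𝒜 := subGMod K.T (K.C j) (K.C_hom j)

/-- the graded module `Z^j` -/
noncomputable abbrev Zm (j : ℕ) : GrLC.GMod.{u} 𝒜 := subGMod K.T (K.Z j) (K.Z_hom j)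

/-- the graded module `B^j` -/
noncomputable abbrev Bm (j : ℕ) : GrLC.GMod.{u} 𝒜 := subGMod K.T (K.B j) (K.B_hom j)

/-- the graded module `H^j = Z^j / B^j` -/
noncomputable abbrev Hm (j : ℕ) : GrLC.GMod.{u} 𝒜 :=
  sqGMod K.T (K.B j) (K.Z j) (K.B_hom j) (K.Z_hom j)

lemma Hm_torsion (j : ℕ) : LocCoh.IsPowerTorsion a.toIdeal (K.Hm j).carrier := by
  intro m
  obtain ⟨x, rfl⟩ := sqMap_surjective K.T (K.B j) (K.Z j) (K.B_hom j) (K.Z_hom j) m
  have hx : subMap K.T (K.Z j) (K.Z_hom j) x ∈ K.Z j := subMap_mem K.T _ (K.Z_hom j) x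
  obtain ⟨n, hn⟩ := K.tors j _ hx.1 (LinearMap.mem_ker.mp hx.2)
  refine ⟨n, fun r hr => ?_⟩
  rw [← map_smul, sqMap_eq_zero_iff, map_smul]
  exact hn r hr

lemma Zm_zero_torsion : LocCoh.IsPowerTorsion a.toIdeal (K.Zm 0).carrier := by
  intro m
  have hx : subMap K.T (K.Z 0) (K.Z_hom 0) m ∈ K.Z 0 := subMap_mem K.T _ (K.Z_hom 0) m
  obtain ⟨n, hn⟩ := K.tors 0 _ hx.1 (LinearMap.mem_ker.mp hx.2)
  refine ⟨n, fun r hr => ?_⟩
  apply subMap_injective K.T (K.Z 0) (K.Z_hom 0)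
  rw [map_smul, map_zero]
  have h1 := hn r hr
  obtain ⟨w, hw, hwr⟩ := h1
  have hw0 : w = 0 := (Submodule.mem_bot R).mp hw
  rw [← hwr, hw0, map_zero]

/-! ### vanishing statements -/

lemma van_C (j : ℕ) (hj : 1 ≤ j) (q : ℕ) (g : ℤ) : Van a (K.Cm j) q g := K.van j hj q g

lemma van_Z_zero (j : ℕ) (hj : 1 ≤ j) (g : ℤ) : Van a (K.Zm j) 0 g :=
  van_left_zero 𝒜 a (K.Zm j) (K.Cm j) (inclMap K.T (K.Z j) (K.C j) (K.Z_hom j) (K.C_hom j) (K.Z_le_C j))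
    (isGrHom_inclMap K.T _ _ (K.Z_hom j) (K.C_hom j) (K.Z_le_C j))
    (inclMap_injective K.T _ _ (K.Z_hom j) (K.C_hom j) (K.Z_le_C j)) g (K.van_C j hj 0 g)

lemma van_B_zero (j : ℕ) (g : ℤ) : Van a (K.Bm (j + 1)) 0 g :=
  van_left_zero 𝒜 a (K.Bm (j + 1)) (K.Cm (j + 1))
    (inclMap K.T (K.B (j + 1)) (K.C (j + 1)) (K.B_hom (j + 1)) (K.C_hom (j + 1)) (K.B_succ_le_C j))
    (isGrHom_inclMap K.T _ _ (K.B_hom (j + 1)) (K.C_hom (j + 1)) (K.B_succ_le_C j))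
    (inclMap_injective K.T _ _ (K.B_hom (j + 1)) (K.C_hom (j + 1)) (K.B_succ_le_C j)) g
    (K.van_C (j + 1) (by omega) 0 g)

/-- the sequence `0 → Z^j → C^j → B^{j+1} → 0` -/
lemma ses_a (j : ℕ) :
    (sesOf (inclMap K.T (K.Z j) (K.C j) (K.Z_hom j) (K.C_hom j) inf_le_left)
      (resMap K.T K.T K.D (K.C j) (K.C_hom j) (K.B_hom (j + 1)))
      (resMap_comp_inclMap K.T K.T K.D (K.C j) (K.C_hom j) (K.Z_hom j) (K.B_hom (j + 1)))).ShortExact :=
  ses_res K.T K.T K.D (K.C j) (K.C_hom j) (K.Z_hom j) (K.B_hom (j + 1))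

lemma van_Z_one (j : ℕ) (hj : 1 ≤ j) (g : ℤ) : Van a (K.Zm j) 1 g :=
  van_left 𝒜 a (K.Zm j) (K.Cm j) (K.Bm (j + 1)) _ _ _ (K.ses_a j)
    (isGrHom_inclMap K.T _ _ (K.Z_hom j) (K.C_hom j) inf_le_left)
    (isGrHom_resMap K.T K.T K.D K.D_gr (K.C j) (K.C_hom j) (K.B_hom (j + 1))) 0 g
    (K.van_C j hj 1 g) (K.van_B_zero j g)

/-! ### the isomorphisms -/

lemma iso1 (j : ℕ) (hj : 1 ≤ j) (q : ℕ) (g : ℤ) :
    PIso (𝒜 := 𝒜) (LCp a (K.Bm (j + 1)) q g) (LCp a (K.Zm j) (q + 1) g) :=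
  piso_delta a (K.Zm j) (K.Cm j) (K.Bm (j + 1)) _ _ _ (K.ses_a j)
    (isGrHom_inclMap K.T _ _ (K.Z_hom j) (K.C_hom j) inf_le_left)
    (isGrHom_resMap K.T K.T K.D K.D_gr (K.C j) (K.C_hom j) (K.B_hom (j + 1))) q g
    (K.van_C j hj q g) (K.van_C j hj (q + 1) g)

lemma iso2 (j : ℕ) (q : ℕ) (g : ℤ) :
    PIso (𝒜 := 𝒜) (LCp a (K.Bm j) (q + 2) g) (LCp a (K.Zm j) (q + 2) g) :=
  piso_left_succ a (K.Bm j) (K.Zm j) (K.Hm j) _ _ _
    (ses_incl_sq K.T (K.B j) (K.Z j) (K.B_hom j) (K.Z_hom j) (K.B_le_Z j))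
    (isGrHom_inclMap K.T _ _ (K.B_hom j) (K.Z_hom j) (K.B_le_Z j))
    (isGrHom_sqMap K.T _ _ (K.B_hom j) (K.Z_hom j)) (q + 1) g
    (van_of_torsion a (K.Hm j) (K.Hm_torsion j) (q + 1) (by omega) g)
    (van_of_torsion a (K.Hm j) (K.Hm_torsion j) (q + 2) (by omega) g)

lemma iso3 (j : ℕ) (hj : 1 ≤ j) (g : ℤ) :
    PIso (𝒜 := 𝒜) (LCp a (K.Hm j) 0 g) (LCp a (K.Bm j) 1 g) :=
  piso_delta a (K.Bm j) (K.Zm j) (K.Hm j) _ _ _
    (ses_incl_sq K.T (K.B j) (K.Z j) (K.B_hom j) (K.Z_hom j) (K.B_le_Z j))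
    (isGrHom_inclMap K.T _ _ (K.B_hom j) (K.Z_hom j) (K.B_le_Z j))
    (isGrHom_sqMap K.T _ _ (K.B_hom j) (K.Z_hom j)) 0 g
    (K.van_Z_zero j hj g) (K.van_Z_one j hj g)

lemma iso4 (j : ℕ) (g : ℤ) :
    PIso (𝒜 := 𝒜) (LCp a (K.Hm j) 0 g) ↥(GrLC.comp 𝒜 (K.Hm j).gr g) :=
  piso_torsion a (K.Hm j) (K.Hm_torsion j) g

/-- the key induction -/
theorem piso_B : ∀ (q j n : ℕ), 1 ≤ j → n = j + q → ∀ g : ℤ,
    PIso (𝒜 := 𝒜) (LCp a (K.Bm j) (q + 1) g) ↥(GrLC.comp 𝒜 (K.Hm n).gr g) := by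
  intro q
  induction q with
  | zero =>
    intro j n hj hn g
    rw [Nat.add_zero] at hn
    subst hn
    exact (K.iso3 n hj g).symm.trans (K.iso4 n g)
  | succ q ih =>
    intro j n hj hn g
    have h1 := K.iso2 j q g
    have h2 := (K.iso1 j hj (q + 1) g).symm
    have h3 := ih (j + 1) n (by omega) (by omega) g
    exact h1.trans (h2.trans h3)

/-- the identification of `X` with `C^0` -/
noncomputable def φEquiv : X.carrier ≃ₗ[R] (K.Cm 0).carrier :=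
  LinearEquiv.ofBijective
    (subLift K.T (K.C 0) (K.C_hom 0) K.φ (fun x => by rw [← K.φ_range]; exact ⟨x, rfl⟩))
    ⟨by
      intro x y hxy
      apply K.φ_inj
      have := congrArg (subMap K.T (K.C 0) (K.C_hom 0)) hxy
      rw [subMap_subLift, subMap_subLift] at this
      exact this,
     by
      intro y
      have hy : subMap K.T (K.C 0) (K.C_hom 0) y ∈ K.C 0 := subMap_mem K.T _ (K.C_hom 0) y
      have hy' : subMap K.T (K.C 0) (K.C_hom 0) y ∈ LinearMap.range K.φ := by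
        have h2 : ∀ v : K.T.carrier, v ∈ K.C 0 → v ∈ LinearMap.range K.φ := by
          intro v hv
          rw [K.φ_range]
          exact hv
        exact h2 _ hy
      obtain ⟨x, hx⟩ := hy'
      refine ⟨x, ?_⟩
      apply subMap_injective K.T (K.C 0) (K.C_hom 0)
      rw [subMap_subLift, hx]⟩

lemma subMap_φEquiv (x : X.carrier) :
    subMap K.T (K.C 0) (K.C_hom 0) (K.φEquiv x) = K.φ x := rfl

lemma isGrHom_φEquiv : GrLC.IsGrHom X.gr (K.Cm 0).gr K.φEquiv.toLinearMap := by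
  intro g x hx
  apply (mem_subGMod_gr K.T (K.C 0) (K.C_hom 0) g _).mpr
  show subMap K.T (K.C 0) (K.C_hom 0) (K.φEquiv x) ∈ K.T.gr g
  rw [subMap_φEquiv]
  exact K.φ_gr g x hx

lemma piso_X_C (q : ℕ) (g : ℤ) : PIso (𝒜 := 𝒜) (LCp a X q g) (LCp a (K.Cm 0) q g) :=
  piso_of_equiv a X (K.Cm 0) K.φEquiv K.isGrHom_φEquiv
    (isGrHom_symm X.gr (K.Cm 0).gr K.φEquiv K.isGrHom_φEquiv) q g

/-- **the local cohomology of `X` is the cohomology of the coresolution**, positive degrees -/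
theorem piso_pos (n : ℕ) (hn : 1 ≤ n) (g : ℤ) :
    PIso (𝒜 := 𝒜) (LCp a X n g) ↥(GrLC.comp 𝒜 (K.Hm n).gr g) := by
  obtain ⟨q, rfl⟩ : ∃ q, n = q + 1 := ⟨n - 1, by omega⟩
  have h1 := K.piso_X_C (q + 1) g
  have h2 : PIso (𝒜 := 𝒜) (LCp a (K.Cm 0) (q + 1) g) (LCp a (K.Bm 1) (q + 1) g) :=
    piso_right a (K.Zm 0) (K.Cm 0) (K.Bm 1) _ _ _ (K.ses_a 0)
      (isGrHom_inclMap K.T _ _ (K.Z_hom 0) (K.C_hom 0) inf_le_left)
      (isGrHom_resMap K.T K.T K.D K.D_gr (K.C 0) (K.C_hom 0) (K.B_hom 1)) (q + 1) g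
      (van_of_torsion a (K.Zm 0) K.Zm_zero_torsion (q + 1) (by omega) g)
      (van_of_torsion a (K.Zm 0) K.Zm_zero_torsion (q + 2) (by omega) g)
  have h3 := K.piso_B q 1 (q + 1) le_rfl (by omega) g
  exact h1.trans (h2.trans h3)

/-- degree zero -/
theorem piso_zero (g : ℤ) :
    PIso (𝒜 := 𝒜) (LCp a X 0 g) ↥(GrLC.comp 𝒜 (K.Zm 0).gr g) := by
  have h1 := K.piso_X_C 0 g
  have h2 : PIso (𝒜 := 𝒜) (LCp a (K.Zm 0) 0 g) (LCp a (K.Cm 0) 0 g) :=
    piso_left_zero a (K.Zm 0) (K.Cm 0) (K.Bm 1) _ _ _ (K.ses_a 0)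
      (isGrHom_inclMap K.T _ _ (K.Z_hom 0) (K.C_hom 0) inf_le_left)
      (isGrHom_resMap K.T K.T K.D K.D_gr (K.C 0) (K.C_hom 0) (K.B_hom 1)) g (K.van_B_zero 0 g)
  have h3 := piso_torsion a (K.Zm 0) K.Zm_zero_torsion g
  exact h1.trans (h2.symm.trans h3)

end CoPack

end Groth.Agent.Lib.Helper6.SegK
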