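import Mathlib
import Groth.Prelude.Def_GrLC
import Groth.Agent.Lib.Helper9.GrLC.Basic
import Groth.Agent.Lib.Helper9.GrLC.Push
import Groth.Agent.Lib.Helper9.GrLC.Pull

set_option autoImplicit false
set_option linter.unusedSectionVars false
set_option linter.unusedVariables false
set_option linter.unusedSimpArgs false
set_option linter.style.haveILetI false
set_option maxHeartbeats 400000

/-!
# The localization of a graded module at a homogeneous element, as a graded module (helper6)
-/

universe u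

namespace Groth.Agent.Lib.Helper6.SegK

open DirectSum Groth.Agent.Helper9.GrLCLib

variable {R : Type u} [CommRing R] {𝒜 : ℤ → AddSubgroup R} [GradedRing 𝒜]

section Basic

variable {M : Type u} [AddCommGroup M] [Module R M] (x : R)

/-- the denominator `x ^ t` -/
def den (t : ℕ) : Submonoid.powers x := ⟨x ^ t, t, rfl⟩

lemma den_add (t t' : ℕ) : den x (t + t') = den x t * den x t' :=
  Subtype.ext (pow_add x t t')

lemma den_zero : den x 0 = 1 := Subtype.ext (pow_zero x)

/-- the fraction `m / x ^ t` -/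
noncomputable def lmk (m : M) (t : ℕ) : LocalizedModule (Submonoid.powers x) M :=
  LocalizedModule.mk m (den x t)

lemma exists_lmk (ξ : LocalizedModule (Submonoid.powers x) M) : ∃ (m : M) (t : ℕ), ξ = lmk x m t := by
  induction ξ using LocalizedModule.induction_on with
  | h m s =>
    obtain ⟨t, ht⟩ := s.2
    refine ⟨m, t, ?_⟩
    have : s = den x t := Subtype.ext ht.symm
    rw [this]
    rfl

lemma lmk_add (m m' : M) (t t' : ℕ) :
    lmk x m t + lmk x m' t' = lmk x (x ^ t' • m + x ^ t • m') (t + t') := by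
  unfold lmk
  rw [LocalizedModule.mk_add_mk, den_add]
  rfl

lemma lmk_neg (m : M) (t : ℕ) : -lmk x m t = lmk x (-m) t := by
  unfold lmk
  rw [LocalizedModule.mk_neg]

lemma lmk_zero (t : ℕ) : lmk x (0 : M) t = 0 := LocalizedModule.zero_mk _

lemma lmk_raise (m : M) (u t : ℕ) : lmk x m t = lmk x (x ^ u • m) (u + t) := by
  unfold lmk
  rw [den_add]
  exact (LocalizedModule.mk_cancel_common_left (den x u) (den x t) m).symm

lemma smul_lmk (r : R) (m : M) (t : ℕ) : r • lmk x m t = lmk x (r • m) t := by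
  unfold lmk
  exact LocalizedModule.smul'_mk r m _

lemma lmk_eq_zero_iff (m : M) (t : ℕ) : lmk x m t = 0 ↔ ∃ u : ℕ, x ^ u • m = 0 := by
  unfold lmk
  rw [← LocalizedModule.zero_mk (1 : Submonoid.powers x), LocalizedModule.mk_eq]
  constructor
  · rintro ⟨s, hs⟩
    obtain ⟨u, hu⟩ := s.2
    refine ⟨u, ?_⟩
    rw [smul_zero, smul_zero, one_smul] at hs
    have hu' : x ^ u = (s : R) := hu
    rw [hu']
    exact hs
  · rintro ⟨u, hu⟩
    refine ⟨den x u, ?_⟩
    rw [smul_zero, smul_zero, one_smul]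
    exact hu

lemma lmk_sum {ι : Type*} (s : Finset ι) (m : ι → M) (t : ℕ) :
    ∑ k ∈ s, lmk x (m k) t = lmk x (∑ k ∈ s, m k) t := by
  classical
  induction s using Finset.induction_on with
  | empty => simp [lmk_zero]
  | insert k s hk ih =>
    rw [Finset.sum_insert hk, Finset.sum_insert hk, ih, lmk_add, lmk_raise x (m k + ∑ k ∈ s, m k) t t,
      smul_add]

lemma pow_smul_lmk (m : M) (t : ℕ) : x ^ t • lmk x m t = lmk x m 0 := by
  rw [smul_lmk, lmk_raise x m t 0, add_zero]

end Basic

section Graded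

variable (X : GrLC.GMod.{u} 𝒜) (x : R) (e : ℤ) (hx : x ∈ 𝒜 e)

/-- the carrier of the localization -/
abbrev LocC : Type u := LocalizedModule (Submonoid.powers x) X.carrier

include hx in
lemma pow_mem_graded (t : ℕ) : x ^ t ∈ 𝒜 ((t : ℤ) * e) := by
  have := SetLike.pow_mem_graded t hx
  rw [nsmul_eq_mul] at this
  exact this

include hx in
lemma pow_smul_mem (t : ℕ) (g : ℤ) (m : X.carrier) (hm : m ∈ X.gr g) :
    x ^ t • m ∈ X.gr (g + t * e) := by
  have := smul_mem_add 𝒜 X.gr (pow_mem_graded x e hx t) hm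
  rw [add_comm] at this
  exact this

/-- the homogeneous pieces of the localization -/
def locFam : ℤ → AddSubgroup (LocC X x) := fun g =>
  { carrier := {ξ | ∃ (t : ℕ) (m : X.carrier), m ∈ X.gr (g + t * e) ∧ ξ = lmk x m t}
    zero_mem' := ⟨0, 0, zero_mem _, (lmk_zero x 0).symm⟩
    add_mem' := by
      rintro ξ ξ' ⟨t, m, hm, rfl⟩ ⟨t', m', hm', rfl⟩
      refine ⟨t + t', x ^ t' • m + x ^ t • m', ?_, lmk_add x m m' t t'⟩
      refine add_mem ?_ ?_
      · have := pow_smul_mem X x e hx t' _ m hm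
        have h2 : g + (t : ℤ) * e + (t' : ℤ) * e = g + ((t + t' : ℕ) : ℤ) * e := by
          push_cast; ring
        rw [h2] at this
        exact this
      · have := pow_smul_mem X x e hx t _ m' hm'
        have h2 : g + (t' : ℤ) * e + (t : ℤ) * e = g + ((t + t' : ℕ) : ℤ) * e := by
          push_cast; ring
        rw [h2] at this
        exact this
    neg_mem' := by
      rintro ξ ⟨t, m, hm, rfl⟩
      exact ⟨t, -m, neg_mem hm, lmk_neg x m t⟩ }

lemma mem_locFam {g : ℤ} {ξ : LocC X x} :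
    ξ ∈ locFam X x e hx g ↔ ∃ (t : ℕ) (m : X.carrier), m ∈ X.gr (g + t * e) ∧ ξ = lmk x m t :=
  Iff.rfl

include hx in
/-- a homogeneous fraction can be written with any larger denominator -/
lemma exists_rep_of_le {g : ℤ} {ξ : LocC X x} (hξ : ξ ∈ locFam X x e hx g) (N : ℕ) :
    ∃ (t : ℕ) (m : X.carrier), N ≤ t ∧ m ∈ X.gr (g + t * e) ∧ ξ = lmk x m t := by
  obtain ⟨t, m, hm, rfl⟩ := hξ
  refine ⟨N + t, x ^ N • m, by omega, ?_, lmk_raise x m N t⟩
  have := pow_smul_mem X x e hx N _ m hm
  have h2 : g + (t : ℤ) * e + (N : ℤ) * e = g + ((N + t : ℕ) : ℤ) * e := by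
    push_cast; ring
  rw [h2] at this
  exact this

include hx in
/-- a homogeneous fraction can be written with a prescribed large denominator -/
lemma exists_rep_eq {g : ℤ} {ξ : LocC X x} (hξ : ξ ∈ locFam X x e hx g) :
    ∃ t₀ : ℕ, ∀ t : ℕ, t₀ ≤ t → ∃ m : X.carrier, m ∈ X.gr (g + t * e) ∧ ξ = lmk x m t := by
  obtain ⟨t₀, m, hm, rfl⟩ := hξ
  refine ⟨t₀, fun t ht => ?_⟩
  obtain ⟨u, rfl⟩ : ∃ u, t = u + t₀ := ⟨t - t₀, by omega⟩
  refine ⟨x ^ u • m, ?_, lmk_raise x m u t₀⟩
  have := pow_smul_mem X x e hx u _ m hm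
  have h2 : g + (t₀ : ℤ) * e + (u : ℤ) * e = g + ((u + t₀ : ℕ) : ℤ) * e := by
    push_cast; ring
  rw [h2] at this
  exact this

include hx in
lemma coe_loc_injective :
    Function.Injective (DirectSum.coeAddMonoidHom (locFam X x e hx)) := by
  classical
  rw [injective_iff_map_eq_zero]
  intro y hy
  -- common denominator
  have hrep : ∀ k : ℤ, ∃ t₀ : ℕ, ∀ t : ℕ, t₀ ≤ t →
      ∃ m : X.carrier, m ∈ X.gr (k + t * e) ∧ ((y k : LocC X x)) = lmk x m t :=
    fun k => exists_rep_eq X x e hx (y k).2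
  choose t₀ ht₀ using hrep
  let N : ℕ := y.support.sup t₀
  have hN : ∀ k ∈ y.support, t₀ k ≤ N := fun k hk => Finset.le_sup hk
  have hrep2 : ∀ k : ℤ, ∃ m : X.carrier, k ∈ y.support → m ∈ X.gr (k + N * e) ∧
      ((y k : LocC X x)) = lmk x m N := by
    intro k
    by_cases hk : k ∈ y.support
    · obtain ⟨m, hm, hmy⟩ := ht₀ k N (hN k hk)
      exact ⟨m, fun _ => ⟨hm, hmy⟩⟩
    · exact ⟨0, fun h => absurd h hk⟩
  choose m hm using hrep2
  have hsum : DirectSum.coeAddMonoidHom (locFam X x e hx) y =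
      ∑ k ∈ y.support, ((y k : LocC X x)) := by
    conv_lhs => rw [← DirectSum.sum_support_of y]
    rw [map_sum]
    refine Finset.sum_congr rfl (fun k _ => ?_)
    rw [DirectSum.coeAddMonoidHom_of]
  rw [hsum] at hy
  have hy2 : ∑ k ∈ y.support, lmk x (m k) N = 0 := by
    rw [← hy]
    refine Finset.sum_congr rfl (fun k hk => ?_)
    exact ((hm k hk).2).symm
  rw [lmk_sum, lmk_eq_zero_iff] at hy2
  obtain ⟨u, hu⟩ := hy2
  rw [Finset.smul_sum] at hu
  -- components
  have hdeg : ∀ k ∈ y.support, x ^ u • m k ∈ X.gr (k + N * e + u * e) :=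
    fun k hk => pow_smul_mem X x e hx u _ _ (hm k hk).1
  have hzero : ∀ k ∈ y.support, x ^ u • m k = 0 := by
    intro k hk
    have h1 : proj X.gr (k + N * e + u * e) (∑ j ∈ y.support, x ^ u • m j) = x ^ u • m k := by
      rw [map_sum]
      rw [Finset.sum_eq_single_of_mem k hk]
      · exact proj_of_mem_same X.gr (hdeg k hk)
      · intro j hj hjk
        apply proj_of_mem_ne X.gr (hdeg j hj)
        intro h
        apply hjk
        have : j + (N : ℤ) * e + (u : ℤ) * e = k + (N : ℤ) * e + (u : ℤ) * e := h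
        linarith
    rw [hu, map_zero] at h1
    exact h1.symm
  ext k
  by_cases hk : k ∈ y.support
  · have h1 : ((y k : LocC X x)) = 0 := by
      rw [(hm k hk).2, lmk_eq_zero_iff]
      exact ⟨u, hzero k hk⟩
    rw [DirectSum.zero_apply]
    exact_mod_cast h1
  · rw [DFinsupp.notMem_support_iff] at hk
    rw [hk]
    rfl

include hx in
lemma coe_loc_surjective :
    Function.Surjective (DirectSum.coeAddMonoidHom (locFam X x e hx)) := by
  classical
  intro ξ
  obtain ⟨m, t, rfl⟩ := exists_lmk x ξ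
  have hmem : ∀ k : ℤ, lmk x ((decompose X.gr m k : X.carrier)) t ∈ locFam X x e hx (k - t * e) := by
    intro k
    refine ⟨t, _, ?_, rfl⟩
    rw [sub_add_cancel]
    exact (decompose X.gr m k).2
  refine ⟨∑ k ∈ (decompose X.gr m).support,
    DirectSum.of (fun g => locFam X x e hx g) (k - t * e) ⟨_, hmem k⟩, ?_⟩
  rw [map_sum]
  simp only [DirectSum.coeAddMonoidHom_of]
  rw [lmk_sum, DirectSum.sum_support_decompose X.gr m]

include hx in
lemma loc_isInternal : DirectSum.IsInternal (locFam X x e hx) :=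
  ⟨coe_loc_injective X x e hx, coe_loc_surjective X x e hx⟩

/-- the decomposition of the localization -/
@[instance_reducible]
noncomputable def locDecomposition : DirectSum.Decomposition (locFam X x e hx) :=
  (loc_isInternal X x e hx).chooseDecomposition

lemma locGradedSMul : SetLike.GradedSMul 𝒜 (locFam X x e hx) where
  smul_mem := by
    rintro d g r ξ hr ⟨t, m, hm, rfl⟩
    rw [vadd_eq_add]
    refine ⟨t, r • m, ?_, smul_lmk x r m t⟩
    have := smul_mem_add 𝒜 X.gr hr hm
    rw [← add_assoc] at this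
    exact this

/-- the localization of a graded module at a homogeneous element -/
noncomputable def locGMod : GrLC.GMod.{u} 𝒜 :=
  letI := locDecomposition X x e hx
  letI := locGradedSMul X x e hx
  GrLC.GMod.of 𝒜 (LocC X x) (locFam X x e hx)

lemma mem_locGMod_gr {g : ℤ} {ξ : LocC X x} :
    (ξ : (locGMod X x e hx).carrier) ∈ (locGMod X x e hx).gr g ↔
      ∃ (t : ℕ) (m : X.carrier), m ∈ X.gr (g + t * e) ∧ ξ = lmk x m t := Iff.rfl

/-- the canonical map into the localization -/
noncomputable def locIn : X.carrier →ₗ[R] (locGMod X x e hx).carrier :=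
  LocalizedModule.mkLinearMap (Submonoid.powers x) X.carrier

lemma locIn_apply (m : X.carrier) : locIn X x e hx m = lmk x m 0 := by
  show LocalizedModule.mk m 1 = LocalizedModule.mk m (den x 0)
  rw [den_zero]

lemma isGrHom_locIn : GrLC.IsGrHom X.gr (locGMod X x e hx).gr (locIn X x e hx) := by
  intro g m hm
  refine ⟨0, m, ?_, locIn_apply X x e hx m⟩
  rw [Nat.cast_zero, zero_mul, add_zero]
  exact hm

lemma locIn_eq_zero_iff (m : X.carrier) : locIn X x e hx m = 0 ↔ ∃ u : ℕ, x ^ u • m = 0 := by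
  rw [locIn_apply]
  exact lmk_eq_zero_iff x m 0

lemma exists_pow_smul_eq_locIn (ξ : (locGMod X x e hx).carrier) :
    ∃ (t : ℕ) (m : X.carrier), x ^ t • ξ = locIn X x e hx m := by
  obtain ⟨m, t, rfl⟩ := exists_lmk x (ξ : LocC X x)
  refine ⟨t, m, ?_⟩
  rw [locIn_apply]
  exact pow_smul_lmk x m t

/-- fractions, as elements of the localized graded module -/
noncomputable def locMk (m : X.carrier) (t : ℕ) : (locGMod X x e hx).carrier := lmk x m t

lemma smul_locMk (r : R) (m : X.carrier) (t : ℕ) :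
    r • locMk X x e hx m t = locMk X x e hx (r • m) t :=
  smul_lmk x r m t

lemma exists_locMk (ξ : (locGMod X x e hx).carrier) :
    ∃ (m : X.carrier) (t : ℕ), ξ = locMk X x e hx m t :=
  exists_lmk x (ξ : LocC X x)

lemma locMk_eq_zero_iff (m : X.carrier) (t : ℕ) :
    locMk X x e hx m t = 0 ↔ ∃ u : ℕ, x ^ u • m = 0 :=
  lmk_eq_zero_iff x m t

lemma locMk_raise (m : X.carrier) (u t : ℕ) :
    locMk X x e hx m t = locMk X x e hx (x ^ u • m) (u + t) :=
  lmk_raise x m u t

lemma pow_smul_locMk (m : X.carrier) (t : ℕ) :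
    x ^ t • locMk X x e hx m t = locIn X x e hx m := by
  rw [locIn_apply]
  exact pow_smul_lmk x m t

lemma smul_bijective :
    Function.Bijective (fun ξ : (locGMod X x e hx).carrier => x • ξ) := by
  have hunit := IsLocalizedModule.map_units
    (LocalizedModule.mkLinearMap (Submonoid.powers x) X.carrier) (⟨x, 1, pow_one x⟩ : Submonoid.powers x)
  have := (Module.End.isUnit_iff _).mp hunit
  exact this

end Graded

section Map

variable (X Y Z : GrLC.GMod.{u} 𝒜) (x : R) (e : ℤ) (hx : x ∈ 𝒜 e)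

/-- the localization of a linear map -/
noncomputable def locMap (f : X.carrier →ₗ[R] Y.carrier) :
    (locGMod X x e hx).carrier →ₗ[R] (locGMod Y x e hx).carrier :=
  IsLocalizedModule.map (Submonoid.powers x)
    (LocalizedModule.mkLinearMap (Submonoid.powers x) X.carrier)
    (LocalizedModule.mkLinearMap (Submonoid.powers x) Y.carrier) f

lemma locMap_lmk (f : X.carrier →ₗ[R] Y.carrier) (m : X.carrier) (t : ℕ) :
    locMap X Y x e hx f (lmk x m t) = lmk x (f m) t :=
  IsLocalizedModule.map_LocalizedModules (Submonoid.powers x) f m (den x t)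

lemma locMap_locMk (f : X.carrier →ₗ[R] Y.carrier) (m : X.carrier) (t : ℕ) :
    locMap X Y x e hx f (locMk X x e hx m t) = locMk Y x e hx (f m) t :=
  locMap_lmk X Y x e hx f m t

lemma locMap_locIn (f : X.carrier →ₗ[R] Y.carrier) (m : X.carrier) :
    locMap X Y x e hx f (locIn X x e hx m) = locIn Y x e hx (f m) := by
  rw [locIn_apply, locIn_apply, locMap_lmk]

lemma isGrHom_locMap (f : X.carrier →ₗ[R] Y.carrier) (hf : GrLC.IsGrHom X.gr Y.gr f) :
    GrLC.IsGrHom (locGMod X x e hx).gr (locGMod Y x e hx).gr (locMap X Y x e hx f) := by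
  rintro g ξ ⟨t, m, hm, rfl⟩
  exact ⟨t, f m, hf _ m hm, locMap_lmk X Y x e hx f m t⟩

lemma locMap_ext (F G : (locGMod X x e hx).carrier →ₗ[R] (locGMod Y x e hx).carrier)
    (h : ∀ (m : X.carrier) (t : ℕ), F (lmk x m t) = G (lmk x m t)) : F = G := by
  apply LinearMap.ext
  intro ξ
  obtain ⟨m, t, rfl⟩ := exists_lmk x (ξ : LocC X x)
  exact h m t

lemma locMap_comp (f : X.carrier →ₗ[R] Y.carrier) (f' : Y.carrier →ₗ[R] Z.carrier) :
    locMap X Z x e hx (f' ∘ₗ f) = locMap Y Z x e hx f' ∘ₗ locMap X Y x e hx f := by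
  apply locMap_ext
  intro m t
  rw [LinearMap.comp_apply, locMap_lmk, locMap_lmk, locMap_lmk, LinearMap.comp_apply]

lemma locMap_id : locMap X X x e hx LinearMap.id = LinearMap.id := by
  apply locMap_ext
  intro m t
  rw [locMap_lmk, LinearMap.id_apply, LinearMap.id_apply]

lemma locMap_zero : locMap X Y x e hx 0 = 0 := by
  apply locMap_ext
  intro m t
  rw [locMap_lmk, LinearMap.zero_apply, LinearMap.zero_apply, lmk_zero]
  rfl

lemma locMap_add (f f' : X.carrier →ₗ[R] Y.carrier) :
    locMap X Y x e hx (f + f') = locMap X Y x e hx f + locMap X Y x e hx f' := by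
  unfold locMap
  rw [map_add]
  rfl

lemma locMap_sub (f f' : X.carrier →ₗ[R] Y.carrier) :
    locMap X Y x e hx (f - f') = locMap X Y x e hx f - locMap X Y x e hx f' := by
  unfold locMap
  rw [map_sub]
  rfl

lemma locMap_neg (f : X.carrier →ₗ[R] Y.carrier) :
    locMap X Y x e hx (-f) = -locMap X Y x e hx f := by
  unfold locMap
  rw [map_neg]
  rfl

lemma locMap_smul (r : R) (f : X.carrier →ₗ[R] Y.carrier) :
    locMap X Y x e hx (r • f) = r • locMap X Y x e hx f := by
  unfold locMap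
  rw [map_smul]
  rfl

lemma locMap_sum {ι : Type*} (s : Finset ι) (f : ι → (X.carrier →ₗ[R] Y.carrier)) :
    locMap X Y x e hx (∑ k ∈ s, f k) = ∑ k ∈ s, locMap X Y x e hx (f k) := by
  unfold locMap
  rw [map_sum]
  rfl

lemma locMap_apply_comp (f : X.carrier →ₗ[R] Y.carrier) (f' : Y.carrier →ₗ[R] Z.carrier)
    (ξ : (locGMod X x e hx).carrier) :
    locMap Y Z x e hx f' (locMap X Y x e hx f ξ) = locMap X Z x e hx (f' ∘ₗ f) ξ := by
  rw [locMap_comp]
  rfl

end Map

end Groth.Agent.Lib.Helper6.SegK
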