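import Mathlib
import Groth.Prelude.Def_GrLC
import Groth.Prelude.Def_Wider
import Groth.Agent.Lib.Helper8.LC33
import Groth.Agent.Lib.Helper6.CMReg.CRb

set_option autoImplicit false
set_option linter.unusedSectionVars false
set_option linter.unusedVariables false
set_option linter.unusedSimpArgs false
set_option linter.style.haveILetI false
set_option maxHeartbeats 400000

/-!
# Graded modules without local cohomology: modules on which a homogeneous element of positive degree
acts bijectively, their biproducts and retracts (helper6)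
-/

universe u

namespace Groth.Agent.Lib.Helper6.SegK

open CategoryTheory DirectSum Groth.Agent.Helper9.GrLCLib Groth.Agent.Helper8.LC
open Groth.Agent.Lib.Helper6.CMReg

variable {R : Type u} [CommRing R] [IsNoetherianRing R] {𝒜 : ℤ → AddSubgroup R} [GradedRing 𝒜]

section Split

variable (a : HomogeneousIdeal 𝒜) (A B C : GrLC.GMod.{u} 𝒜)
  (i1 : A.carrier →ₗ[R] B.carrier) (r1 : B.carrier →ₗ[R] A.carrier)
  (i2 : C.carrier →ₗ[R] B.carrier) (r2 : B.carrier →ₗ[R] C.carrier)

lemma split_comp_eq_zero (h11 : r1 ∘ₗ i1 = LinearMap.id) (h22 : r2 ∘ₗ i2 = LinearMap.id)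
    (hsum : i1 ∘ₗ r1 + i2 ∘ₗ r2 = LinearMap.id) : r2 ∘ₗ i1 = 0 := by
  apply LinearMap.ext
  intro x
  have h1 : i1 (r1 (i1 x)) + i2 (r2 (i1 x)) = i1 x := LinearMap.congr_fun hsum (i1 x)
  have h2 : r1 (i1 x) = x := LinearMap.congr_fun h11 x
  rw [h2] at h1
  have h3 : i2 (r2 (i1 x)) = 0 := by
    have := h1
    rwa [add_eq_left] at this
  have h4 : r2 (i2 (r2 (i1 x))) = r2 (i1 x) := LinearMap.congr_fun h22 (r2 (i1 x))
  rw [h3, map_zero] at h4
  exact h4.symm

/-- vanishing for a biproduct -/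
theorem van_of_split (hi1 : GrLC.IsGrHom A.gr B.gr i1) (hr2 : GrLC.IsGrHom B.gr C.gr r2)
    (h11 : r1 ∘ₗ i1 = LinearMap.id) (h22 : r2 ∘ₗ i2 = LinearMap.id)
    (hsum : i1 ∘ₗ r1 + i2 ∘ₗ r2 = LinearMap.id) (q : ℕ) (k : ℤ)
    (hA : Van a A q k) (hC : Van a C q k) : Van a B q k := by
  have h0 := split_comp_eq_zero A B C i1 r1 i2 r2 h11 h22 hsum
  have hS : (sesOf i1 r2 h0).ShortExact := by
    apply sesOf_shortExact
    · intro x y hxy
      have hx : r1 (i1 x) = x := LinearMap.congr_fun h11 x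
      have hy : r1 (i1 y) = y := LinearMap.congr_fun h11 y
      rw [← hx, ← hy, hxy]
    · intro c
      exact ⟨i2 c, LinearMap.congr_fun h22 c⟩
    · ext b
      constructor
      · intro hb
        have h1 : i1 (r1 b) + i2 (r2 b) = b := LinearMap.congr_fun hsum b
        rw [LinearMap.mem_ker.mp hb, map_zero, add_zero] at h1
        exact ⟨r1 b, h1⟩
      · rintro ⟨x, rfl⟩
        exact LinearMap.congr_fun h0 x
  exact van_mid a A B C i1 r2 h0 hS hi1 hr2 q k hA hC

end Split

/-- the class of graded modules generated, under biproducts and retracts, by the modules on which a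
homogeneous element of positive degree acts bijectively -/
inductive BC : GrLC.GMod.{u} 𝒜 → Prop
  | bij (X : GrLC.GMod.{u} 𝒜) (x : R) (e : ℤ) (he : 0 < e) (hx : x ∈ 𝒜 e)
      (hb : Function.Bijective (fun m : X.carrier => x • m)) : BC X
  | split (A B C : GrLC.GMod.{u} 𝒜)
      (i1 : A.carrier →ₗ[R] B.carrier) (r1 : B.carrier →ₗ[R] A.carrier)
      (i2 : C.carrier →ₗ[R] B.carrier) (r2 : B.carrier →ₗ[R] C.carrier)
      (hi1 : GrLC.IsGrHom A.gr B.gr i1) (hr1 : GrLC.IsGrHom B.gr A.gr r1)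
      (hi2 : GrLC.IsGrHom C.gr B.gr i2) (hr2 : GrLC.IsGrHom B.gr C.gr r2)
      (h11 : r1 ∘ₗ i1 = LinearMap.id) (h22 : r2 ∘ₗ i2 = LinearMap.id)
      (hsum : i1 ∘ₗ r1 + i2 ∘ₗ r2 = LinearMap.id) : BC A → BC C → BC B
  | retract (X Y : GrLC.GMod.{u} 𝒜) (f : X.carrier →ₗ[R] Y.carrier)
      (g : Y.carrier →ₗ[R] X.carrier) (hf : GrLC.IsGrHom X.gr Y.gr f)
      (hg : GrLC.IsGrHom Y.gr X.gr g) (hfg : f ∘ₗ g = LinearMap.id) : BC X → BC Y

/-- modules of the class `BC` have no local cohomology at an ideal containing all the homogeneous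
elements of positive degree -/
theorem BC.van {X : GrLC.GMod.{u} 𝒜} (hX : BC X) (a : HomogeneousIdeal 𝒜)
    (ha : ∀ e : ℤ, 0 < e → ∀ x ∈ 𝒜 e, x ∈ a.toIdeal) (q : ℕ) (k : ℤ) : Van a X q k := by
  induction hX generalizing k with
  | bij X x e he hx hb =>
    intro z hz
    haveI := subsingleton_of_smul_bijective a.toIdeal x (ha e he x hx) q X.carrier hb
    exact Subsingleton.elim _ _
  | split A B C i1 r1 i2 r2 hi1 hr1 hi2 hr2 h11 h22 hsum hA hC ihA ihC =>
    exact van_of_split a A B C i1 r1 i2 r2 hi1 hr2 h11 h22 hsum q k (ihA k) (ihC k)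
  | retract X Y f g hf hg hfg hX ih =>
    refine van_of_retract a X Y f g hfg 0 ?_ q k ?_
    · intro d x hx
      rw [add_zero]
      exact hg d x hx
    · rw [add_zero]
      exact ih k

/-- the zero module is in the class -/
theorem BC.of_subsingleton (X : GrLC.GMod.{u} 𝒜) (hX : Subsingleton X.carrier) : BC X := by
  refine BC.bij X 0 1 one_pos (zero_mem _) ⟨fun x y _ => Subsingleton.elim _ _, fun y => ⟨y, Subsingleton.elim _ _⟩⟩

/-- the class is closed under graded isomorphisms -/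
theorem BC.of_equiv {X Y : GrLC.GMod.{u} 𝒜} (hX : BC X) (e : X.carrier ≃ₗ[R] Y.carrier)
    (he : GrLC.IsGrHom X.gr Y.gr e.toLinearMap) (he' : GrLC.IsGrHom Y.gr X.gr e.symm.toLinearMap) :
    BC Y :=
  BC.retract X Y e.toLinearMap e.symm.toLinearMap he he' e.comp_symm hX

/-- the class is closed under products -/
theorem BC.prod {X Y : GrLC.GMod.{u} 𝒜} (hX : BC X) (hY : BC Y) : BC (prodGMod X Y) := by
  refine BC.split X (prodGMod X Y) Y (LinearMap.inl R X.carrier Y.carrier)
    (LinearMap.fst R X.carrier Y.carrier) (LinearMap.inr R X.carrier Y.carrier)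
    (LinearMap.snd R X.carrier Y.carrier) ?_ ?_ ?_ ?_ ?_ ?_ ?_ hX hY
  · intro g x hx
    exact ⟨hx, zero_mem _⟩
  · intro g z hz
    exact hz.1
  · intro g y hy
    exact ⟨zero_mem _, hy⟩
  · intro g z hz
    exact hz.2
  · exact LinearMap.fst_comp_inl R X.carrier Y.carrier
  · exact LinearMap.snd_comp_inr R X.carrier Y.carrier
  · apply LinearMap.ext
    rintro ⟨x, y⟩
    show (x, (0 : Y.carrier)) + ((0 : X.carrier), y) = (x, y)
    rw [Prod.mk_add_mk, add_zero, zero_add]

end Groth.Agent.Lib.Helper6.SegK
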