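import Mathlib
import Groth.Prelude.Def_GrLC
import Groth.Prelude.Def_Wider
import Groth.Agent.Lib.Helper6.SegK.SKb
import Groth.Agent.Lib.Helper6.SegK.SKc
import Groth.Agent.Lib.Helper6.SegK.SKd

set_option autoImplicit false
set_option linter.unusedSectionVars false
set_option linter.unusedVariables false
set_option linter.unusedSimpArgs false
set_option linter.style.haveILetI false
set_option maxHeartbeats 400000

/-!
# The Čech complex of a graded module as a differential graded module (helper6)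

A `CPack X ys` is the total module of the (extended) Čech complex of the graded module `X` on the
homogeneous elements `ys`, with its differential and the projections onto the terms.
-/

universe u

namespace Groth.Agent.Lib.Helper6.SegK

open CategoryTheory DirectSum Groth.Agent.Helper9.GrLCLib Groth.Agent.Helper8.LC
open Groth.Agent.Lib.Helper6.CMReg

variable {R : Type u} [CommRing R] [IsNoetherianRing R] {𝒜 : ℤ → AddSubgroup R} [GradedRing 𝒜]

/-- the total module of the Čech complex -/
structure CPack (X : GrLC.GMod.{u} 𝒜) (ys : List R) where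
  /-- the total module -/
  T : GrLC.GMod.{u} 𝒜
  /-- the differential -/
  D : T.carrier →ₗ[R] T.carrier
  D_gr : GrLC.IsGrHom T.gr T.gr D
  D_D : ∀ z, D (D z) = 0
  /-- the projections onto the terms -/
  p : ℕ → (T.carrier →ₗ[R] T.carrier)
  p_gr : ∀ j, GrLC.IsGrHom T.gr T.gr (p j)
  p_p : ∀ i j z, p i (p j z) = if i = j then p j z else 0
  p_sum : ∀ z, ∑ j ∈ Finset.range (ys.length + 1), p j z = z
  p_big : ∀ j, ys.length < j → p j = 0
  D_p : ∀ j z, D (p j z) = p (j + 1) (D z)
  p0_D : ∀ z, p 0 (D z) = 0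
  /-- the identification of `X` with the term of degree zero -/
  φ : X.carrier →ₗ[R] T.carrier
  φ_gr : GrLC.IsGrHom X.gr T.gr φ
  φ_inj : Function.Injective φ
  φ_range : LinearMap.range φ = LinearMap.range (p 0)
  tors : ∀ y ∈ ys, ∀ z, D z = 0 → ∃ (t : ℕ) (w : T.carrier), D w = y ^ t • z
  triv : ∀ j, 1 ≤ j → BC (subGMod T (LinearMap.range (p j)) (range_isHomogeneous T.gr T.gr (p_gr j)))

namespace CPack

variable {X : GrLC.GMod.{u} 𝒜}

/-- the Čech complex on no elements -/
noncomputable def nil : CPack X [] where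
  T := X
  D := 0
  D_gr := fun g x hx => zero_mem _
  D_D := fun z => rfl
  p := fun j => if j = 0 then LinearMap.id else 0
  p_gr := by
    intro j g x hx
    by_cases hj : j = 0
    · rw [if_pos hj]
      exact hx
    · rw [if_neg hj]
      exact zero_mem _
  p_p := by
    intro i j z
    by_cases hi : i = 0
    · by_cases hj : j = 0
      · rw [if_pos hi, if_pos hj, if_pos (hi.trans hj.symm)]
        rfl
      · rw [if_pos hi, if_neg hj]
        have : i ≠ j := fun h => hj (h ▸ hi)
        rw [if_neg this]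
        rfl
    · rw [if_neg hi]
      by_cases hj : j = 0
      · rw [if_pos hj]
        have : i ≠ j := fun h => hi (h.trans hj)
        rw [if_neg this]
        rfl
      · rw [if_neg hj]
        simp
  p_sum := by
    intro z
    simp
  p_big := by
    intro j hj
    have : j ≠ 0 := by
      simp at hj
      omega
    rw [if_neg this]
  D_p := by
    intro j z
    simp
  p0_D := by
    intro z
    simp
  φ := LinearMap.id
  φ_gr := fun g x hx => hx
  φ_inj := fun x y h => h
  φ_range := by
    simp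
  tors := by
    intro y hy
    simp at hy
  triv := by
    intro j hj
    apply BC.of_subsingleton
    have hj0 : j ≠ 0 := by omega
    constructor
    intro x y
    apply subMap_injective
    have hx := subMap_mem _ _ _ x
    have hy := subMap_mem _ _ _ y
    have h2 : ∀ v : X.carrier, v ∈ LinearMap.range
        (if j = 0 then LinearMap.id else (0 : X.carrier →ₗ[R] X.carrier)) → v = 0 := by
      intro v hv
      rw [if_neg hj0] at hv
      obtain ⟨_, rfl⟩ := hv
      rfl
    rw [h2 _ hx, h2 _ hy]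

section Basic

variable {ys : List R} (K : CPack X ys)

lemma p_comp (i j : ℕ) : K.p i ∘ₗ K.p j = if i = j then K.p j else 0 := by
  apply LinearMap.ext
  intro z
  rw [LinearMap.comp_apply, K.p_p]
  by_cases h : i = j
  · rw [if_pos h, if_pos h]
  · rw [if_neg h, if_neg h]
    rfl

lemma p_idem (j : ℕ) (z : K.T.carrier) : K.p j (K.p j z) = K.p j z := by
  rw [K.p_p, if_pos rfl]

lemma p_ne {i j : ℕ} (h : i ≠ j) (z : K.T.carrier) : K.p i (K.p j z) = 0 := by
  rw [K.p_p, if_neg h]

lemma p_of_mem {j : ℕ} {z : K.T.carrier} (hz : z ∈ LinearMap.range (K.p j)) : K.p j z = z := by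
  obtain ⟨w, rfl⟩ := hz
  exact K.p_idem j w

lemma D_comp : K.D ∘ₗ K.D = 0 := LinearMap.ext K.D_D

lemma sum_p : ∑ j ∈ Finset.range (ys.length + 1), K.p j = LinearMap.id := by
  apply LinearMap.ext
  intro z
  rw [LinearMap.sum_apply]
  exact K.p_sum z

end Basic

section Cons

variable {ys : List R} (K : CPack X ys) (y : R) (e : ℤ) (hy : y ∈ 𝒜 e)

/-- the carrier of the total module of the Čech complex with one more element -/
abbrev ConsC : Type u := K.T.carrier × (locGMod K.T y e hy).carrier

/-- the total module of the Čech complex with one more element -/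
noncomputable abbrev consT : GrLC.GMod.{u} 𝒜 := prodGMod K.T (locGMod K.T y e hy)

/-- the differential of the Čech complex with one more element -/
noncomputable def consD : ConsC K y e hy →ₗ[R] ConsC K y e hy :=
  LinearMap.prod (K.D ∘ₗ LinearMap.fst R _ _)
    (locIn K.T y e hy ∘ₗ LinearMap.fst R _ _ - locMap K.T K.T y e hy K.D ∘ₗ LinearMap.snd R _ _)

lemma consD_apply (c : K.T.carrier) (c' : (locGMod K.T y e hy).carrier) :
    consD K y e hy (c, c') = (K.D c, locIn K.T y e hy c - locMap K.T K.T y e hy K.D c') := rfl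

/-- the projections of the Čech complex with one more element -/
noncomputable def consP : ℕ → (ConsC K y e hy →ₗ[R] ConsC K y e hy)
  | 0 => LinearMap.prod (K.p 0 ∘ₗ LinearMap.fst R _ _) 0
  | (j + 1) => LinearMap.prod (K.p (j + 1) ∘ₗ LinearMap.fst R _ _)
      (locMap K.T K.T y e hy (K.p j) ∘ₗ LinearMap.snd R _ _)

lemma consP_zero_apply (c : K.T.carrier) (c' : (locGMod K.T y e hy).carrier) :
    consP K y e hy 0 (c, c') = (K.p 0 c, 0) := rfl

lemma consP_succ_apply (j : ℕ) (c : K.T.carrier) (c' : (locGMod K.T y e hy).carrier) :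
    consP K y e hy (j + 1) (c, c') = (K.p (j + 1) c, locMap K.T K.T y e hy (K.p j) c') := rfl

lemma locD_locD (c' : (locGMod K.T y e hy).carrier) :
    locMap K.T K.T y e hy K.D (locMap K.T K.T y e hy K.D c') = 0 := by
  rw [locMap_apply_comp, K.D_comp, locMap_zero]
  rfl

lemma locP_locP (i j : ℕ) (c' : (locGMod K.T y e hy).carrier) :
    locMap K.T K.T y e hy (K.p i) (locMap K.T K.T y e hy (K.p j) c') =
      if i = j then locMap K.T K.T y e hy (K.p j) c' else 0 := by
  rw [locMap_apply_comp, K.p_comp]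
  by_cases h : i = j
  · rw [if_pos h, if_pos h]
  · rw [if_neg h, if_neg h, locMap_zero]
    rfl

lemma locD_locP (j : ℕ) (c' : (locGMod K.T y e hy).carrier) :
    locMap K.T K.T y e hy K.D (locMap K.T K.T y e hy (K.p j) c') =
      locMap K.T K.T y e hy (K.p (j + 1)) (locMap K.T K.T y e hy K.D c') := by
  rw [locMap_apply_comp, locMap_apply_comp]
  congr 2
  apply LinearMap.ext
  intro z
  exact K.D_p j z

lemma locP0_locD (c' : (locGMod K.T y e hy).carrier) :
    locMap K.T K.T y e hy (K.p 0) (locMap K.T K.T y e hy K.D c') = 0 := by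
  rw [locMap_apply_comp]
  have : K.p 0 ∘ₗ K.D = 0 := LinearMap.ext K.p0_D
  rw [this, locMap_zero]
  rfl

lemma consD_gr : GrLC.IsGrHom (consT K y e hy).gr (consT K y e hy).gr (consD K y e hy) := by
  rintro g ⟨c, c'⟩ ⟨hc, hc'⟩
  refine ⟨K.D_gr g c hc, ?_⟩
  show locIn K.T y e hy c - locMap K.T K.T y e hy K.D c' ∈ (locGMod K.T y e hy).gr g
  exact sub_mem (isGrHom_locIn K.T y e hy g c hc)
    (isGrHom_locMap K.T K.T y e hy K.D K.D_gr g c' hc')

lemma consD_consD (z : ConsC K y e hy) : consD K y e hy (consD K y e hy z) = 0 := by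
  obtain ⟨c, c'⟩ := z
  rw [consD_apply, consD_apply, K.D_D, map_sub, locMap_locIn, locD_locD, sub_zero, sub_self]
  rfl

lemma consP_gr (j : ℕ) :
    GrLC.IsGrHom (consT K y e hy).gr (consT K y e hy).gr (consP K y e hy j) := by
  rintro g ⟨c, c'⟩ ⟨hc, hc'⟩
  cases j with
  | zero => exact ⟨K.p_gr 0 g c hc, zero_mem _⟩
  | succ j =>
    exact ⟨K.p_gr (j + 1) g c hc, isGrHom_locMap K.T K.T y e hy (K.p j) (K.p_gr j) g c' hc'⟩

lemma consP_consP (i j : ℕ) (z : ConsC K y e hy) :
    consP K y e hy i (consP K y e hy j z) = if i = j then consP K y e hy j z else 0 := by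
  obtain ⟨c, c'⟩ := z
  cases i with
  | zero =>
    cases j with
    | zero =>
      rw [if_pos rfl, consP_zero_apply, consP_zero_apply, K.p_idem]
    | succ j =>
      rw [if_neg (by omega), consP_succ_apply, consP_zero_apply, K.p_ne (by omega)]
      rfl
  | succ i =>
    cases j with
    | zero =>
      rw [if_neg (by omega), consP_zero_apply, consP_succ_apply, K.p_ne (by omega), map_zero]
      rfl
    | succ j =>
      rw [consP_succ_apply, consP_succ_apply, K.p_p, locP_locP]
      by_cases h : i = j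
      · rw [if_pos h, if_pos (by omega), if_pos (by omega)]
      · rw [if_neg h, if_neg (by omega), if_neg (by omega)]
        rfl

lemma consP_sum (z : ConsC K y e hy) :
    ∑ j ∈ Finset.range ((y :: ys).length + 1), consP K y e hy j z = z := by
  obtain ⟨c, c'⟩ := z
  rw [List.length_cons, Finset.sum_range_succ']
  apply Prod.ext
  · rw [Prod.fst_add, Prod.fst_sum]
    show ∑ j ∈ Finset.range (ys.length + 1), K.p (j + 1) c + K.p 0 c = c
    rw [← Finset.sum_range_succ' (fun j => K.p j c), Finset.sum_range_succ, K.p_sum,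
      K.p_big _ (by omega)]
    simp
  · rw [Prod.snd_add, Prod.snd_sum]
    show ∑ j ∈ Finset.range (ys.length + 1), locMap K.T K.T y e hy (K.p j) c' + 0 = c'
    rw [add_zero, ← LinearMap.sum_apply, ← locMap_sum, K.sum_p, locMap_id]
    rfl

lemma consP_big (j : ℕ) (hj : (y :: ys).length < j) : consP K y e hy j = 0 := by
  rw [List.length_cons] at hj
  obtain ⟨j', rfl⟩ : ∃ j', j = j' + 1 := ⟨j - 1, by omega⟩
  apply LinearMap.ext
  rintro ⟨c, c'⟩
  rw [consP_succ_apply, K.p_big _ (by omega), K.p_big j' (by omega), locMap_zero]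
  rfl

lemma consD_consP (j : ℕ) (z : ConsC K y e hy) :
    consD K y e hy (consP K y e hy j z) = consP K y e hy (j + 1) (consD K y e hy z) := by
  obtain ⟨c, c'⟩ := z
  cases j with
  | zero =>
    rw [consP_zero_apply, consD_apply, consD_apply, consP_succ_apply, map_zero, sub_zero, map_sub,
      locP0_locD, sub_zero, locMap_locIn, K.D_p]
  | succ j =>
    rw [consP_succ_apply, consD_apply, consD_apply, consP_succ_apply, map_sub, locMap_locIn,
      locD_locP, K.D_p]

lemma consP0_consD (z : ConsC K y e hy) : consP K y e hy 0 (consD K y e hy z) = 0 := by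
  obtain ⟨c, c'⟩ := z
  rw [consD_apply, consP_zero_apply, K.p0_D]
  rfl

/-- the augmentation of the Čech complex with one more element -/
noncomputable def consφ : X.carrier →ₗ[R] ConsC K y e hy :=
  LinearMap.inl R _ _ ∘ₗ K.φ

lemma consφ_apply (x : X.carrier) : consφ K y e hy x = (K.φ x, 0) := rfl

lemma consφ_range : LinearMap.range (consφ K y e hy) = LinearMap.range (consP K y e hy 0) := by
  ext z
  constructor
  · rintro ⟨x, rfl⟩
    have h1 : K.φ x ∈ LinearMap.range (K.p 0) := by
      rw [← K.φ_range]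
      exact ⟨x, rfl⟩
    obtain ⟨c, hc⟩ := h1
    refine ⟨(c, 0), ?_⟩
    rw [consP_zero_apply, consφ_apply, hc]
  · rintro ⟨⟨c, c'⟩, rfl⟩
    have h1 : K.p 0 c ∈ LinearMap.range K.φ := by
      rw [K.φ_range]
      exact ⟨c, rfl⟩
    obtain ⟨x, hx⟩ := h1
    refine ⟨x, ?_⟩
    rw [consP_zero_apply, consφ_apply, hx]

/-- cocycles of the localized complex are killed by powers of the old elements -/
lemma loc_tors (y' : R) (hy' : y' ∈ ys) (c' : (locGMod K.T y e hy).carrier)
    (hc' : locMap K.T K.T y e hy K.D c' = 0) :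
    ∃ (t : ℕ) (w : (locGMod K.T y e hy).carrier), locMap K.T K.T y e hy K.D w = y' ^ t • c' := by
  obtain ⟨b, s, rfl⟩ := exists_locMk K.T y e hy c'
  have h1 : locMk K.T y e hy (K.D b) s = 0 := by
    rw [← locMap_locMk K.T K.T y e hy K.D b s]
    exact hc'
  obtain ⟨u, hu⟩ := (locMk_eq_zero_iff K.T y e hy (K.D b) s).mp h1
  have h2 : K.D (y ^ u • b) = 0 := by rw [map_smul, hu]
  obtain ⟨t, w0, hw0⟩ := K.tors y' hy' _ h2
  refine ⟨t, locMk K.T y e hy w0 (u + s), ?_⟩
  rw [locMap_locMk, hw0, smul_locMk, locMk_raise K.T y e hy (y' ^ t • b) u s, smul_comm]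

lemma cons_tors (y' : R) (hy' : y' ∈ y :: ys) (z : ConsC K y e hy)
    (hz : consD K y e hy z = 0) :
    ∃ (t : ℕ) (w : ConsC K y e hy), consD K y e hy w = y' ^ t • z := by
  obtain ⟨c, c'⟩ := z
  rw [consD_apply, Prod.mk_eq_zero] at hz
  obtain ⟨hz1, hz2⟩ := hz
  rw [sub_eq_zero] at hz2
  rcases List.mem_cons.mp hy' with rfl | hy''
  · -- the new element
    obtain ⟨b, s, hb'⟩ := exists_locMk K.T y' e hy c'
    have h1 : y' ^ s • c' = locIn K.T y' e hy b := by
      rw [hb']
      exact pow_smul_locMk K.T y' e hy b s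
    have h2 : locIn K.T y' e hy (y' ^ s • c - K.D b) = 0 := by
      rw [map_sub, map_smul, hz2, ← map_smul, h1, locMap_locIn, sub_self]
    obtain ⟨u, hu⟩ := (locIn_eq_zero_iff K.T y' e hy _).mp h2
    rw [smul_sub, sub_eq_zero, smul_smul, ← pow_add] at hu
    refine ⟨u + s, (y' ^ u • b, 0), ?_⟩
    rw [consD_apply, map_zero, sub_zero, map_smul, ← hu, Prod.smul_mk, map_smul, ← h1, smul_smul,
      ← pow_add]
  · -- an old element
    obtain ⟨t, w, hw⟩ := K.tors y' hy'' c hz1
    -- the second component of `y'^t z - D (w, 0)` is a cocycle of the localized complex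
    have h3 : locMap K.T K.T y e hy K.D (y' ^ t • c' - locIn K.T y e hy w) = 0 := by
      rw [map_sub, map_smul, ← hz2, locMap_locIn, hw, map_smul, sub_self]
    obtain ⟨t', w'', hw''⟩ := loc_tors K y e hy y' hy'' _ h3
    refine ⟨t' + t, (y' ^ t' • w, -w''), ?_⟩
    rw [consD_apply, map_smul, hw, map_neg, hw'', Prod.smul_mk, sub_neg_eq_add, smul_sub,
      map_smul, smul_smul, ← pow_add, smul_smul, ← pow_add]
    congr 1
    abel

lemma cons_triv (he : 0 < e) (j : ℕ) (hj : 1 ≤ j) :
    BC (subGMod (consT K y e hy) (LinearMap.range (consP K y e hy j))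
      (range_isHomogeneous (consT K y e hy).gr (consT K y e hy).gr (consP_gr K y e hy j))) := by
  obtain ⟨j', rfl⟩ : ∃ j', j = j' + 1 := ⟨j - 1, by omega⟩
  have hPh := range_isHomogeneous (consT K y e hy).gr (consT K y e hy).gr (consP_gr K y e hy (j' + 1))
  have hph := range_isHomogeneous K.T.gr K.T.gr (K.p_gr (j' + 1))
  let A := subGMod K.T (LinearMap.range (K.p (j' + 1))) hph
  let Q := prodGMod A (locGMod K.T y e hy)
  let B := subGMod (consT K y e hy) (LinearMap.range (consP K y e hy (j' + 1))) hPh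
  have hQ : BC Q :=
    BC.prod (K.triv (j' + 1) (by omega)) (BC.bij _ y e he hy (smul_bijective K.T y e hy))
  let f0 : Q.carrier →ₗ[R] ConsC K y e hy :=
    consP K y e hy (j' + 1) ∘ₗ
      LinearMap.prodMap (subMap K.T _ hph) (LinearMap.id : (locGMod K.T y e hy).carrier →ₗ[R] _)
  let f : Q.carrier →ₗ[R] B.carrier := subLift (consT K y e hy) _ hPh f0 (fun x => ⟨_, rfl⟩)
  have hfst : ∀ x : B.carrier,
      (subMap (consT K y e hy) _ hPh x).1 ∈ LinearMap.range (K.p (j' + 1)) := by
    intro x
    obtain ⟨⟨c, c'⟩, hc⟩ := subMap_mem (consT K y e hy) _ hPh x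
    have h3 : (subMap (consT K y e hy) _ hPh x).1 = K.p (j' + 1) c := by
      rw [← hc]
      rfl
    rw [h3]
    exact ⟨c, rfl⟩
  let g1 : B.carrier →ₗ[R] A.carrier :=
    subLift K.T _ hph (LinearMap.fst R K.T.carrier (locGMod K.T y e hy).carrier ∘ₗ
      subMap (consT K y e hy) _ hPh) hfst
  let g2 : B.carrier →ₗ[R] (locGMod K.T y e hy).carrier :=
    LinearMap.snd R K.T.carrier (locGMod K.T y e hy).carrier ∘ₗ subMap (consT K y e hy) _ hPh
  let g : B.carrier →ₗ[R] Q.carrier := LinearMap.prod g1 g2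
  have hf : ∀ (a' : A.carrier) (c' : (locGMod K.T y e hy).carrier),
      subMap (consT K y e hy) _ hPh (f (a', c')) =
        consP K y e hy (j' + 1) (subMap K.T _ hph a', c') := fun a' c' => rfl
  have hg1 : ∀ x : B.carrier, subMap K.T _ hph (g1 x) = (subMap (consT K y e hy) _ hPh x).1 :=
    fun x => rfl
  have hg2 : ∀ x : B.carrier, g2 x = (subMap (consT K y e hy) _ hPh x).2 := fun x => rfl
  have hg : ∀ x : B.carrier, g x = (g1 x, g2 x) := fun x => rfl
  refine BC.retract Q B f g ?_ ?_ ?_ hQ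
  · rintro d ⟨a', c'⟩ ⟨ha', hc'⟩
    apply (mem_subGMod_gr (consT K y e hy) _ hPh d _).mpr
    rw [hf]
    apply consP_gr K y e hy (j' + 1) d
    exact ⟨(mem_subGMod_gr K.T _ hph d a').mp ha', hc'⟩
  · intro d x hx
    have h1 := (mem_subGMod_gr (consT K y e hy) _ hPh d x).mp hx
    rw [hg]
    refine ⟨?_, ?_⟩
    · apply (mem_subGMod_gr K.T _ hph d _).mpr
      rw [hg1]
      exact h1.1
    · rw [hg2]
      exact h1.2
  · apply LinearMap.ext
    intro x
    apply subMap_injective (consT K y e hy) _ hPh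
    rw [LinearMap.comp_apply, LinearMap.id_apply, hg, hf, hg1, hg2]
    obtain ⟨w, hw⟩ := subMap_mem (consT K y e hy) _ hPh x
    have h4 : ((subMap (consT K y e hy) _ hPh x).1, (subMap (consT K y e hy) _ hPh x).2) =
        subMap (consT K y e hy) _ hPh x := rfl
    rw [h4, ← hw]
    exact consP_consP K y e hy (j' + 1) (j' + 1) w |>.trans (if_pos rfl)

/-- the Čech complex with one more element -/
noncomputable def cons (he : 0 < e) : CPack X (y :: ys) where
  T := consT K y e hy
  D := consD K y e hy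
  D_gr := consD_gr K y e hy
  D_D := consD_consD K y e hy
  p := consP K y e hy
  p_gr := consP_gr K y e hy
  p_p := consP_consP K y e hy
  p_sum := consP_sum K y e hy
  p_big := consP_big K y e hy
  D_p := consD_consP K y e hy
  p0_D := consP0_consD K y e hy
  φ := consφ K y e hy
  φ_gr := by
    intro g x hx
    exact ⟨K.φ_gr g x hx, zero_mem _⟩
  φ_inj := by
    intro x x' h
    apply K.φ_inj
    have h' : ((K.φ x, 0) : ConsC K y e hy) = (K.φ x', 0) := h
    exact (Prod.mk.inj h').1
  φ_range := consφ_range K y e hy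
  tors := cons_tors K y e hy
  triv := cons_triv K y e hy he

end Cons

/-- the Čech complex on a list of homogeneous elements of positive degrees exists -/
theorem nonempty_cpack (X : GrLC.GMod.{u} 𝒜) (ys : List R)
    (hys : ∀ y ∈ ys, ∃ e : ℤ, 0 < e ∧ y ∈ 𝒜 e) : Nonempty (CPack X ys) := by
  induction ys with
  | nil => exact ⟨CPack.nil⟩
  | cons y ys ih =>
    obtain ⟨K⟩ := ih (fun y' hy' => hys y' (List.mem_cons_of_mem _ hy'))
    obtain ⟨e, he, hy⟩ := hys y List.mem_cons_self
    exact ⟨K.cons y e hy he⟩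

end CPack

/-- if a power of each generator of an ideal carries `z` into `B`, so does a power of the ideal -/
lemma exists_pow_smul_mem_of_generators {M : Type u} [AddCommGroup M] [Module R M]
    (B : Submodule R M) (z : M) (a : Ideal R) (G : Set R) (ha : a ≤ Ideal.span G)
    (hG : ∀ g ∈ G, ∃ t : ℕ, g ^ t • z ∈ B) : ∃ n : ℕ, ∀ r ∈ a ^ n, r • z ∈ B := by
  have h1 : a ≤ (B.colon {z}).radical := by
    refine ha.trans (Ideal.span_le.mpr ?_)
    intro g hg
    obtain ⟨t, ht⟩ := hG g hg
    exact ⟨t, Submodule.mem_colon_singleton.mpr ht⟩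
  obtain ⟨n, hn⟩ := Ideal.exists_pow_le_of_le_radical_of_fg h1 (IsNoetherian.noetherian a)
  exact ⟨n, fun r hr => Submodule.mem_colon_singleton.mp (hn hr)⟩

namespace CPack

variable {X : GrLC.GMod.{u} 𝒜} {ys : List R} (K : CPack X ys)

/-- the terms of the Čech complex -/
def C (j : ℕ) : Submodule R K.T.carrier := LinearMap.range (K.p j)

lemma C_hom (j : ℕ) : (K.C j).IsHomogeneous K.T.gr :=
  range_isHomogeneous K.T.gr K.T.gr (K.p_gr j)

lemma D_C (j : ℕ) (x : K.T.carrier) (hx : x ∈ K.C j) : K.D x ∈ K.C (j + 1) := by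
  obtain ⟨w, rfl⟩ := hx
  rw [K.D_p]
  exact ⟨_, rfl⟩

/-- a cocycle in the term of degree `j` multiplied by a power of an element `y` of the list is the
coboundary of an element of the term of degree `j - 1` -/
lemma exists_pow_smul_mem_B (y : R) (hy : y ∈ ys) (j : ℕ) (z : K.T.carrier) (hz : z ∈ K.C j)
    (hD : K.D z = 0) : ∃ t : ℕ, y ^ t • z ∈ (prevC K.C j).map K.D := by
  obtain ⟨t, w, hw⟩ := K.tors y hy z hD
  refine ⟨t, ?_⟩
  have hpz : K.p j z = z := K.p_of_mem hz
  cases j with
  | zero =>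
    have h0 : y ^ t • z = 0 := by
      rw [← hpz, ← map_smul, ← hw, K.p0_D]
    rw [h0]
    exact Submodule.zero_mem _
  | succ j =>
    refine ⟨K.p j w, ⟨w, rfl⟩, ?_⟩
    rw [K.D_p, hw, map_smul, hpz]

lemma tors' (a : Ideal R) (ha : a ≤ Ideal.span {y | y ∈ ys}) (j : ℕ) (z : K.T.carrier)
    (hz : z ∈ K.C j) (hD : K.D z = 0) :
    ∃ n : ℕ, ∀ r ∈ a ^ n, r • z ∈ (prevC K.C j).map K.D :=
  exists_pow_smul_mem_of_generators _ z a {y | y ∈ ys} ha
    (fun y hy => K.exists_pow_smul_mem_B y hy j z hz hD)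

/-- the Čech complex computes local cohomology -/
noncomputable def toCoPack (a : HomogeneousIdeal 𝒜) (ha : a.toIdeal ≤ Ideal.span {y | y ∈ ys})
    (hpos : ∀ e : ℤ, 0 < e → ∀ x ∈ 𝒜 e, x ∈ a.toIdeal) : CoPack a X where
  T := K.T
  D := K.D
  D_gr := K.D_gr
  D_D := K.D_D
  C := K.C
  C_hom := K.C_hom
  D_C := K.D_C
  φ := K.φ
  φ_gr := K.φ_gr
  φ_inj := K.φ_inj
  φ_range := K.φ_range
  van := fun j hj q g => (K.triv j hj).van a hpos q g
  tors := fun j z hz hD => K.tors' a.toIdeal ha j z hz hD

end CPack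

end Groth.Agent.Lib.Helper6.SegK
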