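import Mathlib

set_option autoImplicit false
set_option linter.unusedSectionVars false
set_option linter.unusedVariables false
set_option linter.unusedSimpArgs false
set_option linter.style.haveILetI false
set_option maxHeartbeats 400000

/-!
# The Künneth formula for complexes of vector spaces, presented as differential graded spaces
(helper6)

A `DGS k U` is a bounded cochain complex of `k`-vector spaces presented as a direct summand of the
vector space `U`: a differential `D` and orthogonal idempotents `p i` (the projections onto the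
terms).
-/

universe u

namespace Groth.Agent.Lib.Helper6.SegK

open scoped TensorProduct

/-- a bounded cochain complex of vector spaces, as a differential and a family of orthogonal
idempotents on a vector space -/
structure DGS (k : Type u) [Field k] (U : Type u) [AddCommGroup U] [Module k U] where
  /-- the differential -/
  D : Module.End k U
  /-- the projections onto the terms -/
  p : ℕ → Module.End k U
  /-- the length -/
  r : ℕ
  D_D : D * D = 0
  p_p : ∀ i j, p i * p j = if i = j then p j else 0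
  D_p : ∀ i, D * p i = p (i + 1) * D
  p0_D : p 0 * D = 0
  p_big : ∀ i, r < i → p i = 0
  D_e : D * ∑ i ∈ Finset.range (r + 1), p i = D

namespace DGS

variable {k : Type u} [Field k] {U : Type u} [AddCommGroup U] [Module k U] (G : DGS k U)

/-- the projection onto the complex -/
def e : Module.End k U := ∑ i ∈ Finset.range (G.r + 1), G.p i

/-- the sign operator -/
def ε : Module.End k U := ∑ i ∈ Finset.range (G.r + 1), ((-1 : k) ^ i) • G.p i

lemma p_idem (i : ℕ) : G.p i * G.p i = G.p i := by rw [G.p_p, if_pos rfl]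

lemma p_ne {i j : ℕ} (h : i ≠ j) : G.p i * G.p j = 0 := by rw [G.p_p, if_neg h]

lemma e_p (i : ℕ) : G.e * G.p i = G.p i := by
  unfold e
  rw [Finset.sum_mul]
  by_cases hi : i ≤ G.r
  · rw [Finset.sum_eq_single i]
    · exact G.p_idem i
    · intro j _ hj
      exact G.p_ne hj
    · intro h
      exact absurd (Finset.mem_range.mpr (by omega)) h
  · rw [G.p_big i (by omega)]
    simp

lemma p_e (i : ℕ) : G.p i * G.e = G.p i := by
  unfold e
  rw [Finset.mul_sum]
  by_cases hi : i ≤ G.r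
  · rw [Finset.sum_eq_single i]
    · exact G.p_idem i
    · intro j _ hj
      exact G.p_ne (Ne.symm hj)
    · intro h
      exact absurd (Finset.mem_range.mpr (by omega)) h
  · rw [G.p_big i (by omega)]
    simp

lemma e_e : G.e * G.e = G.e := by
  show G.e * ∑ i ∈ Finset.range (G.r + 1), G.p i = G.e
  rw [Finset.mul_sum]
  exact Finset.sum_congr rfl (fun i _ => G.e_p i)

lemma D_e' : G.D * G.e = G.D := G.D_e

lemma e_D : G.e * G.D = G.D := by
  have h1 : G.e * G.D = G.D * ∑ i ∈ Finset.range G.r, G.p i := by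
    unfold e
    rw [Finset.sum_mul, Finset.sum_range_succ', G.p0_D, add_zero, Finset.mul_sum]
    exact Finset.sum_congr rfl (fun i _ => (G.D_p i).symm)
  have h2 : G.D = G.D * ∑ i ∈ Finset.range G.r, G.p i := by
    conv_lhs => rw [← G.D_e]
    rw [Finset.sum_range_succ, mul_add, G.D_p, G.p_big (G.r + 1) (by omega), zero_mul, add_zero]
  rw [h1, ← h2]

lemma ε_p (i : ℕ) : G.ε * G.p i = ((-1 : k) ^ i) • G.p i := by
  unfold ε
  rw [Finset.sum_mul]
  by_cases hi : i ≤ G.r
  · rw [Finset.sum_eq_single i]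
    · rw [smul_mul_assoc, G.p_idem]
    · intro j _ hj
      rw [smul_mul_assoc, G.p_ne hj, smul_zero]
    · intro h
      exact absurd (Finset.mem_range.mpr (by omega)) h
  · rw [G.p_big i (by omega)]
    simp

lemma p_ε (i : ℕ) : G.p i * G.ε = ((-1 : k) ^ i) • G.p i := by
  unfold ε
  rw [Finset.mul_sum]
  by_cases hi : i ≤ G.r
  · rw [Finset.sum_eq_single i]
    · rw [mul_smul_comm, G.p_idem]
    · intro j _ hj
      rw [mul_smul_comm, G.p_ne (Ne.symm hj), smul_zero]
    · intro h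
      exact absurd (Finset.mem_range.mpr (by omega)) h
  · rw [G.p_big i (by omega)]
    simp

lemma ε_ε : G.ε * G.ε = G.e := by
  show G.ε * ∑ i ∈ Finset.range (G.r + 1), ((-1 : k) ^ i) • G.p i = G.e
  rw [Finset.mul_sum]
  unfold e
  refine Finset.sum_congr rfl (fun i _ => ?_)
  rw [mul_smul_comm, G.ε_p, smul_smul, ← mul_pow]
  simp

lemma ε_e : G.ε * G.e = G.ε := by
  show G.ε * ∑ i ∈ Finset.range (G.r + 1), G.p i = G.ε
  rw [Finset.mul_sum]
  exact Finset.sum_congr rfl (fun i _ => G.ε_p i)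

lemma e_ε : G.e * G.ε = G.ε := by
  show (∑ i ∈ Finset.range (G.r + 1), G.p i) * G.ε = G.ε
  rw [Finset.sum_mul]
  exact Finset.sum_congr rfl (fun i _ => G.p_ε i)

lemma ε_D : G.ε * G.D = -(G.D * G.ε) := by
  have h1 : G.ε * G.D = ∑ i ∈ Finset.range G.r, ((-1 : k) ^ (i + 1)) • (G.p (i + 1) * G.D) := by
    unfold ε
    rw [Finset.sum_mul, Finset.sum_range_succ', smul_mul_assoc, G.p0_D, smul_zero, add_zero]
    exact Finset.sum_congr rfl (fun i _ => smul_mul_assoc _ _ _)
  have h2 : G.D * G.ε = ∑ i ∈ Finset.range G.r, ((-1 : k) ^ i) • (G.p (i + 1) * G.D) := by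
    unfold ε
    rw [Finset.mul_sum, Finset.sum_range_succ, mul_smul_comm, G.D_p, G.p_big (G.r + 1) (by omega),
      zero_mul, smul_zero, add_zero]
    exact Finset.sum_congr rfl (fun i _ => by rw [mul_smul_comm, G.D_p])
  rw [h1, h2, ← Finset.sum_neg_distrib]
  refine Finset.sum_congr rfl (fun i _ => ?_)
  rw [pow_succ, mul_neg_one, neg_smul]

lemma D_ε : G.D * G.ε = -(G.ε * G.D) := by rw [G.ε_D, neg_neg]

end DGS

section Apply

variable {k : Type u} [Field k] {U : Type u} [AddCommGroup U] [Module k U]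

lemma end_mul_eq {a b c : Module.End k U} (h : a * b = c) (u : U) : a (b u) = c u := by
  rw [← h]
  rfl

lemma end_mul_eq_zero {a b : Module.End k U} (h : a * b = 0) (u : U) : a (b u) = 0 := by
  rw [end_mul_eq h]
  rfl

lemma end_mul_comm {a b c d : Module.End k U} (h : a * b = c * d) (u : U) :
    a (b u) = c (d u) := by
  have := LinearMap.congr_fun h u
  exact this

end Apply

namespace DGS

variable {k : Type u} [Field k] {U : Type u} [AddCommGroup U] [Module k U] (G : DGS k U)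

lemma D_D' (u : U) : G.D (G.D u) = 0 := end_mul_eq_zero G.D_D u

lemma D_p' (i : ℕ) (u : U) : G.D (G.p i u) = G.p (i + 1) (G.D u) := end_mul_comm (G.D_p i) u

lemma p_idem' (i : ℕ) (u : U) : G.p i (G.p i u) = G.p i u := end_mul_eq (G.p_idem i) u

lemma p_ne' {i j : ℕ} (h : i ≠ j) (u : U) : G.p i (G.p j u) = 0 := end_mul_eq_zero (G.p_ne h) u

lemma p0_D' (u : U) : G.p 0 (G.D u) = 0 := end_mul_eq_zero G.p0_D u

lemma e_p' (i : ℕ) (u : U) : G.e (G.p i u) = G.p i u := end_mul_eq (G.e_p i) u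

lemma p_e' (i : ℕ) (u : U) : G.p i (G.e u) = G.p i u := end_mul_eq (G.p_e i) u

lemma e_D' (u : U) : G.e (G.D u) = G.D u := end_mul_eq G.e_D u

lemma D_e'' (u : U) : G.D (G.e u) = G.D u := end_mul_eq G.D_e' u

/-- a generalized inverse of an endomorphism of a vector space -/
lemma exists_ginv (D : Module.End k U) : ∃ g : Module.End k U, ∀ u, D (g (D u)) = D u := by
  obtain ⟨σ, hσ⟩ := LinearMap.exists_rightInverse_of_surjective D.rangeRestrict
    (LinearMap.range_rangeRestrict D)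
  obtain ⟨π, hπ⟩ := LinearMap.exists_leftInverse_of_injective (LinearMap.range D).subtype
    (Submodule.ker_subtype _)
  refine ⟨σ ∘ₗ π, fun u => ?_⟩
  have h1 : π (D u) = ⟨D u, ⟨u, rfl⟩⟩ := LinearMap.congr_fun hπ ⟨D u, ⟨u, rfl⟩⟩
  have h2 : D.rangeRestrict (σ ⟨D u, ⟨u, rfl⟩⟩) = ⟨D u, ⟨u, rfl⟩⟩ :=
    LinearMap.congr_fun hσ ⟨D u, ⟨u, rfl⟩⟩
  rw [LinearMap.comp_apply, h1]
  exact congrArg Subtype.val h2

/-- a graded generalized inverse of the differential -/
lemma exists_graded_ginv : ∃ g : Module.End k U, (∀ i u, g (G.p (i + 1) u) = G.p i (g u)) ∧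
    (∀ u, g (G.p 0 u) = 0) ∧ (∀ u, G.e (g u) = g u) ∧ (∀ u, G.D (g (G.D u)) = G.D u) := by
  obtain ⟨g0, hg0⟩ := exists_ginv G.D
  let g : Module.End k U := ∑ i ∈ Finset.range (G.r + 1), G.p i * g0 * G.p (i + 1)
  have hg : ∀ u, g u = ∑ i ∈ Finset.range (G.r + 1), G.p i (g0 (G.p (i + 1) u)) := by
    intro u
    show (∑ i ∈ Finset.range (G.r + 1), G.p i * g0 * G.p (i + 1)) u = _
    rw [LinearMap.sum_apply]
    rfl
  refine ⟨g, ?_, ?_, ?_, ?_⟩
  · intro j u
    rw [hg, hg, map_sum]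
    by_cases hj : j ≤ G.r
    · rw [Finset.sum_eq_single j, Finset.sum_eq_single j]
      · rw [G.p_idem', G.p_idem']
      · intro i _ hi
        rw [G.p_ne' (Ne.symm hi)]
      · intro h
        exact absurd (Finset.mem_range.mpr (by omega)) h
      · intro i _ hi
        rw [G.p_ne' (by omega), map_zero, map_zero]
      · intro h
        exact absurd (Finset.mem_range.mpr (by omega)) h
    · rw [G.p_big (j + 1) (by omega), G.p_big j (by omega)]
      simp
  · intro u
    rw [hg]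
    apply Finset.sum_eq_zero
    intro i _
    rw [G.p_ne' (by omega), map_zero, map_zero]
  · intro u
    rw [hg, map_sum]
    exact Finset.sum_congr rfl (fun i _ => G.e_p' i _)
  · intro u
    rw [hg, map_sum]
    have h1 : ∀ i ∈ Finset.range (G.r + 1),
        G.D (G.p i (g0 (G.p (i + 1) (G.D u)))) = G.D (G.p i u) := by
      intro i _
      rw [G.D_p', ← G.D_p' i u, hg0, ← G.D_p' i (G.p i u), G.p_idem']
    rw [Finset.sum_congr rfl h1, ← map_sum]
    have h2 : ∑ i ∈ Finset.range (G.r + 1), G.p i u = G.e u := by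
      unfold DGS.e
      rw [LinearMap.sum_apply]
    rw [h2, G.D_e'']

end DGS

/-- a contraction of a complex of vector spaces onto its cohomology -/
structure SDR {k : Type u} [Field k] {U : Type u} [AddCommGroup U] [Module k U] (G : DGS k U) where
  /-- the homotopy -/
  s : Module.End k U
  s_p : ∀ i, s * G.p (i + 1) = G.p i * s
  s_p0 : s * G.p 0 = 0
  e_s : G.e * s = s
  DsD : G.D * s * G.D = G.D
  sDs : s * G.D * s = s
  s_s : s * s = 0

namespace SDR

variable {k : Type u} [Field k] {U : Type u} [AddCommGroup U] [Module k U] {G : DGS k U}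
  (S : SDR G)

lemma s_big (i : ℕ) (hi : G.r ≤ i) : G.p i * S.s = 0 := by
  rw [← S.s_p, G.p_big (i + 1) (by omega), mul_zero]

lemma s_e : S.s * G.e = S.s := by
  have h1 : S.s * G.e = (∑ i ∈ Finset.range G.r, G.p i) * S.s := by
    unfold DGS.e
    rw [Finset.mul_sum, Finset.sum_range_succ', S.s_p0, add_zero, Finset.sum_mul]
    exact Finset.sum_congr rfl (fun i _ => S.s_p i)
  have h2 : S.s = (∑ i ∈ Finset.range G.r, G.p i) * S.s := by
    conv_lhs => rw [← S.e_s]
    unfold DGS.e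
    rw [Finset.sum_range_succ, add_mul, S.s_big G.r le_rfl, add_zero]
  rw [h1, ← h2]

lemma ε_s : G.ε * S.s = -(S.s * G.ε) := by
  have h1 : S.s * G.ε = ∑ i ∈ Finset.range G.r, ((-1 : k) ^ (i + 1)) • (G.p i * S.s) := by
    unfold DGS.ε
    rw [Finset.mul_sum, Finset.sum_range_succ', mul_smul_comm, S.s_p0, smul_zero, add_zero]
    exact Finset.sum_congr rfl (fun i _ => by rw [mul_smul_comm, S.s_p])
  have h2 : G.ε * S.s = ∑ i ∈ Finset.range G.r, ((-1 : k) ^ i) • (G.p i * S.s) := by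
    unfold DGS.ε
    rw [Finset.sum_mul, Finset.sum_range_succ, smul_mul_assoc, S.s_big G.r le_rfl, smul_zero,
      add_zero]
    exact Finset.sum_congr rfl (fun i _ => smul_mul_assoc _ _ _)
  rw [h1, h2, ← Finset.sum_neg_distrib]
  refine Finset.sum_congr rfl (fun i _ => ?_)
  rw [pow_succ, mul_neg_one, neg_smul, neg_neg]

lemma s_ε : S.s * G.ε = -(G.ε * S.s) := by rw [S.ε_s, neg_neg]

/-- the projection onto the cohomology -/
def h : Module.End k U := G.e - G.D * S.s - S.s * G.D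

lemma D_h : G.D * S.h = 0 := by
  unfold h
  rw [mul_sub, mul_sub, G.D_e', ← mul_assoc, G.D_D, zero_mul, sub_zero, ← mul_assoc, S.DsD,
    sub_self]

lemma h_D : S.h * G.D = 0 := by
  unfold h
  rw [sub_mul, sub_mul, G.e_D, S.DsD, sub_self, zero_sub, mul_assoc, G.D_D, mul_zero, neg_zero]

lemma e_h : G.e * S.h = S.h := by
  unfold h
  rw [mul_sub, mul_sub, G.e_e, ← mul_assoc, G.e_D, ← mul_assoc, S.e_s]

lemma h_e : S.h * G.e = S.h := by
  unfold h
  rw [sub_mul, sub_mul, G.e_e, mul_assoc, S.s_e, mul_assoc, G.D_e']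

lemma h_sD : S.h * (S.s * G.D) = 0 := by
  unfold h
  rw [sub_mul, sub_mul, ← mul_assoc, S.e_s, mul_assoc G.D, ← mul_assoc S.s S.s, S.s_s, zero_mul,
    mul_zero, sub_zero, ← mul_assoc (S.s * G.D), S.sDs, sub_self]

lemma h_h : S.h * S.h = S.h := by
  have h1 : S.h * S.h = S.h * G.e - S.h * (G.D * S.s) - S.h * (S.s * G.D) := by
    conv_lhs => rw [show S.h = G.e - G.D * S.s - S.s * G.D from rfl, mul_sub, mul_sub]
    rfl
  rw [h1, S.h_e, ← mul_assoc, S.h_D, zero_mul, S.h_sD, sub_zero, sub_zero]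

lemma Ds_p (i : ℕ) : G.D * S.s * G.p i = G.p i * (G.D * S.s) := by
  cases i with
  | zero => rw [mul_assoc, S.s_p0, mul_zero, ← mul_assoc, G.p0_D, zero_mul]
  | succ i => rw [mul_assoc, S.s_p, ← mul_assoc, G.D_p, mul_assoc]

lemma sD_p (i : ℕ) : S.s * G.D * G.p i = G.p i * (S.s * G.D) := by
  rw [mul_assoc, G.D_p, ← mul_assoc, S.s_p, mul_assoc]

lemma h_p (i : ℕ) : S.h * G.p i = G.p i * S.h := by
  unfold h
  rw [sub_mul, sub_mul, mul_sub, mul_sub, G.e_p, G.p_e, S.Ds_p, S.sD_p]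

lemma ε_h : G.ε * S.h = S.h * G.ε := by
  unfold h
  have h1 : G.ε * (G.D * S.s) = G.D * S.s * G.ε := by
    rw [← mul_assoc, G.ε_D, neg_mul, mul_assoc, S.ε_s, mul_neg, neg_neg, mul_assoc]
  have h2 : G.ε * (S.s * G.D) = S.s * G.D * G.ε := by
    rw [← mul_assoc, S.ε_s, neg_mul, mul_assoc, G.ε_D, mul_neg, neg_neg, mul_assoc]
  rw [mul_sub, mul_sub, sub_mul, sub_mul, G.ε_e, G.e_ε, h1, h2]

end SDR

namespace DGS

variable {k : Type u} [Field k] {U : Type u} [AddCommGroup U] [Module k U] (G : DGS k U)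

/-- a graded reflexive generalized inverse of the differential -/
lemma exists_graded_rinv : ∃ g : Module.End k U, (∀ i u, g (G.p (i + 1) u) = G.p i (g u)) ∧
    (∀ u, g (G.p 0 u) = 0) ∧ (∀ u, G.e (g u) = g u) ∧ (∀ u, G.D (g (G.D u)) = G.D u) ∧
    (∀ u, g (G.D (g u)) = g u) := by
  obtain ⟨g, g_p, g_p0, e_g, DgD⟩ := G.exists_graded_ginv
  refine ⟨g * G.D * g, ?_, ?_, ?_, ?_, ?_⟩
  · intro i u
    show g (G.D (g (G.p (i + 1) u))) = G.p i (g (G.D (g u)))
    rw [g_p, G.D_p', g_p]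
  · intro u
    show g (G.D (g (G.p 0 u))) = 0
    rw [g_p0, map_zero, map_zero]
  · intro u
    show G.e (g (G.D (g u))) = g (G.D (g u))
    rw [e_g]
  · intro u
    show G.D (g (G.D (g (G.D u)))) = G.D u
    rw [DgD, DgD]
  · intro u
    show g (G.D (g (G.D (g (G.D (g u)))))) = g (G.D (g u))
    rw [DgD (g (G.D (g u))), DgD]

/-- contractions exist -/
theorem nonempty_sdr : Nonempty (SDR G) := by
  obtain ⟨s0, s0_p, s0_p0, e_s0, Ds0D, s0Ds0⟩ := G.exists_graded_rinv
  have hs : ∀ u, (s0 - s0 * s0 * G.D) u = s0 u - s0 (s0 (G.D u)) := fun u => rfl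
  have key : ∀ u, s0 (G.D ((s0 - s0 * s0 * G.D) u)) = (s0 - s0 * s0 * G.D) u := by
    intro u
    rw [hs, map_sub, map_sub, s0Ds0, s0Ds0]
  refine ⟨{ s := s0 - s0 * s0 * G.D
            s_p := ?_
            s_p0 := ?_
            e_s := ?_
            DsD := ?_
            sDs := ?_
            s_s := ?_ }⟩
  · intro i
    apply LinearMap.ext
    intro u
    show (s0 - s0 * s0 * G.D) (G.p (i + 1) u) = G.p i ((s0 - s0 * s0 * G.D) u)
    rw [hs, hs, s0_p, G.D_p', s0_p, s0_p, map_sub]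
  · apply LinearMap.ext
    intro u
    show (s0 - s0 * s0 * G.D) (G.p 0 u) = 0
    rw [hs, s0_p0, G.D_p', s0_p, s0_p0, sub_self]
  · apply LinearMap.ext
    intro u
    show G.e ((s0 - s0 * s0 * G.D) u) = (s0 - s0 * s0 * G.D) u
    rw [hs, map_sub, e_s0, e_s0]
  · apply LinearMap.ext
    intro u
    show G.D ((s0 - s0 * s0 * G.D) (G.D u)) = G.D u
    rw [hs, G.D_D', map_zero, map_zero, sub_zero, Ds0D]
  · apply LinearMap.ext
    intro u
    show (s0 - s0 * s0 * G.D) (G.D ((s0 - s0 * s0 * G.D) u)) = (s0 - s0 * s0 * G.D) u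
    rw [hs (G.D _), G.D_D', map_zero, map_zero, sub_zero, key]
  · apply LinearMap.ext
    intro u
    show (s0 - s0 * s0 * G.D) ((s0 - s0 * s0 * G.D) u) = 0
    rw [hs ((s0 - s0 * s0 * G.D) u), key, sub_self]

end DGS

section LinAlg

variable {k : Type u} [Field k] {U : Type u} [AddCommGroup U] [Module k U]

/-- a subquotient `Z / B` is isomorphic to the image of `Z` under a map `π` which kills `B` and is
the identity modulo `B` -/
noncomputable def quotEquivMap (Z B : Submodule k U) (π : Module.End k U)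
    (h1 : ∀ z ∈ Z, z - π z ∈ B) (h2 : ∀ b ∈ B, π b = 0) :
    (↥Z ⧸ B.submoduleOf Z) ≃ₗ[k] ↥(Z.map π) := by
  let f : ↥Z →ₗ[k] ↥(Z.map π) :=
    (π.domRestrict Z).codRestrict (Z.map π) (fun z => ⟨z, z.2, rfl⟩)
  have hsurj : Function.Surjective f := by
    rintro ⟨_, z, hz, rfl⟩
    exact ⟨⟨z, hz⟩, rfl⟩
  have hker : LinearMap.ker f = B.submoduleOf Z := by
    ext z
    rw [LinearMap.mem_ker]
    show f z = 0 ↔ (z : U) ∈ B
    constructor
    · intro hz
      have h3 : π (z : U) = 0 := congrArg Subtype.val hz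
      have h4 := h1 z z.2
      rw [h3, sub_zero] at h4
      exact h4
    · intro hz
      apply Subtype.ext
      exact h2 _ hz
  exact (Submodule.quotEquivOfEq _ _ hker.symm).trans (f.quotKerEquivOfSurjective hsurj)

/-- the range of the sum of two orthogonal idempotents -/
lemma range_add_of_orthogonal (f g : Module.End k U) (hf : f * f = f) (hg : g * g = g)
    (hfg : f * g = 0) (hgf : g * f = 0) :
    LinearMap.range (f + g) = LinearMap.range f ⊔ LinearMap.range g ∧
      LinearMap.range f ⊓ LinearMap.range g = ⊥ := by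
  constructor
  · apply le_antisymm
    · rintro _ ⟨z, rfl⟩
      exact Submodule.add_mem_sup ⟨z, rfl⟩ ⟨z, rfl⟩
    · apply sup_le
      · rintro _ ⟨a, rfl⟩
        refine ⟨f a, ?_⟩
        rw [LinearMap.add_apply, end_mul_eq hf, end_mul_eq_zero hgf, add_zero]
      · rintro _ ⟨b, rfl⟩
        refine ⟨g b, ?_⟩
        rw [LinearMap.add_apply, end_mul_eq hg, end_mul_eq_zero hfg, zero_add]
  · rw [eq_bot_iff]
    rintro x ⟨⟨a, rfl⟩, ⟨b, hb⟩⟩
    have h1 : f (f a) = f a := end_mul_eq hf a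
    rw [← hb, end_mul_eq_zero hfg] at h1
    rw [Submodule.mem_bot, ← hb]
    exact h1.symm

/-- the dimension of the range of a sum of orthogonal idempotents -/
lemma finrank_range_sum_of_orthogonal {α : Type} [DecidableEq α] (s : Finset α)
    (F : α → Module.End k U)
    (hF : ∀ x ∈ s, ∀ y ∈ s, F x * F y = if x = y then F x else 0)
    (hfin : ∀ x ∈ s, Module.Finite k ↥(LinearMap.range (F x))) :
    Module.Finite k ↥(LinearMap.range (∑ x ∈ s, F x)) ∧
      Module.finrank k ↥(LinearMap.range (∑ x ∈ s, F x)) =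
        ∑ x ∈ s, Module.finrank k ↥(LinearMap.range (F x)) := by
  induction s using Finset.induction_on with
  | empty =>
    rw [Finset.sum_empty, Finset.sum_empty]
    have h0 : LinearMap.range (0 : Module.End k U) = ⊥ := LinearMap.range_zero
    rw [h0]
    exact ⟨inferInstance, finrank_bot k U⟩
  | insert a s ha ih =>
    have hF' : ∀ x ∈ s, ∀ y ∈ s, F x * F y = if x = y then F x else 0 :=
      fun x hx y hy => hF x (Finset.mem_insert_of_mem hx) y (Finset.mem_insert_of_mem hy)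
    obtain ⟨ih1, ih2⟩ := ih hF' (fun x hx => hfin x (Finset.mem_insert_of_mem hx))
    haveI := ih1
    haveI := hfin a (Finset.mem_insert_self a s)
    have haa : F a * F a = F a := by
      rw [hF a (Finset.mem_insert_self a s) a (Finset.mem_insert_self a s), if_pos rfl]
    have hax : ∀ x ∈ s, F a * F x = 0 := by
      intro x hx
      rw [hF a (Finset.mem_insert_self a s) x (Finset.mem_insert_of_mem hx), if_neg]
      rintro rfl
      exact ha hx
    have hxa : ∀ x ∈ s, F x * F a = 0 := by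
      intro x hx
      rw [hF x (Finset.mem_insert_of_mem hx) a (Finset.mem_insert_self a s), if_neg]
      rintro rfl
      exact ha hx
    have hGG : (∑ x ∈ s, F x) * (∑ x ∈ s, F x) = ∑ x ∈ s, F x := by
      rw [Finset.sum_mul]
      refine Finset.sum_congr rfl (fun x hx => ?_)
      rw [Finset.mul_sum, Finset.sum_eq_single x]
      · rw [hF' x hx x hx, if_pos rfl]
      · intro y hy hyx
        rw [hF' x hx y hy, if_neg (Ne.symm hyx)]
      · intro h
        exact absurd hx h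
    have haG : F a * (∑ x ∈ s, F x) = 0 := by
      rw [Finset.mul_sum]
      exact Finset.sum_eq_zero hax
    have hGa : (∑ x ∈ s, F x) * F a = 0 := by
      rw [Finset.sum_mul]
      exact Finset.sum_eq_zero hxa
    obtain ⟨h1, h2⟩ := range_add_of_orthogonal (F a) (∑ x ∈ s, F x) haa hGG haG hGa
    rw [Finset.sum_insert ha, Finset.sum_insert ha, h1]
    refine ⟨inferInstance, ?_⟩
    have h3 := Submodule.finrank_sup_add_finrank_inf_eq (LinearMap.range (F a))
      (LinearMap.range (∑ x ∈ s, F x))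
    rw [h2, finrank_bot, add_zero] at h3
    rw [h3, ih2]

end LinAlg

section TensorRange

variable {k : Type u} [Field k] {U V : Type u} [AddCommGroup U] [Module k U] [AddCommGroup V]
  [Module k V]

/-- the range of the tensor product of two maps is the tensor product of the ranges -/
noncomputable def rangeMapEquiv (f : Module.End k U) (g : Module.End k V) :
    (↥(LinearMap.range f) ⊗[k] ↥(LinearMap.range g)) ≃ₗ[k]
      ↥(LinearMap.range (TensorProduct.map f g)) := by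
  have hinj : Function.Injective
      (TensorProduct.mapIncl (LinearMap.range f) (LinearMap.range g)) :=
    TensorProduct.map_injective_of_flat_flat _ _ (Submodule.injective_subtype _)
      (Submodule.injective_subtype _)
  have hr : LinearMap.range (TensorProduct.mapIncl (LinearMap.range f) (LinearMap.range g)) =
      LinearMap.range (TensorProduct.map f g) := by
    rw [TensorProduct.range_mapIncl, TensorProduct.range_map]
  exact (LinearEquiv.ofInjective _ hinj).trans (LinearEquiv.ofEq _ _ hr)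

lemma finrank_range_map (f : Module.End k U) (g : Module.End k V) :
    Module.finrank k ↥(LinearMap.range (TensorProduct.map f g)) =
      Module.finrank k ↥(LinearMap.range f) * Module.finrank k ↥(LinearMap.range g) := by
  rw [← (rangeMapEquiv f g).finrank_eq, Module.finrank_tensorProduct]

lemma finite_range_map (f : Module.End k U) (g : Module.End k V)
    [Module.Finite k ↥(LinearMap.range f)] [Module.Finite k ↥(LinearMap.range g)] :
    Module.Finite k ↥(LinearMap.range (TensorProduct.map f g)) :=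
  Module.Finite.equiv (rangeMapEquiv f g)

end TensorRange

namespace DGS

variable {k : Type u} [Field k] {U : Type u} [AddCommGroup U] [Module k U] (G : DGS k U)

/-- the projections, shifted by one -/
def pm : ℕ → Module.End k U
  | 0 => 0
  | (i + 1) => G.p i

/-- the cocycles of degree `i` -/
def Z (i : ℕ) : Submodule k U := LinearMap.ker G.D ⊓ LinearMap.range (G.p i)

/-- the coboundaries of degree `i` -/
def B (i : ℕ) : Submodule k U := (LinearMap.range (G.pm i)).map G.D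

lemma mem_range_p {i : ℕ} {u : U} : u ∈ LinearMap.range (G.p i) ↔ G.p i u = u := by
  constructor
  · rintro ⟨w, rfl⟩
    exact G.p_idem' i w
  · intro h
    exact ⟨u, h⟩

lemma mem_Z {i : ℕ} {u : U} : u ∈ G.Z i ↔ G.D u = 0 ∧ G.p i u = u := by
  unfold Z
  rw [Submodule.mem_inf, LinearMap.mem_ker, G.mem_range_p]

lemma B_le_Z (i : ℕ) : G.B i ≤ G.Z i := by
  rintro _ ⟨_, ⟨w, rfl⟩, rfl⟩
  rw [G.mem_Z]
  refine ⟨G.D_D' _, ?_⟩
  cases i with
  | zero =>
    show G.p 0 (G.D ((0 : Module.End k U) w)) = G.D ((0 : Module.End k U) w)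
    rw [LinearMap.zero_apply, map_zero, map_zero]
  | succ i =>
    show G.p (i + 1) (G.D (G.p i w)) = G.D (G.p i w)
    rw [G.D_p', G.p_idem']

variable {G} (S : SDR G)

lemma _root_.Groth.Agent.Lib.Helper6.SegK.SDR.h_apply (u : U) :
    S.h u = G.e u - G.D (S.s u) - S.s (G.D u) := rfl

lemma sub_h_mem_B {i : ℕ} {z : U} (hz : z ∈ G.Z i) : z - S.h z ∈ G.B i := by
  obtain ⟨hD, hp⟩ := G.mem_Z.mp hz
  have he : G.e z = z := by rw [← hp, G.e_p']
  have h1 : z - S.h z = G.D (S.s z) := by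
    rw [S.h_apply, he, hD, map_zero, sub_zero, sub_sub_cancel]
  rw [h1]
  cases i with
  | zero =>
    have : S.s z = 0 := by rw [← hp, end_mul_eq_zero S.s_p0]
    rw [this, map_zero]
    exact Submodule.zero_mem _
  | succ i =>
    have : S.s z = G.p i (S.s z) := by
      conv_lhs => rw [← hp]
      exact end_mul_comm (S.s_p i) z
    rw [this]
    exact ⟨_, ⟨S.s z, rfl⟩, rfl⟩

lemma h_eq_zero_of_mem_B {i : ℕ} {b : U} (hb : b ∈ G.B i) : S.h b = 0 := by
  obtain ⟨w, _, rfl⟩ := hb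
  exact end_mul_eq_zero S.h_D w

lemma h_p_mem_Z (i : ℕ) (u : U) : S.h (G.p i u) ∈ G.Z i := by
  rw [G.mem_Z]
  refine ⟨end_mul_eq_zero S.D_h _, ?_⟩
  rw [end_mul_comm (S.h_p i) u, G.p_idem']

lemma map_h_Z (i : ℕ) : (G.Z i).map S.h = LinearMap.range (S.h * G.p i) := by
  apply le_antisymm
  · rintro _ ⟨z, hz, rfl⟩
    obtain ⟨_, hp⟩ := G.mem_Z.mp hz
    exact ⟨z, by rw [Module.End.mul_apply, hp]⟩
  · rintro _ ⟨u, rfl⟩
    refine ⟨S.h (G.p i u), h_p_mem_Z S i u, ?_⟩
    rw [Module.End.mul_apply, end_mul_eq S.h_h]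

/-- the cohomology of degree `i` -/
abbrev Hq (G : DGS k U) (i : ℕ) : Type u := ↥(G.Z i) ⧸ (G.B i).submoduleOf (G.Z i)

/-- the cohomology is the range of the projection -/
noncomputable def HqEquiv (i : ℕ) : G.Hq i ≃ₗ[k] ↥(LinearMap.range (S.h * G.p i)) :=
  (quotEquivMap (G.Z i) (G.B i) S.h (fun z hz => sub_h_mem_B S hz)
    (fun b hb => h_eq_zero_of_mem_B S hb)).trans (LinearEquiv.ofEq _ _ (map_h_Z S i))

end DGS

section Tensor

variable {k : Type u} [Field k] {U V : Type u} [AddCommGroup U] [Module k U] [AddCommGroup V]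
  [Module k V]

/-- the tensor product of two endomorphisms -/
abbrev tm (f : Module.End k U) (g : Module.End k V) : Module.End k (U ⊗[k] V) :=
  TensorProduct.map f g

lemma tm_mul (f₁ f₂ : Module.End k U) (g₁ g₂ : Module.End k V) :
    tm f₁ g₁ * tm f₂ g₂ = tm (f₁ * f₂) (g₁ * g₂) := (TensorProduct.map_mul f₁ f₂ g₁ g₂).symm

lemma tm_apply (f₁ f₂ : Module.End k U) (g₁ g₂ : Module.End k V) (w : U ⊗[k] V) :
    tm f₁ g₁ (tm f₂ g₂ w) = tm (f₁ * f₂) (g₁ * g₂) w := by
  rw [← tm_mul]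
  rfl

lemma tm_add_left (f₁ f₂ : Module.End k U) (g : Module.End k V) :
    tm (f₁ + f₂) g = tm f₁ g + tm f₂ g := TensorProduct.map_add_left f₁ f₂ g

lemma tm_add_right (f : Module.End k U) (g₁ g₂ : Module.End k V) :
    tm f (g₁ + g₂) = tm f g₁ + tm f g₂ := TensorProduct.map_add_right f g₁ g₂

lemma tm_sub_left (f₁ f₂ : Module.End k U) (g : Module.End k V) :
    tm (f₁ - f₂) g = tm f₁ g - tm f₂ g :=
  (TensorProduct.mapBilinear (RingHom.id k) U V U V).map_sub₂ f₁ f₂ g

lemma tm_sub_right (f : Module.End k U) (g₁ g₂ : Module.End k V) :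
    tm f (g₁ - g₂) = tm f g₁ - tm f g₂ :=
  (TensorProduct.mapBilinear (RingHom.id k) U V U V f).map_sub g₁ g₂

lemma tm_neg_left (f : Module.End k U) (g : Module.End k V) : tm (-f) g = -tm f g :=
  (TensorProduct.mapBilinear (RingHom.id k) U V U V).map_neg₂ f g

lemma tm_neg_right (f : Module.End k U) (g : Module.End k V) : tm f (-g) = -tm f g :=
  (TensorProduct.mapBilinear (RingHom.id k) U V U V f).map_neg g

lemma tm_zero_left (g : Module.End k V) : tm (0 : Module.End k U) g = 0 :=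
  TensorProduct.map_zero_left g

lemma tm_zero_right (f : Module.End k U) : tm f (0 : Module.End k V) = 0 :=
  TensorProduct.map_zero_right f

lemma tm_smul_left (c : k) (f : Module.End k U) (g : Module.End k V) :
    tm (c • f) g = c • tm f g := TensorProduct.map_smul_left c f g

lemma tm_smul_right (c : k) (f : Module.End k U) (g : Module.End k V) :
    tm f (c • g) = c • tm f g := TensorProduct.map_smul_right c f g

end Tensor

/-! ### the tensor product of two complexes -/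

namespace KW

variable {k : Type u} [Field k] {U V : Type u} [AddCommGroup U] [Module k U] [AddCommGroup V]
  [Module k V] (GU : DGS k U) (GV : DGS k V)

/-- the projections onto the terms of the double complex -/
def PW (i j : ℕ) : Module.End k (U ⊗[k] V) := tm (GU.p i) (GV.p j)

/-- the projections onto the terms of the total complex -/
def Pn (n : ℕ) : Module.End k (U ⊗[k] V) := ∑ x ∈ Finset.HasAntidiagonal.antidiagonal n, PW GU GV x.1 x.2

/-- the projections onto the terms of the total complex, shifted by one -/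
def Pnm : ℕ → Module.End k (U ⊗[k] V)
  | 0 => 0
  | (n + 1) => Pn GU GV n

/-- the differential of the total complex -/
def Dw : Module.End k (U ⊗[k] V) := tm GU.D GV.e + tm GU.ε GV.D

/-- the projection onto the total complex -/
def eW : Module.End k (U ⊗[k] V) := tm GU.e GV.e

lemma eW_PW (i j : ℕ) : eW GU GV * PW GU GV i j = PW GU GV i j := by
  unfold eW PW
  rw [tm_mul, GU.e_p, GV.e_p]

lemma eW_Pn (n : ℕ) : eW GU GV * Pn GU GV n = Pn GU GV n := by
  unfold Pn
  rw [Finset.mul_sum]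
  exact Finset.sum_congr rfl (fun x _ => eW_PW GU GV x.1 x.2)

lemma eW_Pn' (n : ℕ) (w : U ⊗[k] V) : eW GU GV (Pn GU GV n w) = Pn GU GV n w :=
  end_mul_eq (eW_Pn GU GV n) w

variable {GU GV} (SU : SDR GU) (SV : SDR GV)

/-- the homotopy of the total complex -/
def sw : Module.End k (U ⊗[k] V) := tm SU.s GV.e + tm (GU.ε * SU.h) SV.s

/-- the projection onto the cohomology of the total complex -/
def hw : Module.End k (U ⊗[k] V) := tm SU.h SV.h

lemma Ds_add_sD : GU.D * SU.s + SU.s * GU.D = GU.e - SU.h := by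
  unfold SDR.h
  abel

lemma Dw_sw : Dw GU GV * sw SU SV + sw SU SV * Dw GU GV = eW GU GV - hw SU SV := by
  have t1 : tm GU.D GV.e * tm SU.s GV.e = tm (GU.D * SU.s) GV.e := by rw [tm_mul, GV.e_e]
  have t2 : tm GU.D GV.e * tm (GU.ε * SU.h) SV.s = 0 := by
    rw [tm_mul, ← mul_assoc, GU.D_ε, neg_mul, mul_assoc, SU.D_h, mul_zero, neg_zero, tm_zero_left]
  have t3 : tm GU.ε GV.D * tm SU.s GV.e = tm (GU.ε * SU.s) GV.D := by rw [tm_mul, GV.D_e']
  have t4 : tm GU.ε GV.D * tm (GU.ε * SU.h) SV.s = tm SU.h (GV.D * SV.s) := by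
    rw [tm_mul, ← mul_assoc, GU.ε_ε, SU.e_h]
  have t5 : tm SU.s GV.e * tm GU.D GV.e = tm (SU.s * GU.D) GV.e := by rw [tm_mul, GV.e_e]
  have t6 : tm SU.s GV.e * tm GU.ε GV.D = tm (SU.s * GU.ε) GV.D := by rw [tm_mul, GV.e_D]
  have t7 : tm (GU.ε * SU.h) SV.s * tm GU.D GV.e = 0 := by
    rw [tm_mul, mul_assoc, SU.h_D, mul_zero, tm_zero_left]
  have t8 : tm (GU.ε * SU.h) SV.s * tm GU.ε GV.D = tm SU.h (SV.s * GV.D) := by
    rw [tm_mul, SU.ε_h, mul_assoc, GU.ε_ε, SU.h_e]
  have hA : Dw GU GV * sw SU SV =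
      tm (GU.D * SU.s) GV.e + tm (GU.ε * SU.s) GV.D + tm SU.h (GV.D * SV.s) := by
    unfold Dw sw
    rw [add_mul, mul_add, mul_add, t1, t2, t3, t4, add_zero, add_assoc]
  have hB : sw SU SV * Dw GU GV =
      tm (SU.s * GU.D) GV.e + tm (SU.s * GU.ε) GV.D + tm SU.h (SV.s * GV.D) := by
    unfold Dw sw
    rw [add_mul, mul_add, mul_add, t5, t6, t7, t8, zero_add, add_assoc]
  have e1 : tm (GU.D * SU.s) GV.e + tm (SU.s * GU.D) GV.e = tm GU.e GV.e - tm SU.h GV.e := by
    rw [← tm_add_left, Ds_add_sD, tm_sub_left]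
  have e2 : tm (GU.ε * SU.s) GV.D + tm (SU.s * GU.ε) GV.D = 0 := by
    rw [← tm_add_left, SU.ε_s, neg_add_cancel, tm_zero_left]
  have e3 : tm SU.h (GV.D * SV.s) + tm SU.h (SV.s * GV.D) = tm SU.h GV.e - tm SU.h SV.h := by
    rw [← tm_add_right, Ds_add_sD, tm_sub_right]
  rw [hA, hB]
  calc tm (GU.D * SU.s) GV.e + tm (GU.ε * SU.s) GV.D + tm SU.h (GV.D * SV.s) +
        (tm (SU.s * GU.D) GV.e + tm (SU.s * GU.ε) GV.D + tm SU.h (SV.s * GV.D))
      = (tm (GU.D * SU.s) GV.e + tm (SU.s * GU.D) GV.e) +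
        (tm (GU.ε * SU.s) GV.D + tm (SU.s * GU.ε) GV.D) +
        (tm SU.h (GV.D * SV.s) + tm SU.h (SV.s * GV.D)) := by abel
    _ = eW GU GV - hw SU SV := by
      rw [e1, e2, e3]
      unfold eW hw
      abel

lemma Dw_hw : Dw GU GV * hw SU SV = 0 := by
  unfold Dw hw
  rw [add_mul, tm_mul, tm_mul, SU.D_h, SV.D_h, tm_zero_left, tm_zero_right, add_zero]

lemma hw_Dw : hw SU SV * Dw GU GV = 0 := by
  unfold Dw hw
  rw [mul_add, tm_mul, tm_mul, SU.h_D, SV.h_D, tm_zero_left, tm_zero_right, add_zero]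

lemma hw_hw : hw SU SV * hw SU SV = hw SU SV := by
  unfold hw
  rw [tm_mul, SU.h_h, SV.h_h]

lemma eW_hw : eW GU GV * hw SU SV = hw SU SV := by
  unfold eW hw
  rw [tm_mul, SU.e_h, SV.e_h]

lemma hw_PW (i j : ℕ) : hw SU SV * PW GU GV i j = tm (SU.h * GU.p i) (SV.h * GV.p j) := by
  unfold hw PW
  rw [tm_mul]

lemma PW_hw (i j : ℕ) : PW GU GV i j * hw SU SV = tm (SU.h * GU.p i) (SV.h * GV.p j) := by
  unfold hw PW
  rw [tm_mul, SU.h_p, SV.h_p]

lemma hw_Pn (n : ℕ) : hw SU SV * Pn GU GV n = Pn GU GV n * hw SU SV := by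
  unfold Pn
  rw [Finset.mul_sum, Finset.sum_mul]
  exact Finset.sum_congr rfl (fun x _ => by rw [hw_PW, PW_hw])

lemma hw_Pn_eq (n : ℕ) : hw SU SV * Pn GU GV n =
    ∑ x ∈ Finset.HasAntidiagonal.antidiagonal n, tm (SU.h * GU.p x.1) (SV.h * GV.p x.2) := by
  unfold Pn
  rw [Finset.mul_sum]
  exact Finset.sum_congr rfl (fun x _ => hw_PW SU SV x.1 x.2)

lemma εh_p (i : ℕ) : GU.ε * SU.h * GU.p i = GU.p i * (GU.ε * SU.h) := by
  rw [mul_assoc, SU.h_p, ← mul_assoc, GU.ε_p, ← mul_assoc, GU.p_ε]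

lemma sw_PW_succ_succ (i j : ℕ) : sw SU SV * PW GU GV (i + 1) (j + 1) =
    PW GU GV i (j + 1) * tm SU.s GV.e + PW GU GV (i + 1) j * tm (GU.ε * SU.h) SV.s := by
  unfold sw PW
  rw [add_mul, tm_mul, tm_mul, tm_mul, tm_mul, SU.s_p, GV.e_p, GV.p_e, εh_p, SV.s_p]

lemma sw_Pn_succ (n : ℕ) : sw SU SV * Pn GU GV (n + 1) = Pn GU GV n * sw SU SV := by
  have h1 : tm SU.s GV.e * Pn GU GV (n + 1) = Pn GU GV n * tm SU.s GV.e := by
    unfold Pn
    rw [Finset.mul_sum, Finset.Nat.sum_antidiagonal_succ, Finset.sum_mul]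
    have h0 : tm SU.s GV.e * PW GU GV 0 (n + 1) = 0 := by
      unfold PW
      rw [tm_mul, SU.s_p0, tm_zero_left]
    rw [h0, zero_add]
    refine Finset.sum_congr rfl (fun x _ => ?_)
    unfold PW
    rw [tm_mul, tm_mul, SU.s_p, GV.e_p, GV.p_e]
  have h2 : tm (GU.ε * SU.h) SV.s * Pn GU GV (n + 1) = Pn GU GV n * tm (GU.ε * SU.h) SV.s := by
    unfold Pn
    rw [Finset.mul_sum, Finset.Nat.sum_antidiagonal_succ', Finset.sum_mul]
    have h0 : tm (GU.ε * SU.h) SV.s * PW GU GV (n + 1) 0 = 0 := by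
      unfold PW
      rw [tm_mul, SV.s_p0, tm_zero_right]
    rw [h0, zero_add]
    refine Finset.sum_congr rfl (fun x _ => ?_)
    unfold PW
    rw [tm_mul, tm_mul, εh_p, SV.s_p]
  unfold sw
  rw [add_mul, mul_add, h1, h2]

lemma sw_Pn_zero : sw SU SV * Pn GU GV 0 = 0 := by
  unfold Pn sw
  rw [Finset.Nat.antidiagonal_zero, Finset.sum_singleton]
  unfold PW
  rw [add_mul, tm_mul, tm_mul, SU.s_p0, SV.s_p0, tm_zero_left, tm_zero_right, add_zero]

section Main

variable (GU GV) (D' : Module.End k (U ⊗[k] V))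

/-- the cocycles of the total complex -/
def Zw (n : ℕ) : Submodule k (U ⊗[k] V) := LinearMap.ker D' ⊓ LinearMap.range (Pn GU GV n)

/-- the coboundaries of the total complex -/
def Bw (n : ℕ) : Submodule k (U ⊗[k] V) := (LinearMap.range (Pnm GU GV n)).map D'

/-- the cohomology of the total complex -/
abbrev HWq (n : ℕ) : Type u := ↥(Zw GU GV D' n) ⧸ (Bw GU GV D' n).submoduleOf (Zw GU GV D' n)

variable {GU GV} {D'} (hD' : ∀ w, D' (eW GU GV w) = Dw GU GV w)

include hD' in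
lemma D'_of_mem_range {n : ℕ} {w : U ⊗[k] V} (hw : w ∈ LinearMap.range (Pn GU GV n)) :
    D' w = Dw GU GV w := by
  obtain ⟨w', rfl⟩ := hw
  rw [← hD', eW_Pn']

include hD' in
lemma sub_hw_mem_Bw {n : ℕ} {z : U ⊗[k] V} (hz : z ∈ Zw GU GV D' n) :
    z - hw SU SV z ∈ Bw GU GV D' n := by
  obtain ⟨hzD, hzr⟩ := hz
  have h0 : Dw GU GV z = 0 := by
    rw [← D'_of_mem_range hD' hzr]
    exact LinearMap.mem_ker.mp hzD
  obtain ⟨w', rfl⟩ := hzr
  have h1 : eW GU GV (Pn GU GV n w') - hw SU SV (Pn GU GV n w') =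
      Dw GU GV (sw SU SV (Pn GU GV n w')) + sw SU SV (Dw GU GV (Pn GU GV n w')) := by
    have := LinearMap.congr_fun (Dw_sw SU SV) (Pn GU GV n w')
    exact this.symm
  rw [eW_Pn', h0, map_zero, add_zero] at h1
  rw [h1]
  cases n with
  | zero =>
    rw [end_mul_eq_zero (sw_Pn_zero SU SV), map_zero]
    exact Submodule.zero_mem _
  | succ n =>
    rw [end_mul_comm (sw_Pn_succ SU SV n) w', ← D'_of_mem_range hD' ⟨_, rfl⟩]
    exact ⟨_, ⟨_, rfl⟩, rfl⟩

include hD' in
lemma hw_eq_zero_of_mem_Bw {n : ℕ} {b : U ⊗[k] V} (hb : b ∈ Bw GU GV D' n) :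
    hw SU SV b = 0 := by
  obtain ⟨_, ⟨w, rfl⟩, rfl⟩ := hb
  cases n with
  | zero =>
    show hw SU SV (D' ((0 : Module.End k (U ⊗[k] V)) w)) = 0
    rw [LinearMap.zero_apply, map_zero, map_zero]
  | succ n =>
    show hw SU SV (D' (Pn GU GV n w)) = 0
    rw [D'_of_mem_range hD' ⟨_, rfl⟩, end_mul_eq_zero (hw_Dw SU SV)]

include hD' in
lemma map_hw_Zw (n : ℕ) :
    (Zw GU GV D' n).map (hw SU SV) = LinearMap.range (hw SU SV * Pn GU GV n) := by
  apply le_antisymm
  · rintro _ ⟨z, ⟨_, ⟨w', rfl⟩⟩, rfl⟩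
    exact ⟨w', rfl⟩
  · rintro _ ⟨u, rfl⟩
    have h1 : hw SU SV (Pn GU GV n u) ∈ Zw GU GV D' n := by
      constructor
      · show hw SU SV (Pn GU GV n u) ∈ LinearMap.ker D'
        rw [LinearMap.mem_ker, ← end_mul_eq (eW_hw SU SV), hD', end_mul_eq_zero (Dw_hw SU SV)]
      · rw [end_mul_comm (hw_Pn SU SV n) u]
        exact ⟨_, rfl⟩
    refine ⟨_, h1, ?_⟩
    rw [Module.End.mul_apply, end_mul_eq (hw_hw SU SV)]

/-- the cohomology of the total complex is the range of the projection -/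
noncomputable def HWqEquiv (n : ℕ) :
    HWq GU GV D' n ≃ₗ[k] ↥(LinearMap.range (hw SU SV * Pn GU GV n)) :=
  (quotEquivMap (Zw GU GV D' n) (Bw GU GV D' n) (hw SU SV)
    (fun z hz => sub_hw_mem_Bw SU SV hD' hz)
    (fun b hb => hw_eq_zero_of_mem_Bw SU SV hD' hb)).trans
    (LinearEquiv.ofEq _ _ (map_hw_Zw SU SV hD' n))

lemma hp_mul_hp (i i' : ℕ) :
    (SU.h * GU.p i) * (SU.h * GU.p i') = if i = i' then SU.h * GU.p i' else 0 := by
  have h1 : (SU.h * GU.p i) * (SU.h * GU.p i') = SU.h * (GU.p i * GU.p i') := by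
    calc (SU.h * GU.p i) * (SU.h * GU.p i') = SU.h * (GU.p i * SU.h) * GU.p i' := by
          simp only [mul_assoc]
      _ = SU.h * (SU.h * GU.p i) * GU.p i' := by rw [SU.h_p]
      _ = (SU.h * SU.h) * (GU.p i * GU.p i') := by simp only [mul_assoc]
      _ = SU.h * (GU.p i * GU.p i') := by rw [SU.h_h]
  rw [h1, GU.p_p]
  by_cases h : i = i'
  · rw [if_pos h, if_pos h]
  · rw [if_neg h, if_neg h, mul_zero]

include hD' in
/-- **the Künneth formula** -/
theorem kunneth (hfU : ∀ i, Module.Finite k (GU.Hq i)) (hfV : ∀ j, Module.Finite k (GV.Hq j))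
    (n : ℕ) :
    Module.Finite k (HWq GU GV D' n) ∧
      Module.finrank k (HWq GU GV D' n) =
        ∑ x ∈ Finset.HasAntidiagonal.antidiagonal n,
          Module.finrank k (GU.Hq x.1) * Module.finrank k (GV.Hq x.2) := by
  obtain ⟨SU⟩ := GU.nonempty_sdr
  obtain ⟨SV⟩ := GV.nonempty_sdr
  have hfU' : ∀ i, Module.Finite k ↥(LinearMap.range (SU.h * GU.p i)) := fun i =>
    haveI := hfU i
    Module.Finite.equiv (DGS.HqEquiv SU i)
  have hfV' : ∀ j, Module.Finite k ↥(LinearMap.range (SV.h * GV.p j)) := fun j =>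
    haveI := hfV j
    Module.Finite.equiv (DGS.HqEquiv SV j)
  let F : ℕ × ℕ → Module.End k (U ⊗[k] V) := fun x => tm (SU.h * GU.p x.1) (SV.h * GV.p x.2)
  have hF : ∀ x ∈ Finset.HasAntidiagonal.antidiagonal n,
      ∀ y ∈ Finset.HasAntidiagonal.antidiagonal n, F x * F y = if x = y then F x else 0 := by
    intro x _ y _
    show tm (SU.h * GU.p x.1) (SV.h * GV.p x.2) * tm (SU.h * GU.p y.1) (SV.h * GV.p y.2) = _
    rw [tm_mul, hp_mul_hp, hp_mul_hp]
    by_cases h1 : x.1 = y.1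
    · by_cases h2 : x.2 = y.2
      · have hxy : x = y := Prod.ext h1 h2
        rw [if_pos h1, if_pos h2, if_pos hxy, hxy]
      · have hxy : x ≠ y := fun h => h2 (congrArg Prod.snd h)
        rw [if_neg h2, if_neg hxy, tm_zero_right]
    · have hxy : x ≠ y := fun h => h1 (congrArg Prod.fst h)
      rw [if_neg h1, if_neg hxy, tm_zero_left]
  have hfin : ∀ x ∈ Finset.HasAntidiagonal.antidiagonal n,
      Module.Finite k ↥(LinearMap.range (F x)) := by
    intro x _
    haveI := hfU' x.1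
    haveI := hfV' x.2
    exact finite_range_map _ _
  obtain ⟨h1, h2⟩ := finrank_range_sum_of_orthogonal (Finset.HasAntidiagonal.antidiagonal n) F
    hF hfin
  rw [← hw_Pn_eq SU SV n] at h1 h2
  constructor
  · haveI := h1
    exact Module.Finite.equiv (HWqEquiv SU SV hD' n).symm
  · rw [(HWqEquiv SU SV hD' n).finrank_eq, h2]
    refine Finset.sum_congr rfl (fun x _ => ?_)
    show Module.finrank k ↥(LinearMap.range (tm (SU.h * GU.p x.1) (SV.h * GV.p x.2))) = _
    rw [finrank_range_map, (DGS.HqEquiv SU x.1).finrank_eq, (DGS.HqEquiv SV x.2).finrank_eq]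

include hD' in
/-- every cocycle of the total complex is, up to a coboundary, a sum of tensors of cocycles -/
theorem exists_decomp {n : ℕ} {z : U ⊗[k] V} (hz : z ∈ Zw GU GV D' n) :
    ∃ b ∈ Bw GU GV D' n, z - b ∈ Submodule.span k
      {w | ∃ (i j : ℕ) (u : U) (v : V), i + j = n ∧ u ∈ GU.Z i ∧ v ∈ GV.Z j ∧ w = u ⊗ₜ[k] v} := by
  obtain ⟨SU⟩ := GU.nonempty_sdr
  obtain ⟨SV⟩ := GV.nonempty_sdr
  refine ⟨z - hw SU SV z, sub_hw_mem_Bw SU SV hD' hz, ?_⟩
  rw [sub_sub_cancel]
  obtain ⟨_, ⟨w', rfl⟩⟩ := hz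
  have h1 : hw SU SV (Pn GU GV n w') =
      ∑ x ∈ Finset.HasAntidiagonal.antidiagonal n, tm (SU.h * GU.p x.1) (SV.h * GV.p x.2) w' := by
    have := LinearMap.congr_fun (hw_Pn_eq SU SV n) w'
    rw [LinearMap.sum_apply] at this
    exact this
  rw [h1]
  refine Submodule.sum_mem _ (fun x hx => ?_)
  have h2 : tm (SU.h * GU.p x.1) (SV.h * GV.p x.2) w' ∈
      LinearMap.range (TensorProduct.map (SU.h * GU.p x.1) (SV.h * GV.p x.2)) := ⟨w', rfl⟩
  rw [TensorProduct.range_map_eq_span_tmul] at h2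
  refine Submodule.span_mono ?_ h2
  rintro _ ⟨u, v, rfl⟩
  exact ⟨x.1, x.2, _, _, Finset.HasAntidiagonal.mem_antidiagonal.mp hx, DGS.h_p_mem_Z SU x.1 u,
    DGS.h_p_mem_Z SV x.2 v, rfl⟩

end Main

section Zero

lemma p0_eq (SU : SDR GU) : GU.p 0 = SU.h * GU.p 0 + SU.s * GU.D * GU.p 0 := by
  unfold SDR.h
  rw [sub_mul, sub_mul, GU.e_p, mul_assoc GU.D, SU.s_p0, mul_zero, sub_zero, sub_add_cancel]

/-- the kernel of `D ⊗ D` on the tensor product of the terms of degree zero -/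
theorem exists_decomp_zero {z : U ⊗[k] V} (hz : z ∈ LinearMap.range (tm (GU.p 0) (GV.p 0)))
    (hD : tm GU.D GV.D z = 0) :
    z ∈ Submodule.span k
        {w | ∃ (u : U) (v : V), u ∈ GU.Z 0 ∧ v ∈ LinearMap.range (GV.p 0) ∧ w = u ⊗ₜ[k] v} ⊔
      Submodule.span k
        {w | ∃ (u : U) (v : V), u ∈ LinearMap.range (GU.p 0) ∧ v ∈ GV.Z 0 ∧ w = u ⊗ₜ[k] v} := by
  obtain ⟨SU⟩ := GU.nonempty_sdr
  obtain ⟨SV⟩ := GV.nonempty_sdr
  obtain ⟨w', rfl⟩ := hz
  have hidem : tm (GU.p 0) (GV.p 0) (tm (GU.p 0) (GV.p 0) w') = tm (GU.p 0) (GV.p 0) w' := by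
    rw [tm_apply, GU.p_idem, GV.p_idem]
  have h1 : tm (GU.p 0) (GV.p 0) =
      tm (SU.h * GU.p 0) (GV.p 0) + tm (SU.s * GU.D * GU.p 0) (SV.h * GV.p 0) +
        tm (SU.s * GU.D * GU.p 0) (SV.s * GV.D * GV.p 0) := by
    calc tm (GU.p 0) (GV.p 0)
        = tm (SU.h * GU.p 0 + SU.s * GU.D * GU.p 0) (GV.p 0) := by rw [← p0_eq SU]
      _ = tm (SU.h * GU.p 0) (GV.p 0) + tm (SU.s * GU.D * GU.p 0) (GV.p 0) := tm_add_left _ _ _
      _ = tm (SU.h * GU.p 0) (GV.p 0) +
            tm (SU.s * GU.D * GU.p 0) (SV.h * GV.p 0 + SV.s * GV.D * GV.p 0) := by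
          rw [← p0_eq SV]
      _ = tm (SU.h * GU.p 0) (GV.p 0) + tm (SU.s * GU.D * GU.p 0) (SV.h * GV.p 0) +
            tm (SU.s * GU.D * GU.p 0) (SV.s * GV.D * GV.p 0) := by
          rw [tm_add_right, add_assoc]
  have h2 : tm (SU.s * GU.D * GU.p 0) (SV.s * GV.D * GV.p 0) (tm (GU.p 0) (GV.p 0) w') = 0 := by
    have h3 : tm (SU.s * GU.D * GU.p 0) (SV.s * GV.D * GV.p 0) =
        tm SU.s SV.s * tm GU.D GV.D * tm (GU.p 0) (GV.p 0) := by
      rw [tm_mul, tm_mul]
    rw [h3, Module.End.mul_apply, Module.End.mul_apply, hidem, hD, map_zero]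
  have h5 := LinearMap.congr_fun h1 (tm (GU.p 0) (GV.p 0) w')
  rw [hidem, LinearMap.add_apply, LinearMap.add_apply, h2, add_zero] at h5
  rw [h5]
  refine Submodule.add_mem_sup ?_ ?_
  · have h4 : tm (SU.h * GU.p 0) (GV.p 0) (tm (GU.p 0) (GV.p 0) w') ∈
        LinearMap.range (TensorProduct.map (SU.h * GU.p 0) (GV.p 0)) := ⟨_, rfl⟩
    rw [TensorProduct.range_map_eq_span_tmul] at h4
    refine Submodule.span_mono ?_ h4
    rintro _ ⟨u, v, rfl⟩
    exact ⟨_, _, DGS.h_p_mem_Z SU 0 u, ⟨v, rfl⟩, rfl⟩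
  · have h4 : tm (SU.s * GU.D * GU.p 0) (SV.h * GV.p 0) (tm (GU.p 0) (GV.p 0) w') ∈
        LinearMap.range (TensorProduct.map (SU.s * GU.D * GU.p 0) (SV.h * GV.p 0)) := ⟨_, rfl⟩
    rw [TensorProduct.range_map_eq_span_tmul] at h4
    refine Submodule.span_mono ?_ h4
    rintro _ ⟨u, v, rfl⟩
    refine ⟨_, _, ?_, DGS.h_p_mem_Z SV 0 v, rfl⟩
    refine ⟨SU.s (GU.D u), ?_⟩
    show GU.p 0 (SU.s (GU.D u)) = SU.s (GU.D (GU.p 0 u))
    rw [GU.D_p', end_mul_comm (SU.s_p 0)]

end Zero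

end KW

end Groth.Agent.Lib.Helper6.SegK
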