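import Mathlib
import Groth.Agent.Lib.Helper6.SegK.SKf

set_option autoImplicit false
set_option linter.unusedSectionVars false
set_option linter.unusedVariables false
set_option linter.unusedSimpArgs false
set_option linter.style.haveILetI false
set_option maxHeartbeats 400000

/-!
# Truncation and restriction of complexes of vector spaces (helper6)
-/

universe u

namespace Groth.Agent.Lib.Helper6.SegK

open scoped TensorProduct

namespace DGS

variable {k : Type u} [Field k] {U : Type u} [AddCommGroup U] [Module k U] (G : DGS k U)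

/-- the restriction of a complex to the range of an idempotent commuting with the differential and
the projections -/
def restr (π : Module.End k U) (hπ : π * π = π) (hπD : π * G.D = G.D * π)
    (hπp : ∀ i, π * G.p i = G.p i * π) : DGS k U where
  D := G.D * π
  p := fun i => G.p i * π
  r := G.r
  D_D := by
    rw [mul_assoc, ← mul_assoc π, hπD, mul_assoc, hπ, ← mul_assoc, G.D_D, zero_mul]
  p_p := by
    intro i j
    rw [mul_assoc, ← mul_assoc π, hπp, mul_assoc, hπ, ← mul_assoc, G.p_p]
    by_cases h : i = j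
    · rw [if_pos h, if_pos h]
    · rw [if_neg h, if_neg h, zero_mul]
  D_p := by
    intro i
    rw [mul_assoc, ← mul_assoc π, hπp, mul_assoc, hπ, ← mul_assoc, G.D_p, mul_assoc, mul_assoc,
      ← mul_assoc π, hπD, mul_assoc, hπ]
  p0_D := by
    rw [mul_assoc, ← mul_assoc π, hπD, mul_assoc, hπ, ← mul_assoc, G.p0_D, zero_mul]
  p_big := by
    intro i hi
    rw [G.p_big i hi, zero_mul]
  D_e := by
    rw [← Finset.sum_mul, mul_assoc, ← mul_assoc π]
    have h1 : π * ∑ i ∈ Finset.range (G.r + 1), G.p i =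
        (∑ i ∈ Finset.range (G.r + 1), G.p i) * π := by
      rw [Finset.mul_sum, Finset.sum_mul]
      exact Finset.sum_congr rfl (fun i _ => hπp i)
    rw [h1, mul_assoc, hπ, ← mul_assoc, G.D_e]

section Restr

variable (π : Module.End k U) (hπ : π * π = π) (hπD : π * G.D = G.D * π)
    (hπp : ∀ i, π * G.p i = G.p i * π)

lemma restr_D : (G.restr π hπ hπD hπp).D = G.D * π := rfl

lemma restr_p (i : ℕ) : (G.restr π hπ hπD hπp).p i = G.p i * π := rfl

lemma restr_e : (G.restr π hπ hπD hπp).e = G.e * π := by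
  unfold e
  rw [Finset.sum_mul]
  rfl

lemma restr_ε : (G.restr π hπ hπD hπp).ε = G.ε * π := by
  unfold ε
  rw [Finset.sum_mul]
  refine Finset.sum_congr rfl (fun i _ => ?_)
  rw [smul_mul_assoc]
  rfl

end Restr

/-- the truncation of a complex: the term of degree zero is removed -/
def trunc : DGS k U where
  D := G.D * (G.e - G.p 0)
  p := fun i => if i = 0 then 0 else G.p i
  r := G.r
  D_D := by
    have h1 : (G.e - G.p 0) * G.D = G.D := by rw [sub_mul, G.e_D, G.p0_D, sub_zero]
    rw [mul_assoc, ← mul_assoc (G.e - G.p 0), h1, ← mul_assoc, G.D_D, zero_mul]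
  p_p := by
    intro i j
    by_cases hi : i = 0
    · rw [if_pos hi, zero_mul]
      by_cases hj : j = 0
      · rw [if_pos hj]
        simp
      · rw [if_neg hj, if_neg (by omega)]
    · rw [if_neg hi]
      by_cases hj : j = 0
      · rw [if_pos hj, mul_zero]
        simp
      · rw [if_neg hj, G.p_p]
  D_p := by
    intro i
    have h2 : ∀ j, j ≠ 0 → G.D * (G.e - G.p 0) * G.p j = G.D * G.p j := by
      intro j hj
      rw [mul_assoc, sub_mul, G.e_p, G.p_ne (Ne.symm hj), sub_zero]
    have h3 : ∀ j, j ≠ 1 → G.p j * (G.D * (G.e - G.p 0)) = G.p j * G.D := by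
      intro j hj
      rw [← mul_assoc, mul_sub, mul_assoc, G.D_e', mul_assoc, G.D_p, ← mul_assoc,
        G.p_ne (show j ≠ 0 + 1 by omega), zero_mul, sub_zero]
    by_cases hi : i = 0
    · rw [if_pos hi, mul_zero, if_neg (by omega), hi]
      rw [← mul_assoc, mul_sub, mul_assoc, G.D_e', mul_assoc, G.D_p, ← mul_assoc, G.p_idem,
        sub_self]
    · rw [if_neg hi, if_neg (by omega), h2 i hi, h3 (i + 1) (by omega), G.D_p]
  p0_D := by
    rw [if_pos rfl, zero_mul]
  p_big := by
    intro i hi
    by_cases h0 : i = 0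
    · rw [if_pos h0]
    · rw [if_neg h0, G.p_big i hi]
  D_e := by
    have h1 : ∑ i ∈ Finset.range (G.r + 1), (if i = 0 then (0 : Module.End k U) else G.p i) =
        G.e - G.p 0 := by
      unfold e
      rw [Finset.sum_range_succ', Finset.sum_range_succ' (fun i => G.p i), if_pos rfl, add_zero,
        add_sub_cancel_right]
      exact Finset.sum_congr rfl (fun i _ => if_neg (by omega))
    rw [h1, mul_assoc]
    congr 1
    rw [mul_sub, sub_mul, sub_mul, G.e_e, G.p_e, G.e_p, G.p_idem]
    abel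

lemma trunc_D : G.trunc.D = G.D * (G.e - G.p 0) := rfl

lemma trunc_p (i : ℕ) : G.trunc.p i = if i = 0 then 0 else G.p i := rfl

lemma trunc_p_zero : G.trunc.p 0 = 0 := by rw [trunc_p, if_pos rfl]

lemma trunc_p_succ (i : ℕ) : G.trunc.p (i + 1) = G.p (i + 1) := by
  rw [trunc_p, if_neg (by omega)]

lemma trunc_p_of_ne {i : ℕ} (hi : i ≠ 0) : G.trunc.p i = G.p i := by rw [trunc_p, if_neg hi]

lemma trunc_e : G.trunc.e = G.e - G.p 0 := by
  unfold e
  show ∑ i ∈ Finset.range (G.r + 1), (if i = 0 then (0 : Module.End k U) else G.p i) = _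
  rw [Finset.sum_range_succ', Finset.sum_range_succ' (fun i => G.p i), if_pos rfl, add_zero,
    add_sub_cancel_right]
  exact Finset.sum_congr rfl (fun i _ => if_neg (by omega))

lemma trunc_ε : G.trunc.ε = G.ε - G.p 0 := by
  unfold ε
  show ∑ i ∈ Finset.range (G.r + 1),
    ((-1 : k) ^ i) • (if i = 0 then (0 : Module.End k U) else G.p i) = _
  rw [Finset.sum_range_succ', Finset.sum_range_succ' (fun i => ((-1 : k) ^ i) • G.p i), if_pos rfl,
    smul_zero, add_zero, pow_zero, one_smul, add_sub_cancel_right]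
  exact Finset.sum_congr rfl (fun i _ => by rw [if_neg (by omega)])

end DGS

namespace KW

variable {k : Type u} [Field k] {U V : Type u} [AddCommGroup U] [Module k U] [AddCommGroup V]
  [Module k V] (GU : DGS k U) (GV : DGS k V)

lemma Dw_Pn (n : ℕ) : Dw GU GV * Pn GU GV n = Pn GU GV (n + 1) * Dw GU GV := by
  have h1 : tm GU.D GV.e * Pn GU GV n = Pn GU GV (n + 1) * tm GU.D GV.e := by
    unfold Pn
    rw [Finset.mul_sum, Finset.sum_mul, Finset.Nat.sum_antidiagonal_succ]
    have h0 : PW GU GV 0 (n + 1) * tm GU.D GV.e = 0 := by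
      unfold PW
      rw [tm_mul, GU.p0_D, tm_zero_left]
    rw [h0, zero_add]
    refine Finset.sum_congr rfl (fun x _ => ?_)
    unfold PW
    rw [tm_mul, tm_mul, GU.D_p, GV.e_p, GV.p_e]
  have h2 : tm GU.ε GV.D * Pn GU GV n = Pn GU GV (n + 1) * tm GU.ε GV.D := by
    unfold Pn
    rw [Finset.mul_sum, Finset.sum_mul, Finset.Nat.sum_antidiagonal_succ']
    have h0 : PW GU GV (n + 1) 0 * tm GU.ε GV.D = 0 := by
      unfold PW
      rw [tm_mul, GV.p0_D, tm_zero_right]
    rw [h0, zero_add]
    refine Finset.sum_congr rfl (fun x _ => ?_)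
    unfold PW
    rw [tm_mul, tm_mul, GV.D_p, GU.ε_p, GU.p_ε]
  unfold Dw
  rw [add_mul, mul_add, h1, h2]

lemma Dw_Dw : Dw GU GV * Dw GU GV = 0 := by
  unfold Dw
  rw [add_mul, mul_add, mul_add, tm_mul, tm_mul, tm_mul, tm_mul, GU.D_D, GV.D_D, tm_zero_left,
    tm_zero_right, zero_add, add_zero, GV.e_D, GV.D_e', GU.D_ε, tm_neg_left, neg_add_cancel]

end KW

end Groth.Agent.Lib.Helper6.SegK
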