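import Mathlib
import Groth.Prelude.Def_GrLC
import Groth.Prelude.Def_GrSeg
import Groth.Agent.Lib.Helper9.GrLC.Basic
import Groth.Agent.Lib.Helper9.GrLC.Trans
import Groth.Agent.Lib.Helper9.Segre.Basic
import Groth.Agent.Lib.Helper6.SegMod.SMc
import Groth.Agent.Lib.Helper6.SegK.SKd

set_option autoImplicit false
set_option linter.unusedSectionVars false
set_option linter.unusedVariables false
set_option linter.unusedSimpArgs false
set_option linter.style.haveILetI false
set_option maxHeartbeats 400000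

/-!
# The Segre product of two bundled graded modules, as a bundled graded module (helper6)
-/

universe u

namespace Groth.Agent.Lib.Helper6.SegK

open scoped TensorProduct
open DirectSum Groth.Agent.Helper9.GrLCLib Groth.Agent.Helper9.GrLCLib.Trans

section KStr

variable {k : Type u} [Field k] {R : Type u} [CommRing R] [Algebra k R]
  {𝒜 : ℤ → Submodule k R} [GradedAlgebra 𝒜]

/-- the canonical vector space structure of a graded module over a graded algebra -/
@[reducible] noncomputable def kMod (X : GrLC.GMod.{u} (toAG 𝒜)) : Module k X.carrier :=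
  Module.compHom X.carrier (algebraMap k R)

attribute [local instance] kMod

lemma kMod_smul_def (X : GrLC.GMod.{u} (toAG 𝒜)) (c : k) (x : X.carrier) :
    c • x = algebraMap k R c • x := rfl

instance kTower (X : GrLC.GMod.{u} (toAG 𝒜)) : IsScalarTower k R X.carrier :=
  ⟨fun c r x => by
    rw [kMod_smul_def, Algebra.smul_def, mul_smul]⟩

lemma algebraMap_mem_zero (c : k) : algebraMap k R c ∈ toAG 𝒜 0 := by
  rw [Algebra.algebraMap_eq_smul_one]
  exact Submodule.smul_mem _ c (SetLike.one_mem_graded 𝒜)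

/-- the projection onto the piece of degree `d`, as a linear map over the field -/
noncomputable def πk (X : GrLC.GMod.{u} (toAG 𝒜)) (d : ℤ) : Module.End k X.carrier where
  toFun := proj X.gr d
  map_add' := map_add _
  map_smul' := by
    intro c x
    have h := proj_smul_of_mem (toAG 𝒜) X.gr (algebraMap_mem_zero (𝒜 := 𝒜) c) x d
    rw [zero_add] at h
    exact h

lemma πk_apply (X : GrLC.GMod.{u} (toAG 𝒜)) (d : ℤ) (x : X.carrier) :
    πk X d x = proj X.gr d x := rfl

lemma πk_mem (X : GrLC.GMod.{u} (toAG 𝒜)) (d : ℤ) (x : X.carrier) : πk X d x ∈ X.gr d :=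
  proj_mem X.gr d x

lemma πk_of_mem (X : GrLC.GMod.{u} (toAG 𝒜)) {d : ℤ} {x : X.carrier} (hx : x ∈ X.gr d) :
    πk X d x = x := proj_of_mem_same X.gr hx

lemma πk_of_mem_ne (X : GrLC.GMod.{u} (toAG 𝒜)) {d e : ℤ} {x : X.carrier} (hx : x ∈ X.gr e)
    (h : e ≠ d) : πk X d x = 0 := proj_of_mem_ne X.gr hx h

/-- the pieces are subspaces -/
lemma smul_mem_gr (X : GrLC.GMod.{u} (toAG 𝒜)) (c : k) {d : ℤ} {x : X.carrier}
    (hx : x ∈ X.gr d) : c • x ∈ X.gr d := by
  have h := smul_mem_add (toAG 𝒜) X.gr (algebraMap_mem_zero (𝒜 := 𝒜) c) hx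
  rw [zero_add] at h
  exact h

end KStr

section Act

variable {k : Type u} [Field k] {R S : Type u} [CommRing R] [Algebra k R] [CommRing S]
  [Algebra k S]
  {M N : Type u} [AddCommGroup M] [Module R M] [Module k M] [IsScalarTower k R M]
  [AddCommGroup N] [Module S N] [Module k N] [IsScalarTower k S N]

lemma act_one (w : M ⊗[k] N) : GrSeg.act k R S M N 1 w = w := by
  rw [Algebra.TensorProduct.one_def]
  induction w using TensorProduct.induction_on with
  | zero => rw [map_zero]
  | tmul m n => rw [GrSeg.act_tmul, one_smul, one_smul]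
  | add a b ha hb => rw [map_add, ha, hb]

variable {M' N' : Type u} [AddCommGroup M'] [Module R M'] [Module k M'] [IsScalarTower k R M']
  [AddCommGroup N'] [Module S N'] [Module k N'] [IsScalarTower k S N']

/-- the tensor product of two linear maps commutes with the action of `R ⊗ S` -/
lemma map_act (f : M →ₗ[R] M') (g : N →ₗ[S] N') (z : R ⊗[k] S) (w : M ⊗[k] N) :
    TensorProduct.map (f.restrictScalars k) (g.restrictScalars k) (GrSeg.act k R S M N z w) =
      GrSeg.act k R S M' N' z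
        (TensorProduct.map (f.restrictScalars k) (g.restrictScalars k) w) := by
  induction z using TensorProduct.induction_on with
  | zero => simp
  | add a b ha hb =>
    rw [map_add, LinearMap.add_apply, map_add, ha, hb, map_add, LinearMap.add_apply]
  | tmul r s =>
    induction w using TensorProduct.induction_on with
    | zero => simp
    | add a b ha hb => rw [map_add, map_add, ha, hb, map_add, map_add]
    | tmul m n =>
      rw [GrSeg.act_tmul, TensorProduct.map_tmul, TensorProduct.map_tmul, GrSeg.act_tmul]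
      simp

end Act

section Seg

open Groth.Agent.Helper9.SegreLib

variable {k : Type u} [Field k] {R S T : Type u} [CommRing R] [CommRing S] [CommRing T]
  [Algebra k R] [Algebra k S] [Algebra k T]
  {𝒜 : ℤ → Submodule k R} {ℬ : ℤ → Submodule k S} {𝒯 : ℤ → Submodule k T}
  [GradedAlgebra 𝒜] [GradedAlgebra ℬ] [GradedAlgebra 𝒯]
  (ψ : T →ₐ[k] R ⊗[k] S) (hT : GrSeg.IsSegreRing 𝒜 ℬ 𝒯 ψ)
  (U : GrLC.GMod.{u} (toAG 𝒜)) (V : GrLC.GMod.{u} (toAG ℬ))

attribute [local instance] kMod

/-- the ambient tensor product -/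
abbrev Amb : Type u := U.carrier ⊗[k] V.carrier

/-- the piece of degree `d` of the Segre product, in the tensor product -/
noncomputable def piece (d : ℤ) : Submodule k (Amb U V) := GrSeg.segrePiece k U.gr V.gr d

/-- the Segre product, in the tensor product -/
noncomputable def segSub : Submodule k (Amb U V) := ⨆ d, piece U V d

lemma piece_le_segSub (d : ℤ) : piece U V d ≤ segSub U V := le_iSup (piece U V) d

lemma tmul_mem_piece {d : ℤ} {a : U.carrier} {b : V.carrier} (ha : a ∈ U.gr d) (hb : b ∈ V.gr d) :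
    a ⊗ₜ[k] b ∈ piece U V d := tmul_mem_segrePiece U.gr V.gr ha hb

lemma act_mem_piece {e d : ℤ} {z : R ⊗[k] S} (hz : z ∈ GrSeg.segrePiece k 𝒜 ℬ e) {w : Amb U V}
    (hw : w ∈ piece U V d) :
    GrSeg.act k R S U.carrier V.carrier z w ∈ piece U V (e + d) :=
  act_mem 𝒜 ℬ U.gr V.gr
    (fun i j r x hr hx => smul_mem_add (toAG 𝒜) U.gr hr hx)
    (fun i j r x hr hx => smul_mem_add (toAG ℬ) V.gr hr hx) hz hw

include hT in
lemma act_mem_segSub (t : T) {w : Amb U V} (hw : w ∈ segSub U V) :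
    GrSeg.act k R S U.carrier V.carrier (ψ t) w ∈ segSub U V := by
  classical
  unfold segSub at hw
  induction hw using Submodule.iSup_induction' with
  | mem d w hw =>
    rw [← DirectSum.sum_support_decompose 𝒯 t, map_sum, map_sum, LinearMap.sum_apply]
    refine Submodule.sum_mem _ (fun e _ => ?_)
    exact piece_le_segSub U V (e + d)
      (act_mem_piece U V (map_mem_segrePiece hT (decompose 𝒯 t e).2) hw)
  | zero =>
    rw [map_zero]
    exact Submodule.zero_mem _
  | add x y _ _ hx hy =>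
    rw [map_add]
    exact Submodule.add_mem _ hx hy

/-- the carrier of the Segre product -/
def SegC (ψ : T →ₐ[k] R ⊗[k] S) (hT : GrSeg.IsSegreRing 𝒜 ℬ 𝒯 ψ)
    (U : GrLC.GMod.{u} (toAG 𝒜)) (V : GrLC.GMod.{u} (toAG ℬ)) : Type u := ↥(segSub U V)

noncomputable instance : AddCommGroup (SegC ψ hT U V) :=
  inferInstanceAs (AddCommGroup ↥(segSub U V))

/-- the underlying tensor -/
def SegC.val (w : SegC ψ hT U V) : Amb U V := Subtype.val w

lemma SegC.val_mem (w : SegC ψ hT U V) : SegC.val ψ hT U V w ∈ segSub U V := Subtype.property w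

/-- the element of the Segre product given by a tensor -/
def SegC.mk (a : Amb U V) (ha : a ∈ segSub U V) : SegC ψ hT U V := ⟨a, ha⟩

lemma SegC.val_mk (a : Amb U V) (ha : a ∈ segSub U V) :
    SegC.val ψ hT U V (SegC.mk ψ hT U V a ha) = a := rfl

lemma SegC.ext {w w' : SegC ψ hT U V} (h : SegC.val ψ hT U V w = SegC.val ψ hT U V w') :
    w = w' := Subtype.ext h

lemma SegC.val_add (w w' : SegC ψ hT U V) :
    SegC.val ψ hT U V (w + w') = SegC.val ψ hT U V w + SegC.val ψ hT U V w' := rfl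

lemma SegC.val_zero : SegC.val ψ hT U V 0 = 0 := rfl

lemma SegC.val_neg (w : SegC ψ hT U V) :
    SegC.val ψ hT U V (-w) = -SegC.val ψ hT U V w := rfl

lemma SegC.val_sub (w w' : SegC ψ hT U V) :
    SegC.val ψ hT U V (w - w') = SegC.val ψ hT U V w - SegC.val ψ hT U V w' := rfl

noncomputable instance : SMul T (SegC ψ hT U V) :=
  ⟨fun t w => SegC.mk ψ hT U V (GrSeg.act k R S U.carrier V.carrier (ψ t) (SegC.val ψ hT U V w))
    (act_mem_segSub ψ hT U V t (SegC.val_mem ψ hT U V w))⟩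

lemma SegC.val_smul (t : T) (w : SegC ψ hT U V) :
    SegC.val ψ hT U V (t • w) =
      GrSeg.act k R S U.carrier V.carrier (ψ t) (SegC.val ψ hT U V w) := rfl

noncomputable instance : Module T (SegC ψ hT U V) where
  one_smul w := by
    apply SegC.ext
    rw [SegC.val_smul, map_one, act_one]
  mul_smul t t' w := by
    apply SegC.ext
    rw [SegC.val_smul, SegC.val_smul, SegC.val_smul, map_mul, Groth.Agent.Lib.Helper6.SegMod.act_mul]
  smul_zero t := by
    apply SegC.ext
    rw [SegC.val_smul, SegC.val_zero, map_zero]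
  smul_add t w w' := by
    apply SegC.ext
    rw [SegC.val_smul, SegC.val_add, SegC.val_add, SegC.val_smul, SegC.val_smul, map_add]
  add_smul t t' w := by
    apply SegC.ext
    rw [SegC.val_smul, SegC.val_add, SegC.val_smul, SegC.val_smul, map_add, map_add,
      LinearMap.add_apply]
  zero_smul w := by
    apply SegC.ext
    rw [SegC.val_smul, map_zero, map_zero, LinearMap.zero_apply, SegC.val_zero]

/-- the pieces of the Segre product -/
def segFam : ℤ → AddSubgroup (SegC ψ hT U V) := fun d =>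
  { carrier := {w | SegC.val ψ hT U V w ∈ piece U V d}
    zero_mem' := by
      show SegC.val ψ hT U V 0 ∈ piece U V d
      rw [SegC.val_zero]
      exact Submodule.zero_mem _
    add_mem' := fun {x y} ha hb => by
      show SegC.val ψ hT U V x + SegC.val ψ hT U V y ∈ piece U V d
      exact Submodule.add_mem _ ha hb
    neg_mem' := fun {x} ha => by
      show -SegC.val ψ hT U V x ∈ piece U V d
      exact Submodule.neg_mem _ ha }

lemma mem_segFam {d : ℤ} {w : SegC ψ hT U V} :
    w ∈ segFam ψ hT U V d ↔ SegC.val ψ hT U V w ∈ piece U V d := Iff.rfl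

/-- the projection of the tensor product onto the piece of degree `d` of the Segre product -/
noncomputable def PiK (d : ℤ) : Module.End k (Amb U V) := TensorProduct.map (πk U d) (πk V d)

lemma PiK_tmul (d : ℤ) (a : U.carrier) (b : V.carrier) :
    PiK U V d (a ⊗ₜ[k] b) = πk U d a ⊗ₜ[k] πk V d b := rfl

lemma PiK_of_mem_piece {d : ℤ} {w : Amb U V} (hw : w ∈ piece U V d) : PiK U V d w = w := by
  have h1 : piece U V d ≤ LinearMap.eqLocus (PiK U V d) LinearMap.id := by
    apply segrePiece_le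
    intro a ha b hb
    show PiK U V d (a ⊗ₜ[k] b) = a ⊗ₜ[k] b
    rw [PiK_tmul, πk_of_mem U ha, πk_of_mem V hb]
  exact h1 hw

lemma PiK_of_mem_piece_ne {d e : ℤ} {w : Amb U V} (hw : w ∈ piece U V e) (h : e ≠ d) :
    PiK U V d w = 0 := by
  have h1 : piece U V e ≤ LinearMap.ker (PiK U V d) := by
    apply segrePiece_le
    intro a ha b hb
    rw [LinearMap.mem_ker, PiK_tmul, πk_of_mem_ne U ha h, TensorProduct.zero_tmul]
  exact h1 hw

lemma PiK_mem_piece (d : ℤ) (w : Amb U V) : PiK U V d w ∈ piece U V d := by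
  induction w using TensorProduct.induction_on with
  | zero =>
    rw [map_zero]
    exact Submodule.zero_mem _
  | tmul a b =>
    rw [PiK_tmul]
    exact tmul_mem_piece U V (πk_mem U d a) (πk_mem V d b)
  | add x y hx hy =>
    rw [map_add]
    exact Submodule.add_mem _ hx hy

lemma range_PiK (d : ℤ) : LinearMap.range (PiK U V d) = piece U V d := by
  apply le_antisymm
  · rintro _ ⟨w, rfl⟩
    exact PiK_mem_piece U V d w
  · intro w hw
    exact ⟨w, PiK_of_mem_piece U V hw⟩

/-- the underlying tensor, as an additive map -/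
def SegC.valHom : SegC ψ hT U V →+ Amb U V where
  toFun := SegC.val ψ hT U V
  map_zero' := rfl
  map_add' _ _ := rfl

lemma coe_seg_injective :
    Function.Injective (DirectSum.coeAddMonoidHom (segFam ψ hT U V)) := by
  classical
  rw [injective_iff_map_eq_zero]
  intro y hy
  have hsum : SegC.valHom ψ hT U V (DirectSum.coeAddMonoidHom (segFam ψ hT U V) y) =
      ∑ e ∈ y.support, SegC.val ψ hT U V (y e : SegC ψ hT U V) := by
    conv_lhs => rw [← DirectSum.sum_support_of y]
    rw [map_sum, map_sum]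
    refine Finset.sum_congr rfl (fun e _ => ?_)
    rw [DirectSum.coeAddMonoidHom_of]
    rfl
  rw [hy, map_zero] at hsum
  apply DFinsupp.ext
  intro d
  apply Subtype.ext
  apply SegC.ext
  show SegC.val ψ hT U V (y d : SegC ψ hT U V) = 0
  by_cases hd : d ∈ y.support
  · have h2 := congrArg (PiK U V d) hsum
    rw [map_zero, map_sum, Finset.sum_eq_single d] at h2
    · rw [PiK_of_mem_piece U V (y d).2] at h2
      exact h2.symm
    · intro e _ hed
      exact PiK_of_mem_piece_ne U V (y e).2 hed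
    · intro h
      exact absurd hd h
  · rw [DFinsupp.notMem_support_iff] at hd
    rw [hd]
    rfl

lemma coe_seg_surjective :
    Function.Surjective (DirectSum.coeAddMonoidHom (segFam ψ hT U V)) := by
  classical
  intro w
  have key : ∀ a : Amb U V, ∀ ha : a ∈ segSub U V,
      ∃ y : ⨁ d, segFam ψ hT U V d,
        DirectSum.coeAddMonoidHom (segFam ψ hT U V) y = SegC.mk ψ hT U V a ha := by
    intro a ha
    unfold segSub at ha
    induction ha using Submodule.iSup_induction' with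
    | mem d a ha' =>
      refine ⟨DirectSum.of (fun d => segFam ψ hT U V d) d
        ⟨SegC.mk ψ hT U V a (piece_le_segSub U V d ha'), (mem_segFam ψ hT U V).mpr ha'⟩, ?_⟩
      rw [DirectSum.coeAddMonoidHom_of]
    | zero => exact ⟨0, by rw [map_zero]; rfl⟩
    | add x y hx hy ihx ihy =>
      obtain ⟨y1, h1⟩ := ihx
      obtain ⟨y2, h2⟩ := ihy
      refine ⟨y1 + y2, ?_⟩
      rw [map_add, h1, h2]
      rfl
  exact key _ (SegC.val_mem ψ hT U V w)

lemma seg_isInternal : DirectSum.IsInternal (segFam ψ hT U V) :=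
  ⟨coe_seg_injective ψ hT U V, coe_seg_surjective ψ hT U V⟩

/-- the decomposition of the Segre product -/
@[instance_reducible]
noncomputable def segDecomposition : DirectSum.Decomposition (segFam ψ hT U V) :=
  (seg_isInternal ψ hT U V).chooseDecomposition

lemma segGradedSMul : SetLike.GradedSMul (toAG 𝒯) (segFam ψ hT U V) where
  smul_mem := by
    intro e d t w ht hw
    rw [vadd_eq_add]
    show SegC.val ψ hT U V (t • w) ∈ piece U V (e + d)
    rw [SegC.val_smul]
    exact act_mem_piece U V (map_mem_segrePiece hT ht) hw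

/-- the Segre product of two bundled graded modules -/
noncomputable def SegM : GrLC.GMod.{u} (toAG 𝒯) :=
  letI := segDecomposition ψ hT U V
  letI := segGradedSMul ψ hT U V
  GrLC.GMod.of (toAG 𝒯) (SegC ψ hT U V) (segFam ψ hT U V)

lemma mem_SegM_gr {d : ℤ} {w : SegC ψ hT U V} :
    (w : (SegM ψ hT U V).carrier) ∈ (SegM ψ hT U V).gr d ↔
      SegC.val ψ hT U V w ∈ piece U V d := Iff.rfl

end Seg

section Lift

open Groth.Agent.Helper9.SegreLib

variable {k : Type u} [Field k] {R S T : Type u} [CommRing R] [CommRing S] [CommRing T]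
  [Algebra k R] [Algebra k S] [Algebra k T]
  {𝒜 : ℤ → Submodule k R} {ℬ : ℤ → Submodule k S} {𝒯 : ℤ → Submodule k T}
  [GradedAlgebra 𝒜] [GradedAlgebra ℬ] [GradedAlgebra 𝒯]
  (ψ : T →ₐ[k] R ⊗[k] S) (hT : GrSeg.IsSegreRing 𝒜 ℬ 𝒯 ψ)
  {U U' U'' : GrLC.GMod.{u} (toAG 𝒜)} {V V' V'' : GrLC.GMod.{u} (toAG ℬ)}

attribute [local instance] kMod

/-- a linear map between the ambient tensor products which induces a homogeneous linear map of
the Segre products -/
def IsAmb (F : Amb U V →ₗ[k] Amb U' V') : Prop :=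
  (∀ (z : R ⊗[k] S) (w : Amb U V), F (GrSeg.act k R S U.carrier V.carrier z w) =
      GrSeg.act k R S U'.carrier V'.carrier z (F w)) ∧
    (∀ (d : ℤ) (w : Amb U V), w ∈ piece U V d → F w ∈ piece U' V' d)

lemma IsAmb.mem_segSub {F : Amb U V →ₗ[k] Amb U' V'} (hF : IsAmb F) {w : Amb U V}
    (hw : w ∈ segSub U V) : F w ∈ segSub U' V' := by
  have h1 : segSub U V ≤ (segSub U' V').comap F := by
    unfold segSub
    apply iSup_le
    intro d w hw
    exact piece_le_segSub U' V' d (hF.2 d w hw)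
  exact h1 hw

lemma IsAmb.add {F G : Amb U V →ₗ[k] Amb U' V'} (hF : IsAmb F) (hG : IsAmb G) : IsAmb (F + G) :=
  ⟨fun z w => by rw [LinearMap.add_apply, LinearMap.add_apply, hF.1, hG.1, map_add],
    fun d w hw => Submodule.add_mem _ (hF.2 d w hw) (hG.2 d w hw)⟩

lemma IsAmb.sub {F G : Amb U V →ₗ[k] Amb U' V'} (hF : IsAmb F) (hG : IsAmb G) : IsAmb (F - G) :=
  ⟨fun z w => by rw [LinearMap.sub_apply, LinearMap.sub_apply, hF.1, hG.1, map_sub],
    fun d w hw => Submodule.sub_mem _ (hF.2 d w hw) (hG.2 d w hw)⟩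

lemma IsAmb.neg {F : Amb U V →ₗ[k] Amb U' V'} (hF : IsAmb F) : IsAmb (-F) :=
  ⟨fun z w => by rw [LinearMap.neg_apply, LinearMap.neg_apply, hF.1, map_neg],
    fun d w hw => Submodule.neg_mem _ (hF.2 d w hw)⟩

lemma IsAmb.zero : IsAmb (0 : Amb U V →ₗ[k] Amb U' V') :=
  ⟨fun z w => by rw [LinearMap.zero_apply, LinearMap.zero_apply, map_zero],
    fun d w hw => Submodule.zero_mem _⟩

lemma IsAmb.id : IsAmb (LinearMap.id : Amb U V →ₗ[k] Amb U V) :=
  ⟨fun z w => rfl, fun d w hw => hw⟩

lemma IsAmb.comp {F : Amb U V →ₗ[k] Amb U' V'} {G : Amb U' V' →ₗ[k] Amb U'' V''}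
    (hF : IsAmb F) (hG : IsAmb G) : IsAmb (G ∘ₗ F) :=
  ⟨fun z w => by rw [LinearMap.comp_apply, LinearMap.comp_apply, hF.1, hG.1],
    fun d w hw => hG.2 d _ (hF.2 d w hw)⟩

lemma IsAmb.sum {α : Type} (s : Finset α) (F : α → (Amb U V →ₗ[k] Amb U' V'))
    (hF : ∀ x ∈ s, IsAmb (F x)) : IsAmb (∑ x ∈ s, F x) := by
  classical
  induction s using Finset.induction_on with
  | empty =>
    rw [Finset.sum_empty]
    exact IsAmb.zero
  | insert a s ha ih =>
    rw [Finset.sum_insert ha]
    exact (hF a (Finset.mem_insert_self a s)).add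
      (ih (fun x hx => hF x (Finset.mem_insert_of_mem hx)))

lemma IsAmb.smul {F : Amb U V →ₗ[k] Amb U' V'} (hF : IsAmb F) (c : k) : IsAmb (c • F) :=
  ⟨fun z w => by rw [LinearMap.smul_apply, LinearMap.smul_apply, hF.1, map_smul],
    fun d w hw => Submodule.smul_mem _ c (hF.2 d w hw)⟩

/-- the tensor product of two homogeneous linear maps -/
noncomputable def ambMap (f : U.carrier →ₗ[R] U'.carrier) (g : V.carrier →ₗ[S] V'.carrier) :
    Amb U V →ₗ[k] Amb U' V' :=
  TensorProduct.map (f.restrictScalars k) (g.restrictScalars k)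

lemma ambMap_tmul (f : U.carrier →ₗ[R] U'.carrier) (g : V.carrier →ₗ[S] V'.carrier)
    (a : U.carrier) (b : V.carrier) : ambMap f g (a ⊗ₜ[k] b) = f a ⊗ₜ[k] g b := rfl

lemma isAmb_ambMap (f : U.carrier →ₗ[R] U'.carrier) (g : V.carrier →ₗ[S] V'.carrier)
    (hf : GrLC.IsGrHom U.gr U'.gr f) (hg : GrLC.IsGrHom V.gr V'.gr g) : IsAmb (ambMap f g) := by
  refine ⟨fun z w => map_act f g z w, fun d w hw => ?_⟩
  have h1 : piece U V d ≤ (piece U' V' d).comap (ambMap f g) := by
    apply segrePiece_le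
    intro a ha b hb
    rw [Submodule.mem_comap, ambMap_tmul]
    exact tmul_mem_piece U' V' (hf d a ha) (hg d b hb)
  exact h1 hw

lemma ambMap_comp (f : U.carrier →ₗ[R] U'.carrier) (g : V.carrier →ₗ[S] V'.carrier)
    (f' : U'.carrier →ₗ[R] U''.carrier) (g' : V'.carrier →ₗ[S] V''.carrier) :
    ambMap (f' ∘ₗ f) (g' ∘ₗ g) = ambMap f' g' ∘ₗ ambMap f g := by
  unfold ambMap
  rw [← TensorProduct.map_comp]
  rfl

lemma ambMap_id : ambMap (LinearMap.id : U.carrier →ₗ[R] U.carrier)
    (LinearMap.id : V.carrier →ₗ[S] V.carrier) = LinearMap.id := by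
  unfold ambMap
  exact TensorProduct.map_id

lemma ambMap_add_left (f f' : U.carrier →ₗ[R] U'.carrier) (g : V.carrier →ₗ[S] V'.carrier) :
    ambMap (f + f') g = ambMap f g + ambMap f' g := by
  unfold ambMap
  rw [← TensorProduct.map_add_left]
  rfl

lemma ambMap_add_right (f : U.carrier →ₗ[R] U'.carrier) (g g' : V.carrier →ₗ[S] V'.carrier) :
    ambMap f (g + g') = ambMap f g + ambMap f g' := by
  unfold ambMap
  rw [← TensorProduct.map_add_right]
  rfl

lemma ambMap_zero_left (g : V.carrier →ₗ[S] V'.carrier) :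
    ambMap (0 : U.carrier →ₗ[R] U'.carrier) g = 0 := by
  unfold ambMap
  exact TensorProduct.map_zero_left _

lemma ambMap_zero_right (f : U.carrier →ₗ[R] U'.carrier) :
    ambMap f (0 : V.carrier →ₗ[S] V'.carrier) = 0 := by
  unfold ambMap
  exact TensorProduct.map_zero_right _

/-- the homogeneous linear map of Segre products induced by a map of the ambient tensor
products -/
noncomputable def segLift (F : Amb U V →ₗ[k] Amb U' V') (hF : IsAmb F) :
    SegC ψ hT U V →ₗ[T] SegC ψ hT U' V' where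
  toFun w := SegC.mk ψ hT U' V' (F (SegC.val ψ hT U V w)) (hF.mem_segSub (SegC.val_mem ψ hT U V w))
  map_add' w w' := by
    apply SegC.ext
    rw [SegC.val_mk, SegC.val_add, SegC.val_add, SegC.val_mk, SegC.val_mk, map_add]
  map_smul' t w := by
    apply SegC.ext
    rw [SegC.val_mk, RingHom.id_apply, SegC.val_smul, SegC.val_smul, SegC.val_mk, hF.1]

lemma segLift_val (F : Amb U V →ₗ[k] Amb U' V') (hF : IsAmb F) (w : SegC ψ hT U V) :
    SegC.val ψ hT U' V' (segLift ψ hT F hF w) = F (SegC.val ψ hT U V w) := rfl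

lemma isGrHom_segLift (F : Amb U V →ₗ[k] Amb U' V') (hF : IsAmb F) :
    GrLC.IsGrHom (SegM ψ hT U V).gr (SegM ψ hT U' V').gr (segLift ψ hT F hF) := by
  intro d w hw
  exact hF.2 d _ hw

end Lift

section Inv

variable {k : Type u} [Field k] {R : Type u} [CommRing R] [Algebra k R]
  {𝒜 : ℤ → Submodule k R} [GradedAlgebra 𝒜] (X : GrLC.GMod.{u} (toAG 𝒜))

attribute [local instance] kMod

/-- multiplication by an element of the ring, as a linear map over the field -/
noncomputable def mulK (x : R) : Module.End k X.carrier :=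
  (LinearMap.lsmul R X.carrier x).restrictScalars k

lemma mulK_apply (x : R) (u : X.carrier) : mulK X x u = x • u := rfl

/-- the preimage of a homogeneous element under a bijective homogeneous multiplication is
homogeneous -/
lemma mem_gr_of_smul_mem (x : R) (e : ℤ) (hx : x ∈ 𝒜 e)
    (hinj : Function.Injective (fun u : X.carrier => x • u)) {d : ℤ} {u : X.carrier}
    (hu : x • u ∈ X.gr d) : u ∈ X.gr (d - e) := by
  have h1 : x • proj X.gr (d - e) u = x • u := by
    have h2 := proj_smul_of_mem (toAG 𝒜) X.gr (show x ∈ toAG 𝒜 e from hx) u (d - e)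
    rw [add_sub_cancel, proj_of_mem_same X.gr hu] at h2
    exact h2.symm
  have h3 : proj X.gr (d - e) u = u := hinj h1
  rw [← h3]
  exact proj_mem X.gr (d - e) u

end Inv

section BCSeg

open Groth.Agent.Helper9.SegreLib

variable {k : Type u} [Field k] {R S T : Type u} [CommRing R] [CommRing S] [CommRing T]
  [Algebra k R] [Algebra k S] [Algebra k T] [IsNoetherianRing R] [IsNoetherianRing S]
  [IsNoetherianRing T]
  {𝒜 : ℤ → Submodule k R} {ℬ : ℤ → Submodule k S} {𝒯 : ℤ → Submodule k T}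
  [GradedAlgebra 𝒜] [GradedAlgebra ℬ] [GradedAlgebra 𝒯]
  (ψ : T →ₐ[k] R ⊗[k] S) (hT : GrSeg.IsSegreRing 𝒜 ℬ 𝒯 ψ)

attribute [local instance] kMod

lemma act_tmul_eq (U : GrLC.GMod.{u} (toAG 𝒜)) (V : GrLC.GMod.{u} (toAG ℬ)) (r : R) (s : S) :
    GrSeg.act k R S U.carrier V.carrier (r ⊗ₜ[k] s) = TensorProduct.map (mulK U r) (mulK V s) := by
  apply TensorProduct.ext'
  intro a b
  rw [GrSeg.act_tmul]
  rfl

lemma pow_smul_bijective {A M : Type u} [CommRing A] [AddCommGroup M] [Module A M] (x : A)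
    (hb : Function.Bijective (fun u : M => x • u)) (n : ℕ) :
    Function.Bijective (fun u : M => x ^ n • u) := by
  induction n with
  | zero =>
    simp only [pow_zero, one_smul]
    exact Function.bijective_id
  | succ n ih =>
    have h1 : (fun u : M => x ^ (n + 1) • u) = (fun u => x • u) ∘ (fun u => x ^ n • u) := by
      funext u
      simp [pow_succ', mul_smul]
    rw [h1]
    exact hb.comp ih

/-- the Segre product of two modules on which homogeneous elements of positive degrees act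
bijectively -/
theorem bc_seg_bij (U : GrLC.GMod.{u} (toAG 𝒜)) (V : GrLC.GMod.{u} (toAG ℬ))
    (x : R) (e : ℤ) (he : 0 < e) (hx : x ∈ 𝒜 e)
    (hxb : Function.Bijective (fun u : U.carrier => x • u))
    (y : S) (e' : ℤ) (he' : 0 < e') (hy : y ∈ ℬ e')
    (hyb : Function.Bijective (fun v : V.carrier => y • v)) : BC (SegM ψ hT U V) := by
  -- powers of equal degrees
  obtain ⟨n, hn⟩ : ∃ n : ℕ, (n : ℤ) = e' := ⟨e'.toNat, Int.toNat_of_nonneg he'.le⟩
  obtain ⟨m, hm⟩ : ∃ m : ℕ, (m : ℤ) = e := ⟨e.toNat, Int.toNat_of_nonneg he.le⟩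
  have hxn : x ^ n ∈ 𝒜 (e * e') := by
    have := SetLike.pow_mem_graded n hx
    rw [nsmul_eq_mul, hn, mul_comm] at this
    exact this
  have hym : y ^ m ∈ ℬ (e * e') := by
    have := SetLike.pow_mem_graded m hy
    rw [nsmul_eq_mul, hm] at this
    exact this
  have hxnb := pow_smul_bijective x hxb n
  have hymb := pow_smul_bijective y hyb m
  obtain ⟨t, ht, hψt⟩ := exists_ring_of_tmul hT hxn hym
  let F : Amb U V →ₗ[k] Amb U V := TensorProduct.map (mulK U (x ^ n)) (mulK V (y ^ m))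
  have hval : ∀ w : SegC ψ hT U V, SegC.val ψ hT U V (t • w) = F (SegC.val ψ hT U V w) := by
    intro w
    rw [SegC.val_smul, hψt, act_tmul_eq]
  let fx : U.carrier ≃ₗ[k] U.carrier := LinearEquiv.ofBijective (mulK U (x ^ n)) hxnb
  let gy : V.carrier ≃ₗ[k] V.carrier := LinearEquiv.ofBijective (mulK V (y ^ m)) hymb
  let E : Amb U V ≃ₗ[k] Amb U V := TensorProduct.congr fx gy
  have hE : ∀ w, E w = F w := by
    intro w
    have h1 : E.toLinearMap = F := by
      apply TensorProduct.ext'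
      intro a b
      rfl
    exact LinearMap.congr_fun h1 w
  have hfx : ∀ (d : ℤ) (u : U.carrier), u ∈ U.gr d → fx.symm u ∈ U.gr (d - e * e') := by
    intro d u hu
    apply mem_gr_of_smul_mem U (x ^ n) (e * e') hxn hxnb.1
    have h1 : x ^ n • fx.symm u = fx (fx.symm u) := rfl
    rw [h1, LinearEquiv.apply_symm_apply]
    exact hu
  have hgy : ∀ (d : ℤ) (v : V.carrier), v ∈ V.gr d → gy.symm v ∈ V.gr (d - e * e') := by
    intro d v hv
    apply mem_gr_of_smul_mem V (y ^ m) (e * e') hym hymb.1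
    have h1 : y ^ m • gy.symm v = gy (gy.symm v) := rfl
    rw [h1, LinearEquiv.apply_symm_apply]
    exact hv
  have hsymm : ∀ w : Amb U V, w ∈ segSub U V → E.symm w ∈ segSub U V := by
    have h1 : segSub U V ≤ (segSub U V).comap E.symm.toLinearMap := by
      unfold segSub
      apply iSup_le
      intro d
      apply segrePiece_le
      intro a ha b hb
      rw [Submodule.mem_comap]
      have h2 : E.symm (a ⊗ₜ[k] b) = fx.symm a ⊗ₜ[k] gy.symm b :=
        TensorProduct.congr_symm_tmul fx gy a b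
      show E.symm (a ⊗ₜ[k] b) ∈ _
      rw [h2]
      exact le_iSup (piece U V) (d - e * e') (tmul_mem_piece U V (hfx d a ha) (hgy d b hb))
    intro w hw
    exact h1 hw
  have key_inj : ∀ w w' : SegC ψ hT U V, t • w = t • w' → w = w' := by
    intro w w' hww'
    have h1 : SegC.val ψ hT U V (t • w) = SegC.val ψ hT U V (t • w') := congrArg _ hww'
    rw [hval, hval, ← hE, ← hE] at h1
    exact SegC.ext ψ hT U V (E.injective h1)
  have key_surj : ∀ w : SegC ψ hT U V, ∃ w' : SegC ψ hT U V, t • w' = w := by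
    intro w
    refine ⟨SegC.mk ψ hT U V (E.symm (SegC.val ψ hT U V w))
      (hsymm _ (SegC.val_mem ψ hT U V w)), ?_⟩
    apply SegC.ext
    rw [hval, SegC.val_mk, ← hE, LinearEquiv.apply_symm_apply]
  exact BC.bij (SegM ψ hT U V) t (e * e') (mul_pos he he') ht
    ⟨fun w w' h => key_inj w w' h, fun w => key_surj w⟩

section Functor

variable {U U' U'' : GrLC.GMod.{u} (toAG 𝒜)} {V V' V'' : GrLC.GMod.{u} (toAG ℬ)}

lemma segLift_segLift (F : Amb U V →ₗ[k] Amb U' V') (hF : IsAmb F)
    (G : Amb U' V' →ₗ[k] Amb U'' V'') (hG : IsAmb G) (w : SegC ψ hT U V) :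
    segLift ψ hT G hG (segLift ψ hT F hF w) = segLift ψ hT (G ∘ₗ F) (hF.comp hG) w := rfl

lemma segLift_congr {F G : Amb U V →ₗ[k] Amb U' V'} (h : F = G) (hF : IsAmb F) (hG : IsAmb G)
    (w : SegC ψ hT U V) : segLift ψ hT F hF w = segLift ψ hT G hG w := by
  subst h
  rfl

lemma segLift_id (h : IsAmb (LinearMap.id : Amb U V →ₗ[k] Amb U V)) (w : SegC ψ hT U V) :
    segLift ψ hT LinearMap.id h w = w := rfl

lemma segLift_add (F G : Amb U V →ₗ[k] Amb U' V') (hF : IsAmb F) (hG : IsAmb G)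
    (w : SegC ψ hT U V) :
    segLift ψ hT (F + G) (hF.add hG) w = segLift ψ hT F hF w + segLift ψ hT G hG w := rfl

/-- retracts of Segre products -/
theorem bc_seg_retract {X Y : GrLC.GMod.{u} (toAG 𝒜)} {X' Y' : GrLC.GMod.{u} (toAG ℬ)}
    (f : X.carrier →ₗ[R] Y.carrier) (g : Y.carrier →ₗ[R] X.carrier)
    (hf : GrLC.IsGrHom X.gr Y.gr f) (hg : GrLC.IsGrHom Y.gr X.gr g) (hfg : f ∘ₗ g = LinearMap.id)
    (f' : X'.carrier →ₗ[S] Y'.carrier) (g' : Y'.carrier →ₗ[S] X'.carrier)
    (hf' : GrLC.IsGrHom X'.gr Y'.gr f') (hg' : GrLC.IsGrHom Y'.gr X'.gr g')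
    (hfg' : f' ∘ₗ g' = LinearMap.id) (h : BC (SegM ψ hT X X')) : BC (SegM ψ hT Y Y') := by
  have hF := isAmb_ambMap f f' hf hf'
  have hG := isAmb_ambMap g g' hg hg'
  refine BC.retract (SegM ψ hT X X') (SegM ψ hT Y Y')
    (segLift ψ hT (ambMap f f') hF) (segLift ψ hT (ambMap g g') hG)
    (isGrHom_segLift ψ hT _ _) (isGrHom_segLift ψ hT _ _) ?_ h
  apply LinearMap.ext
  intro w
  show segLift ψ hT (ambMap f f') hF (segLift ψ hT (ambMap g g') hG w) = w
  rw [segLift_segLift]
  have h1 : ambMap f f' ∘ₗ ambMap g g' = (LinearMap.id : Amb Y Y' →ₗ[k] Amb Y Y') := by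
    rw [← ambMap_comp, hfg, hfg', ambMap_id]
  rw [segLift_congr ψ hT h1 _ IsAmb.id, segLift_id]

/-- biproducts of Segre products -/
theorem bc_seg_split {A B C : GrLC.GMod.{u} (toAG 𝒜)} {A' B' C' : GrLC.GMod.{u} (toAG ℬ)}
    (i1 : A.carrier →ₗ[R] B.carrier) (r1 : B.carrier →ₗ[R] A.carrier)
    (i2 : C.carrier →ₗ[R] B.carrier) (r2 : B.carrier →ₗ[R] C.carrier)
    (hi1 : GrLC.IsGrHom A.gr B.gr i1) (hr1 : GrLC.IsGrHom B.gr A.gr r1)
    (hi2 : GrLC.IsGrHom C.gr B.gr i2) (hr2 : GrLC.IsGrHom B.gr C.gr r2)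
    (j1 : A'.carrier →ₗ[S] B'.carrier) (s1 : B'.carrier →ₗ[S] A'.carrier)
    (j2 : C'.carrier →ₗ[S] B'.carrier) (s2 : B'.carrier →ₗ[S] C'.carrier)
    (hj1 : GrLC.IsGrHom A'.gr B'.gr j1) (hs1 : GrLC.IsGrHom B'.gr A'.gr s1)
    (hj2 : GrLC.IsGrHom C'.gr B'.gr j2) (hs2 : GrLC.IsGrHom B'.gr C'.gr s2)
    (h11 : r1 ∘ₗ i1 = LinearMap.id) (k11 : s1 ∘ₗ j1 = LinearMap.id)
    (h22 : r2 ∘ₗ i2 = LinearMap.id) (k22 : s2 ∘ₗ j2 = LinearMap.id)
    (hsum : ambMap (i1 ∘ₗ r1) (j1 ∘ₗ s1) + ambMap (i2 ∘ₗ r2) (j2 ∘ₗ s2) =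
      (LinearMap.id : Amb B B' →ₗ[k] Amb B B'))
    (hA : BC (SegM ψ hT A A')) (hC : BC (SegM ψ hT C C')) : BC (SegM ψ hT B B') := by
  have hI1 := isAmb_ambMap i1 j1 hi1 hj1
  have hR1 := isAmb_ambMap r1 s1 hr1 hs1
  have hI2 := isAmb_ambMap i2 j2 hi2 hj2
  have hR2 := isAmb_ambMap r2 s2 hr2 hs2
  refine BC.split (SegM ψ hT A A') (SegM ψ hT B B') (SegM ψ hT C C')
    (segLift ψ hT (ambMap i1 j1) hI1) (segLift ψ hT (ambMap r1 s1) hR1)
    (segLift ψ hT (ambMap i2 j2) hI2) (segLift ψ hT (ambMap r2 s2) hR2)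
    (isGrHom_segLift ψ hT _ _) (isGrHom_segLift ψ hT _ _) (isGrHom_segLift ψ hT _ _)
    (isGrHom_segLift ψ hT _ _) ?_ ?_ ?_ hA hC
  · apply LinearMap.ext
    intro w
    show segLift ψ hT (ambMap r1 s1) hR1 (segLift ψ hT (ambMap i1 j1) hI1 w) = w
    rw [segLift_segLift]
    have h1 : ambMap r1 s1 ∘ₗ ambMap i1 j1 = (LinearMap.id : Amb A A' →ₗ[k] Amb A A') := by
      rw [← ambMap_comp, h11, k11, ambMap_id]
    rw [segLift_congr ψ hT h1 _ IsAmb.id, segLift_id]
  · apply LinearMap.ext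
    intro w
    show segLift ψ hT (ambMap r2 s2) hR2 (segLift ψ hT (ambMap i2 j2) hI2 w) = w
    rw [segLift_segLift]
    have h1 : ambMap r2 s2 ∘ₗ ambMap i2 j2 = (LinearMap.id : Amb C C' →ₗ[k] Amb C C') := by
      rw [← ambMap_comp, h22, k22, ambMap_id]
    rw [segLift_congr ψ hT h1 _ IsAmb.id, segLift_id]
  · apply LinearMap.ext
    intro w
    show segLift ψ hT (ambMap i1 j1) hI1 (segLift ψ hT (ambMap r1 s1) hR1 w) +
      segLift ψ hT (ambMap i2 j2) hI2 (segLift ψ hT (ambMap r2 s2) hR2 w) = w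
    rw [segLift_segLift, segLift_segLift, ← segLift_add]
    have h1 : ambMap i1 j1 ∘ₗ ambMap r1 s1 + ambMap i2 j2 ∘ₗ ambMap r2 s2 =
        (LinearMap.id : Amb B B' →ₗ[k] Amb B B') := by
      rw [← ambMap_comp, ← ambMap_comp, hsum]
    rw [segLift_congr ψ hT h1 _ IsAmb.id, segLift_id]

lemma isGrHom_id (X : GrLC.GMod.{u} (toAG 𝒜)) :
    GrLC.IsGrHom X.gr X.gr (LinearMap.id : X.carrier →ₗ[R] X.carrier) := fun _ _ h => h

lemma isGrHom_id' (X : GrLC.GMod.{u} (toAG ℬ)) :
    GrLC.IsGrHom X.gr X.gr (LinearMap.id : X.carrier →ₗ[S] X.carrier) := fun _ _ h => h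

/-- the Segre product of a module on which a homogeneous element of positive degree acts
bijectively with a module without local cohomology -/
theorem bc_seg_left_bij (U : GrLC.GMod.{u} (toAG 𝒜))
    (x : R) (e : ℤ) (he : 0 < e) (hx : x ∈ 𝒜 e)
    (hxb : Function.Bijective (fun u : U.carrier => x • u))
    {V : GrLC.GMod.{u} (toAG ℬ)} (hV : BC V) : BC (SegM ψ hT U V) := by
  induction hV with
  | bij V y e' he' hy hyb => exact bc_seg_bij ψ hT U V x e he hx hxb y e' he' hy hyb
  | split A B C i1 r1 i2 r2 hi1 hr1 hi2 hr2 h11 h22 hsum hA hC ihA ihC =>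
    refine bc_seg_split ψ hT (LinearMap.id : U.carrier →ₗ[R] U.carrier) LinearMap.id LinearMap.id
      LinearMap.id (isGrHom_id U) (isGrHom_id U) (isGrHom_id U) (isGrHom_id U)
      i1 r1 i2 r2 hi1 hr1 hi2 hr2 rfl h11 rfl h22 ?_ ihA ihC
    rw [LinearMap.id_comp, ← ambMap_add_right, hsum, ambMap_id]
  | retract X Y f g hf hg hfg hX ih =>
    exact bc_seg_retract ψ hT (LinearMap.id : U.carrier →ₗ[R] U.carrier) LinearMap.id
      (isGrHom_id U) (isGrHom_id U) rfl f g hf hg hfg ih

/-- the Segre product of two modules without local cohomology has no local cohomology -/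
theorem bc_seg {U : GrLC.GMod.{u} (toAG 𝒜)} (hU : BC U) :
    ∀ V : GrLC.GMod.{u} (toAG ℬ), BC V → BC (SegM ψ hT U V) := by
  induction hU with
  | bij U x e he hx hxb =>
    intro V hV
    exact bc_seg_left_bij ψ hT U x e he hx hxb hV
  | split A B C i1 r1 i2 r2 hi1 hr1 hi2 hr2 h11 h22 hsum hA hC ihA ihC =>
    intro V hV
    refine bc_seg_split ψ hT i1 r1 i2 r2 hi1 hr1 hi2 hr2
      (LinearMap.id : V.carrier →ₗ[S] V.carrier) LinearMap.id LinearMap.id LinearMap.id
      (isGrHom_id' V) (isGrHom_id' V) (isGrHom_id' V) (isGrHom_id' V) h11 rfl h22 rfl ?_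
      (ihA V hV) (ihC V hV)
    rw [LinearMap.id_comp, ← ambMap_add_left, hsum, ambMap_id]
  | retract X Y f g hf hg hfg hX ih =>
    intro V hV
    exact bc_seg_retract ψ hT f g hf hg hfg (LinearMap.id : V.carrier →ₗ[S] V.carrier)
      LinearMap.id (isGrHom_id' V) (isGrHom_id' V) rfl (ih V hV)

end Functor

end BCSeg

end Groth.Agent.Lib.Helper6.SegK
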