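import Mathlib
import Groth.Prelude.Def_GrLC
import Groth.Prelude.Def_GrSeg
import Groth.Agent.Lib.Helper6.SegK.SKe
import Groth.Agent.Lib.Helper6.SegK.SKf2
import Groth.Agent.Lib.Helper6.SegK.SKg

set_option autoImplicit false
set_option linter.unusedSectionVars false
set_option linter.unusedVariables false
set_option linter.unusedSimpArgs false
set_option linter.style.haveILetI false
set_option maxHeartbeats 400000

/-!
# The Čech complexes of two graded modules as complexes of vector spaces, and the operators they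
induce on the Segre product (helper6)
-/

universe u

namespace Groth.Agent.Lib.Helper6.SegK

open scoped TensorProduct
open DirectSum Groth.Agent.Helper9.GrLCLib Groth.Agent.Helper9.GrLCLib.Trans

section RG

variable {k : Type u} [Field k] {R : Type u} [CommRing R] [Algebra k R]
  {𝒜 : ℤ → Submodule k R} [GradedAlgebra 𝒜] {X : GrLC.GMod.{u} (toAG 𝒜)}

attribute [local instance] kMod

/-- an endomorphism of the underlying vector space of a graded module which is linear over the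
ring and homogeneous -/
def IsRG (a : Module.End k X.carrier) : Prop :=
  (∀ (r : R) (u : X.carrier), a (r • u) = r • a u) ∧
    (∀ (d : ℤ) (u : X.carrier), u ∈ X.gr d → a u ∈ X.gr d)

lemma IsRG.add {a b : Module.End k X.carrier} (ha : IsRG a) (hb : IsRG b) : IsRG (a + b) :=
  ⟨fun r u => by rw [LinearMap.add_apply, LinearMap.add_apply, ha.1, hb.1, smul_add],
    fun d u hu => add_mem (ha.2 d u hu) (hb.2 d u hu)⟩

lemma IsRG.sub {a b : Module.End k X.carrier} (ha : IsRG a) (hb : IsRG b) : IsRG (a - b) :=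
  ⟨fun r u => by rw [LinearMap.sub_apply, LinearMap.sub_apply, ha.1, hb.1, smul_sub],
    fun d u hu => sub_mem (ha.2 d u hu) (hb.2 d u hu)⟩

lemma IsRG.neg {a : Module.End k X.carrier} (ha : IsRG a) : IsRG (-a) :=
  ⟨fun r u => by rw [LinearMap.neg_apply, LinearMap.neg_apply, ha.1, smul_neg],
    fun d u hu => neg_mem (ha.2 d u hu)⟩

lemma IsRG.mul {a b : Module.End k X.carrier} (ha : IsRG a) (hb : IsRG b) : IsRG (a * b) :=
  ⟨fun r u => by rw [Module.End.mul_apply, Module.End.mul_apply, hb.1, ha.1],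
    fun d u hu => ha.2 d _ (hb.2 d u hu)⟩

lemma IsRG.zero : IsRG (0 : Module.End k X.carrier) :=
  ⟨fun r u => by rw [LinearMap.zero_apply, LinearMap.zero_apply, smul_zero],
    fun d u hu => zero_mem _⟩

lemma IsRG.one : IsRG (1 : Module.End k X.carrier) :=
  ⟨fun r u => rfl, fun d u hu => hu⟩

lemma IsRG.smul {a : Module.End k X.carrier} (ha : IsRG a) (c : k) : IsRG (c • a) :=
  ⟨fun r u => by
    rw [LinearMap.smul_apply, LinearMap.smul_apply, ha.1, kMod_smul_def, kMod_smul_def, smul_comm],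
    fun d u hu => smul_mem_gr X c (ha.2 d u hu)⟩

lemma IsRG.sum {α : Type} (s : Finset α) (a : α → Module.End k X.carrier)
    (ha : ∀ x ∈ s, IsRG (a x)) : IsRG (∑ x ∈ s, a x) := by
  classical
  induction s using Finset.induction_on with
  | empty =>
    rw [Finset.sum_empty]
    exact IsRG.zero
  | insert x s hx ih =>
    rw [Finset.sum_insert hx]
    exact (ha x (Finset.mem_insert_self x s)).add
      (ih (fun y hy => ha y (Finset.mem_insert_of_mem hy)))

lemma isRG_restrictScalars (f : X.carrier →ₗ[R] X.carrier) (hf : GrLC.IsGrHom X.gr X.gr f) :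
    IsRG (f.restrictScalars k) :=
  ⟨fun r u => map_smul f r u, fun d u hu => hf d u hu⟩

/-- the linear map over the ring underlying an endomorphism linear over the ring -/
noncomputable def IsRG.toLin {a : Module.End k X.carrier} (ha : IsRG a) : X.carrier →ₗ[R] X.carrier where
  toFun := a
  map_add' := a.map_add
  map_smul' := ha.1

lemma IsRG.toLin_apply {a : Module.End k X.carrier} (ha : IsRG a) (u : X.carrier) :
    ha.toLin u = a u := rfl

lemma IsRG.toLin_gr {a : Module.End k X.carrier} (ha : IsRG a) :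
    GrLC.IsGrHom X.gr X.gr ha.toLin := ha.2

/-- homogeneous maps commute with the projections onto the pieces -/
lemma IsRG.comm_πk {a : Module.End k X.carrier} (ha : IsRG a) (d : ℤ) :
    πk X d * a = a * πk X d := by
  apply LinearMap.ext
  intro u
  show proj X.gr d (a u) = a (proj X.gr d u)
  exact proj_map_of_isGrHom X.gr X.gr ha.toLin_gr u d

end RG

section RGAmb

variable {k : Type u} [Field k] {R S : Type u} [CommRing R] [CommRing S]
  [Algebra k R] [Algebra k S]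
  {𝒜 : ℤ → Submodule k R} {ℬ : ℤ → Submodule k S} [GradedAlgebra 𝒜] [GradedAlgebra ℬ]
  {U : GrLC.GMod.{u} (toAG 𝒜)} {V : GrLC.GMod.{u} (toAG ℬ)}

attribute [local instance] kMod

lemma isAmb_tm {a : Module.End k U.carrier} {b : Module.End k V.carrier} (ha : IsRG a)
    (hb : IsRG b) : IsAmb (tm a b : Amb U V →ₗ[k] Amb U V) :=
  isAmb_ambMap ha.toLin hb.toLin ha.toLin_gr hb.toLin_gr

end RGAmb

section CDGS

variable {k : Type u} [Field k] {R : Type u} [CommRing R] [Algebra k R] [IsNoetherianRing R]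
  {𝒜 : ℤ → Submodule k R} [GradedAlgebra 𝒜] {X : GrLC.GMod.{u} (toAG 𝒜)} {xs : List R}
  (K : CPack X xs)

attribute [local instance] kMod

/-- the projections of the Čech complex, as linear maps over the field -/
noncomputable def CPack.pk (i : ℕ) : Module.End k K.T.carrier := (K.p i).restrictScalars k

/-- the differential of the Čech complex, as a linear map over the field -/
noncomputable def CPack.Dk : Module.End k K.T.carrier := K.D.restrictScalars k

lemma CPack.pk_apply (i : ℕ) (u : K.T.carrier) : K.pk i u = K.p i u := rfl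

lemma CPack.Dk_apply (u : K.T.carrier) : K.Dk u = K.D u := rfl

/-- the Čech complex as a complex of vector spaces -/
noncomputable def CPack.dgs : DGS k K.T.carrier where
  D := K.Dk
  p := K.pk
  r := xs.length
  D_D := LinearMap.ext K.D_D
  p_p := by
    intro i j
    apply LinearMap.ext
    intro u
    show K.p i (K.p j u) = (if i = j then K.pk j else 0) u
    rw [K.p_p]
    by_cases h : i = j
    · rw [if_pos h, if_pos h]
      rfl
    · rw [if_neg h, if_neg h]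
      rfl
  D_p := by
    intro i
    apply LinearMap.ext
    intro u
    exact K.D_p i u
  p0_D := LinearMap.ext K.p0_D
  p_big := by
    intro i hi
    apply LinearMap.ext
    intro u
    show K.p i u = 0
    rw [K.p_big i hi]
    rfl
  D_e := by
    apply LinearMap.ext
    intro u
    show K.D ((∑ i ∈ Finset.range (xs.length + 1), K.pk i) u) = K.D u
    rw [LinearMap.sum_apply]
    congr 1
    exact K.p_sum u

lemma CPack.dgs_D : K.dgs.D = K.Dk := rfl

lemma CPack.dgs_p (i : ℕ) : K.dgs.p i = K.pk i := rfl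

lemma CPack.dgs_e : K.dgs.e = 1 := by
  apply LinearMap.ext
  intro u
  show (∑ i ∈ Finset.range (xs.length + 1), K.pk i) u = u
  rw [LinearMap.sum_apply]
  exact K.p_sum u

lemma CPack.isRG_pk (i : ℕ) : IsRG (K.pk i) := isRG_restrictScalars (K.p i) (K.p_gr i)

lemma CPack.isRG_Dk : IsRG K.Dk := isRG_restrictScalars K.D K.D_gr

lemma CPack.isRG_ε : IsRG K.dgs.ε := by
  unfold DGS.ε
  exact IsRG.sum _ _ (fun i _ => (K.isRG_pk i).smul _)

/-- the truncated Čech complex -/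
noncomputable def CPack.tdgs : DGS k K.T.carrier := K.dgs.trunc

lemma CPack.tdgs_D : K.tdgs.D = K.Dk * (1 - K.pk 0) := by
  unfold CPack.tdgs
  rw [DGS.trunc_D, K.dgs_e]
  rfl

lemma CPack.tdgs_e : K.tdgs.e = 1 - K.pk 0 := by
  unfold CPack.tdgs
  rw [DGS.trunc_e, K.dgs_e]
  rfl

lemma CPack.tdgs_ε : K.tdgs.ε = K.dgs.ε - K.pk 0 := by
  unfold CPack.tdgs
  rw [DGS.trunc_ε]
  rfl

lemma CPack.isRG_tD : IsRG K.tdgs.D := by
  rw [K.tdgs_D]
  exact K.isRG_Dk.mul (IsRG.one.sub (K.isRG_pk 0))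

lemma CPack.isRG_te : IsRG K.tdgs.e := by
  rw [K.tdgs_e]
  exact IsRG.one.sub (K.isRG_pk 0)

lemma CPack.isRG_tε : IsRG K.tdgs.ε := by
  rw [K.tdgs_ε]
  exact K.isRG_ε.sub (K.isRG_pk 0)

lemma CPack.isRG_tp (i : ℕ) : IsRG (K.tdgs.p i) := by
  unfold CPack.tdgs
  rw [DGS.trunc_p]
  by_cases h : i = 0
  · rw [if_pos h]
    exact IsRG.zero
  · rw [if_neg h]
    exact K.isRG_pk i

lemma πk_idem (Y : GrLC.GMod.{u} (toAG 𝒜)) (d : ℤ) : πk Y d * πk Y d = πk Y d := by
  apply LinearMap.ext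
  intro u
  exact πk_of_mem Y (πk_mem Y d u)

/-- the truncated Čech complex in degree `d` -/
noncomputable def CPack.ddgs (d : ℤ) : DGS k K.T.carrier :=
  K.tdgs.restr (πk K.T d) (πk_idem K.T d) (K.isRG_tD.comm_πk d) (fun i => (K.isRG_tp i).comm_πk d)

/-- the Čech complex in degree `d` -/
noncomputable def CPack.fdgs (d : ℤ) : DGS k K.T.carrier :=
  K.dgs.restr (πk K.T d) (πk_idem K.T d) (K.isRG_Dk.comm_πk d) (fun i => (K.isRG_pk i).comm_πk d)

end CDGS

namespace DGS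

variable {k : Type u} [Field k] {U : Type u} [AddCommGroup U] [Module k U] (G : DGS k U)

lemma trunc_D_mul_D : G.trunc.D * G.D = 0 := by
  rw [trunc_D, mul_assoc, sub_mul, G.e_D, G.p0_D, sub_zero, G.D_D]

lemma p0_mul_trunc_D : G.p 0 * G.trunc.D = 0 := by
  rw [trunc_D, ← mul_assoc, G.p0_D, zero_mul]

lemma trunc_D_mul_p0 : G.trunc.D * G.p 0 = 0 := by
  rw [trunc_D, mul_assoc, sub_mul, G.e_p, G.p_idem, sub_self, mul_zero]

lemma p0_mul_trunc_p (i : ℕ) : G.p 0 * G.trunc.p i = 0 := by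
  rw [trunc_p]
  by_cases h : i = 0
  · rw [if_pos h, mul_zero]
  · rw [if_neg h, G.p_ne (Ne.symm h)]

end DGS

section AmbOps

variable {k : Type u} [Field k] {R S : Type u} [CommRing R] [CommRing S]
  [Algebra k R] [Algebra k S] [IsNoetherianRing R] [IsNoetherianRing S]
  {𝒜 : ℤ → Submodule k R} {ℬ : ℤ → Submodule k S} [GradedAlgebra 𝒜] [GradedAlgebra ℬ]
  {XM : GrLC.GMod.{u} (toAG 𝒜)} {XN : GrLC.GMod.{u} (toAG ℬ)} {xs : List R} {ys : List S}
  (KM : CPack XM xs) (KN : CPack XN ys)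

attribute [local instance] kMod

section KLemmas

variable {X : GrLC.GMod.{u} (toAG 𝒜)} (K : CPack X xs)

lemma CPack.pk0_Dk : K.pk 0 * K.Dk = 0 := K.dgs.p0_D

lemma CPack.pk_idem (i : ℕ) : K.pk i * K.pk i = K.pk i := K.dgs.p_idem i

lemma CPack.pk_ne {i j : ℕ} (h : i ≠ j) : K.pk i * K.pk j = 0 := K.dgs.p_ne h

lemma CPack.Dk_pk (i : ℕ) : K.Dk * K.pk i = K.pk (i + 1) * K.Dk := K.dgs.D_p i

lemma CPack.Dk_Dk : K.Dk * K.Dk = 0 := K.dgs.D_D

lemma CPack.tD_Dk : K.tdgs.D * K.Dk = 0 := K.dgs.trunc_D_mul_D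

lemma CPack.pk0_tD : K.pk 0 * K.tdgs.D = 0 := K.dgs.p0_mul_trunc_D

lemma CPack.tD_pk0 : K.tdgs.D * K.pk 0 = 0 := K.dgs.trunc_D_mul_p0

lemma CPack.pk0_tp (i : ℕ) : K.pk 0 * K.tdgs.p i = 0 := K.dgs.p0_mul_trunc_p i

lemma CPack.tp_zero : K.tdgs.p 0 = 0 := K.dgs.trunc_p_zero

lemma CPack.tp_succ (i : ℕ) : K.tdgs.p (i + 1) = K.pk (i + 1) := K.dgs.trunc_p_succ i

lemma CPack.tp_of_ne {i : ℕ} (hi : i ≠ 0) : K.tdgs.p i = K.pk i := K.dgs.trunc_p_of_ne hi

lemma CPack.pk_one_Dk_pk0 : K.pk 1 * (K.Dk * K.pk 0) = K.Dk * K.pk 0 := by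
  rw [← mul_assoc, ← K.Dk_pk 0, mul_assoc, K.pk_idem]

end KLemmas

/-- the augmentation part of the differential -/
noncomputable def Aamb : Module.End k (Amb KM.T KN.T) :=
  tm (KM.Dk * KM.pk 0) (KN.Dk * KN.pk 0)

/-- the differential of the augmented total complex of the truncated Čech complexes -/
noncomputable def Damb : Module.End k (Amb KM.T KN.T) :=
  KW.Dw KM.tdgs KN.tdgs + Aamb KM KN

/-- the projections onto the terms of the augmented total complex -/
noncomputable def Qamb : ℕ → Module.End k (Amb KM.T KN.T)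
  | 0 => tm (KM.pk 0) (KN.pk 0)
  | (n + 1) => KW.Pn KM.tdgs KN.tdgs (n + 2)

lemma isAmb_Aamb : IsAmb (Aamb KM KN) :=
  isAmb_tm (KM.isRG_Dk.mul (KM.isRG_pk 0)) (KN.isRG_Dk.mul (KN.isRG_pk 0))

lemma isAmb_Dw : IsAmb (KW.Dw KM.tdgs KN.tdgs) := by
  unfold KW.Dw
  exact (isAmb_tm KM.isRG_tD KN.isRG_te).add (isAmb_tm KM.isRG_tε KN.isRG_tD)

lemma isAmb_Damb : IsAmb (Damb KM KN) := (isAmb_Dw KM KN).add (isAmb_Aamb KM KN)

lemma isAmb_Pn (n : ℕ) : IsAmb (KW.Pn KM.tdgs KN.tdgs n) := by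
  unfold KW.Pn
  exact IsAmb.sum _ _ (fun x _ => isAmb_tm (KM.isRG_tp x.1) (KN.isRG_tp x.2))

lemma isAmb_Qamb (n : ℕ) : IsAmb (Qamb KM KN n) := by
  cases n with
  | zero => exact isAmb_tm (KM.isRG_pk 0) (KN.isRG_pk 0)
  | succ n => exact isAmb_Pn KM KN (n + 2)

lemma Aamb_Aamb : Aamb KM KN * Aamb KM KN = 0 := by
  unfold Aamb
  have h1 : KM.Dk * KM.pk 0 * (KM.Dk * KM.pk 0) = 0 := by
    rw [mul_assoc, ← mul_assoc (KM.pk 0), KM.pk0_Dk, zero_mul, mul_zero]
  rw [tm_mul, h1, tm_zero_left]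

lemma Dw_Aamb : KW.Dw KM.tdgs KN.tdgs * Aamb KM KN = 0 := by
  unfold KW.Dw Aamb
  have h1 : KM.tdgs.D * (KM.Dk * KM.pk 0) = 0 := by
    rw [← mul_assoc, KM.tD_Dk, zero_mul]
  have h2 : KN.tdgs.D * (KN.Dk * KN.pk 0) = 0 := by
    rw [← mul_assoc, KN.tD_Dk, zero_mul]
  rw [add_mul, tm_mul, tm_mul, h1, h2, tm_zero_left, tm_zero_right, add_zero]

lemma Aamb_Dw : Aamb KM KN * KW.Dw KM.tdgs KN.tdgs = 0 := by
  unfold KW.Dw Aamb
  have h1 : KM.Dk * KM.pk 0 * KM.tdgs.D = 0 := by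
    rw [mul_assoc, KM.pk0_tD, mul_zero]
  have h2 : KN.Dk * KN.pk 0 * KN.tdgs.D = 0 := by
    rw [mul_assoc, KN.pk0_tD, mul_zero]
  rw [mul_add, tm_mul, tm_mul, h1, h2, tm_zero_left, tm_zero_right, add_zero]

lemma Damb_Damb : Damb KM KN * Damb KM KN = 0 := by
  unfold Damb
  rw [add_mul, mul_add, mul_add, KW.Dw_Dw, Dw_Aamb, Aamb_Dw, Aamb_Aamb]
  simp

lemma Qamb_one : Qamb KM KN 1 = tm (KM.pk 1) (KN.pk 1) := by
  show KW.Pn KM.tdgs KN.tdgs 2 = _
  unfold KW.Pn
  have h2 : Finset.HasAntidiagonal.antidiagonal 2 = {((0 : ℕ), (2 : ℕ)), (1, 1), (2, 0)} := by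
    decide
  rw [h2, Finset.sum_insert (by decide), Finset.sum_insert (by decide), Finset.sum_singleton]
  unfold KW.PW
  rw [KM.tp_zero, KN.tp_zero, KM.tp_succ 0, KN.tp_succ 0, tm_zero_left, tm_zero_right, zero_add,
    add_zero]

lemma Damb_Qamb_zero : Damb KM KN * Qamb KM KN 0 = Qamb KM KN 1 * Aamb KM KN := by
  rw [Qamb_one]
  show Damb KM KN * tm (KM.pk 0) (KN.pk 0) = _
  unfold Damb
  have h1 : KW.Dw KM.tdgs KN.tdgs * tm (KM.pk 0) (KN.pk 0) = 0 := by
    unfold KW.Dw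
    rw [add_mul, tm_mul, tm_mul, KM.tD_pk0, KN.tD_pk0, tm_zero_left, tm_zero_right, add_zero]
  have h2 : Aamb KM KN * tm (KM.pk 0) (KN.pk 0) = Aamb KM KN := by
    unfold Aamb
    rw [tm_mul, mul_assoc, mul_assoc, KM.pk_idem, KN.pk_idem]
  have h3 : tm (KM.pk 1) (KN.pk 1) * Aamb KM KN = Aamb KM KN := by
    unfold Aamb
    rw [tm_mul, KM.pk_one_Dk_pk0, KN.pk_one_Dk_pk0]
  rw [add_mul, h1, h2, h3, zero_add]

lemma Aamb_Pn (n : ℕ) : Aamb KM KN * KW.Pn KM.tdgs KN.tdgs n = 0 := by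
  unfold KW.Pn
  rw [Finset.mul_sum]
  apply Finset.sum_eq_zero
  intro x _
  unfold Aamb KW.PW
  rw [tm_mul, mul_assoc, KM.pk0_tp, mul_zero, tm_zero_left]

lemma Damb_Qamb_succ (n : ℕ) :
    Damb KM KN * Qamb KM KN (n + 1) = Qamb KM KN (n + 2) * KW.Dw KM.tdgs KN.tdgs := by
  show Damb KM KN * KW.Pn KM.tdgs KN.tdgs (n + 2) = KW.Pn KM.tdgs KN.tdgs (n + 3) * _
  unfold Damb
  rw [add_mul, Aamb_Pn, add_zero, KW.Dw_Pn]

end AmbOps

end Groth.Agent.Lib.Helper6.SegK
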