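import Mathlib
import Groth.Prelude.Def_GrLC
import Groth.Prelude.Def_GrSeg
import Groth.Agent.Lib.Helper6.SegK.SKh

set_option autoImplicit false
set_option linter.unusedSectionVars false
set_option linter.unusedVariables false
set_option linter.unusedSimpArgs false
set_option linter.style.haveILetI false
set_option maxHeartbeats 400000

/-!
# Ranges of homogeneous idempotents on Segre products have no local cohomology (helper6)
-/

universe u

namespace Groth.Agent.Lib.Helper6.SegK

open scoped TensorProduct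
open DirectSum Groth.Agent.Helper9.GrLCLib Groth.Agent.Helper9.GrLCLib.Trans

section RangeSum

variable {R : Type u} [CommRing R] [IsNoetherianRing R] {𝒜 : ℤ → AddSubgroup R} [GradedRing 𝒜]

lemma bc_subGMod_congr (W : GrLC.GMod.{u} 𝒜) {P P' : Submodule R W.carrier} (h : P = P')
    (hP : P.IsHomogeneous W.gr) (hP' : P'.IsHomogeneous W.gr) (hbc : BC (subGMod W P hP)) :
    BC (subGMod W P' hP') := by
  subst h
  exact hbc

/-- the range of the sum of two orthogonal homogeneous idempotents -/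
theorem bc_range_add (W : GrLC.GMod.{u} 𝒜) (f g : W.carrier →ₗ[R] W.carrier)
    (hfg : GrLC.IsGrHom W.gr W.gr f) (hgg : GrLC.IsGrHom W.gr W.gr g)
    (hff : ∀ w, f (f w) = f w) (hgg' : ∀ w, g (g w) = g w) (hfg0 : ∀ w, f (g w) = 0)
    (hgf0 : ∀ w, g (f w) = 0)
    (hPf : (LinearMap.range f).IsHomogeneous W.gr) (hPg : (LinearMap.range g).IsHomogeneous W.gr)
    (hP : (LinearMap.range (f + g)).IsHomogeneous W.gr)
    (hbf : BC (subGMod W (LinearMap.range f) hPf)) (hbg : BC (subGMod W (LinearMap.range g) hPg)) :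
    BC (subGMod W (LinearMap.range (f + g)) hP) := by
  let A := subGMod W (LinearMap.range f) hPf
  let B := subGMod W (LinearMap.range (f + g)) hP
  let C := subGMod W (LinearMap.range g) hPg
  have hle1 : ∀ x : A.carrier, subMap W _ hPf x ∈ LinearMap.range (f + g) := by
    intro x
    obtain ⟨w, hw⟩ := subMap_mem W _ hPf x
    refine ⟨f w, ?_⟩
    rw [LinearMap.add_apply, hff, hgf0, add_zero, hw]
  have hle2 : ∀ x : C.carrier, subMap W _ hPg x ∈ LinearMap.range (f + g) := by
    intro x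
    obtain ⟨w, hw⟩ := subMap_mem W _ hPg x
    refine ⟨g w, ?_⟩
    rw [LinearMap.add_apply, hgg', hfg0, zero_add, hw]
  let i1 : A.carrier →ₗ[R] B.carrier := subLift W _ hP (subMap W _ hPf) hle1
  let i2 : C.carrier →ₗ[R] B.carrier := subLift W _ hP (subMap W _ hPg) hle2
  let r1 : B.carrier →ₗ[R] A.carrier :=
    subLift W _ hPf (f ∘ₗ subMap W _ hP) (fun x => ⟨_, rfl⟩)
  let r2 : B.carrier →ₗ[R] C.carrier :=
    subLift W _ hPg (g ∘ₗ subMap W _ hP) (fun x => ⟨_, rfl⟩)
  have hi1 : ∀ x, subMap W _ hP (i1 x) = subMap W _ hPf x := fun x => rfl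
  have hi2 : ∀ x, subMap W _ hP (i2 x) = subMap W _ hPg x := fun x => rfl
  have hr1 : ∀ x, subMap W _ hPf (r1 x) = f (subMap W _ hP x) := fun x => rfl
  have hr2 : ∀ x, subMap W _ hPg (r2 x) = g (subMap W _ hP x) := fun x => rfl
  refine BC.split A B C i1 r1 i2 r2 ?_ ?_ ?_ ?_ ?_ ?_ ?_ hbf hbg
  · intro d x hx
    apply (mem_subGMod_gr W _ hP d _).mpr
    rw [hi1]
    exact (mem_subGMod_gr W _ hPf d x).mp hx
  · intro d x hx
    apply (mem_subGMod_gr W _ hPf d _).mpr
    rw [hr1]
    exact hfg d _ ((mem_subGMod_gr W _ hP d x).mp hx)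
  · intro d x hx
    apply (mem_subGMod_gr W _ hP d _).mpr
    rw [hi2]
    exact (mem_subGMod_gr W _ hPg d x).mp hx
  · intro d x hx
    apply (mem_subGMod_gr W _ hPg d _).mpr
    rw [hr2]
    exact hgg d _ ((mem_subGMod_gr W _ hP d x).mp hx)
  · apply LinearMap.ext
    intro x
    apply subMap_injective W _ hPf
    rw [LinearMap.comp_apply, hr1, hi1, LinearMap.id_apply]
    obtain ⟨w, hw⟩ := subMap_mem W _ hPf x
    rw [← hw, hff]
  · apply LinearMap.ext
    intro x
    apply subMap_injective W _ hPg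
    rw [LinearMap.comp_apply, hr2, hi2, LinearMap.id_apply]
    obtain ⟨w, hw⟩ := subMap_mem W _ hPg x
    rw [← hw, hgg']
  · apply LinearMap.ext
    intro x
    apply subMap_injective W _ hP
    rw [LinearMap.add_apply, map_add, LinearMap.comp_apply, LinearMap.comp_apply, hi1, hi2, hr1,
      hr2, LinearMap.id_apply]
    obtain ⟨w, hw⟩ := subMap_mem W _ hP x
    rw [← hw, LinearMap.add_apply, map_add, map_add, hff, hfg0, hgf0, hgg', add_zero, zero_add]

/-- the range of a sum of orthogonal homogeneous idempotents -/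
theorem bc_range_sum (W : GrLC.GMod.{u} 𝒜) {α : Type} [DecidableEq α] (s : Finset α)
    (F : α → (W.carrier →ₗ[R] W.carrier))
    (hFg : ∀ x ∈ s, GrLC.IsGrHom W.gr W.gr (F x))
    (hF : ∀ x ∈ s, ∀ y ∈ s, ∀ w, F x (F y w) = if x = y then F y w else 0)
    (hbc : ∀ x ∈ s, ∀ hh, BC (subGMod W (LinearMap.range (F x)) hh)) :
    ∀ hh, BC (subGMod W (LinearMap.range (∑ x ∈ s, F x)) hh) := by
  induction s using Finset.induction_on with
  | empty =>
    intro hh
    apply BC.of_subsingleton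
    constructor
    intro x y
    apply subMap_injective W _ hh
    have h2 : ∀ v : W.carrier, v ∈ LinearMap.range (∑ x ∈ (∅ : Finset α), F x) → v = 0 := by
      intro v hv
      rw [Finset.sum_empty] at hv
      obtain ⟨_, rfl⟩ := hv
      rfl
    rw [h2 _ (subMap_mem W _ hh x), h2 _ (subMap_mem W _ hh y)]
  | insert a s ha ih =>
    intro hh
    have hFg' : ∀ x ∈ s, GrLC.IsGrHom W.gr W.gr (F x) :=
      fun x hx => hFg x (Finset.mem_insert_of_mem hx)
    have hF' : ∀ x ∈ s, ∀ y ∈ s, ∀ w, F x (F y w) = if x = y then F y w else 0 :=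
      fun x hx y hy => hF x (Finset.mem_insert_of_mem hx) y (Finset.mem_insert_of_mem hy)
    have hGg : GrLC.IsGrHom W.gr W.gr (∑ x ∈ s, F x) := by
      intro d w hw
      rw [LinearMap.sum_apply]
      exact sum_mem (fun x hx => hFg' x hx d w hw)
    have hPG := range_isHomogeneous W.gr W.gr hGg
    have hPa := range_isHomogeneous W.gr W.gr (hFg a (Finset.mem_insert_self a s))
    have ih' := ih hFg' hF' (fun x hx => hbc x (Finset.mem_insert_of_mem hx)) hPG
    have haa : ∀ w, F a (F a w) = F a w := by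
      intro w
      rw [hF a (Finset.mem_insert_self a s) a (Finset.mem_insert_self a s), if_pos rfl]
    have hax : ∀ x ∈ s, ∀ w, F a (F x w) = 0 := by
      intro x hx w
      rw [hF a (Finset.mem_insert_self a s) x (Finset.mem_insert_of_mem hx), if_neg]
      rintro rfl
      exact ha hx
    have hxa : ∀ x ∈ s, ∀ w, F x (F a w) = 0 := by
      intro x hx w
      rw [hF x (Finset.mem_insert_of_mem hx) a (Finset.mem_insert_self a s), if_neg]
      rintro rfl
      exact ha hx
    have hGG : ∀ w, (∑ x ∈ s, F x) ((∑ x ∈ s, F x) w) = (∑ x ∈ s, F x) w := by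
      intro w
      rw [LinearMap.sum_apply, LinearMap.sum_apply]
      refine Finset.sum_congr rfl (fun x hx => ?_)
      rw [map_sum, Finset.sum_eq_single x]
      · rw [hF' x hx x hx, if_pos rfl]
      · intro y hy hyx
        rw [hF' x hx y hy, if_neg (Ne.symm hyx)]
      · intro h
        exact absurd hx h
    have haG : ∀ w, F a ((∑ x ∈ s, F x) w) = 0 := by
      intro w
      rw [LinearMap.sum_apply, map_sum]
      exact Finset.sum_eq_zero (fun x hx => hax x hx w)
    have hGa : ∀ w, (∑ x ∈ s, F x) (F a w) = 0 := by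
      intro w
      rw [LinearMap.sum_apply]
      exact Finset.sum_eq_zero (fun x hx => hxa x hx w)
    have hsum : ∑ x ∈ insert a s, F x = F a + ∑ x ∈ s, F x := Finset.sum_insert ha
    have hh' : (LinearMap.range (F a + ∑ x ∈ s, F x)).IsHomogeneous W.gr := by
      rw [← hsum]
      exact hh
    have key := bc_range_add W (F a) (∑ x ∈ s, F x) (hFg a (Finset.mem_insert_self a s)) hGg
      haa hGG haG hGa hPa hPG hh' (hbc a (Finset.mem_insert_self a s) hPa) ih'
    exact bc_subGMod_congr W (by rw [hsum]) hh' hh key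

end RangeSum

section RangeTm

variable {k : Type u} [Field k] {R S T : Type u} [CommRing R] [CommRing S] [CommRing T]
  [Algebra k R] [Algebra k S] [Algebra k T] [IsNoetherianRing R] [IsNoetherianRing S]
  [IsNoetherianRing T]
  {𝒜 : ℤ → Submodule k R} {ℬ : ℤ → Submodule k S} {𝒯 : ℤ → Submodule k T}
  [GradedAlgebra 𝒜] [GradedAlgebra ℬ] [GradedAlgebra 𝒯]
  (ψ : T →ₐ[k] R ⊗[k] S) (hT : GrSeg.IsSegreRing 𝒜 ℬ 𝒯 ψ)
  {U : GrLC.GMod.{u} (toAG 𝒜)} {V : GrLC.GMod.{u} (toAG ℬ)}

attribute [local instance] kMod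

section LiftM

variable {U' U'' : GrLC.GMod.{u} (toAG 𝒜)} {V' V'' : GrLC.GMod.{u} (toAG ℬ)}

/-- `segLift`, typed between the bundled Segre products -/
noncomputable def segLiftM (F : Amb U V →ₗ[k] Amb U' V') (hF : IsAmb F) :
    (SegM ψ hT U V).carrier →ₗ[T] (SegM ψ hT U' V').carrier := segLift ψ hT F hF

/-- the underlying tensor of an element of the bundled Segre product -/
def valM (w : (SegM ψ hT U V).carrier) : Amb U V := SegC.val ψ hT U V w

lemma valM_injective : Function.Injective (valM ψ hT (U := U) (V := V)) :=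
  fun w w' h => SegC.ext ψ hT U V h

lemma valM_segLiftM (F : Amb U V →ₗ[k] Amb U' V') (hF : IsAmb F) (w : (SegM ψ hT U V).carrier) :
    valM ψ hT (segLiftM ψ hT F hF w) = F (valM ψ hT w) := rfl

lemma valM_mem (w : (SegM ψ hT U V).carrier) : valM ψ hT w ∈ segSub U V :=
  SegC.val_mem ψ hT U V w

lemma valM_add (w w' : (SegM ψ hT U V).carrier) :
    valM ψ hT (w + w') = valM ψ hT w + valM ψ hT w' := rfl

lemma valM_zero : valM ψ hT (0 : (SegM ψ hT U V).carrier) = 0 := rfl

lemma valM_sub (w w' : (SegM ψ hT U V).carrier) :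
    valM ψ hT (w - w') = valM ψ hT w - valM ψ hT w' := rfl

lemma valM_neg (w : (SegM ψ hT U V).carrier) : valM ψ hT (-w) = -valM ψ hT w := rfl

lemma valM_smul (t : T) (w : (SegM ψ hT U V).carrier) :
    valM ψ hT (t • w) = GrSeg.act k R S U.carrier V.carrier (ψ t) (valM ψ hT w) := rfl

lemma mem_gr_iff {d : ℤ} {w : (SegM ψ hT U V).carrier} :
    w ∈ (SegM ψ hT U V).gr d ↔ valM ψ hT w ∈ piece U V d := Iff.rfl

/-- the element of the bundled Segre product given by a tensor -/
def mkM (a : Amb U V) (ha : a ∈ segSub U V) : (SegM ψ hT U V).carrier := SegC.mk ψ hT U V a ha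

lemma valM_mkM (a : Amb U V) (ha : a ∈ segSub U V) : valM ψ hT (mkM ψ hT a ha) = a := rfl

lemma segLiftM_segLiftM (F : Amb U V →ₗ[k] Amb U' V') (hF : IsAmb F)
    (G : Amb U' V' →ₗ[k] Amb U'' V'') (hG : IsAmb G) (w : (SegM ψ hT U V).carrier) :
    segLiftM ψ hT G hG (segLiftM ψ hT F hF w) = segLiftM ψ hT (G ∘ₗ F) (hF.comp hG) w := rfl

lemma segLiftM_congr {F G : Amb U V →ₗ[k] Amb U' V'} (h : F = G) (hF : IsAmb F) (hG : IsAmb G)
    (w : (SegM ψ hT U V).carrier) : segLiftM ψ hT F hF w = segLiftM ψ hT G hG w := by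
  subst h
  rfl

lemma isGrHom_segLiftM (F : Amb U V →ₗ[k] Amb U' V') (hF : IsAmb F) :
    GrLC.IsGrHom (SegM ψ hT U V).gr (SegM ψ hT U' V').gr (segLiftM ψ hT F hF) :=
  isGrHom_segLift ψ hT F hF

lemma segLiftM_sum {α : Type} [DecidableEq α] (s : Finset α) (F : α → (Amb U V →ₗ[k] Amb U' V'))
    (hF : ∀ x, IsAmb (F x)) (hs : IsAmb (∑ x ∈ s, F x)) :
    segLiftM ψ hT (∑ x ∈ s, F x) hs = ∑ x ∈ s, segLiftM ψ hT (F x) (hF x) := by
  apply LinearMap.ext
  intro w
  apply valM_injective ψ hT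
  rw [valM_segLiftM, LinearMap.sum_apply, LinearMap.sum_apply]
  have h1 : ∀ (t : Finset α) (z : α → (SegM ψ hT U' V').carrier),
      valM ψ hT (∑ x ∈ t, z x) = ∑ x ∈ t, valM ψ hT (z x) := by
    intro t z
    induction t using Finset.induction_on with
    | empty => simp [valM_zero]
    | insert a t ha ih => rw [Finset.sum_insert ha, Finset.sum_insert ha, valM_add, ih]
  rw [h1]
  rfl

end LiftM

/-- the range of the map of Segre products induced by a pair of homogeneous idempotents whose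
ranges have no local cohomology -/
theorem bc_range_segLift_tm (a : Module.End k U.carrier) (b : Module.End k V.carrier)
    (ha : IsRG a) (hb : IsRG b) (haa : a * a = a) (hbb : b * b = b)
    (hPa : (LinearMap.range ha.toLin).IsHomogeneous U.gr)
    (hPb : (LinearMap.range hb.toLin).IsHomogeneous V.gr)
    (hUa : BC (subGMod U (LinearMap.range ha.toLin) hPa))
    (hVb : BC (subGMod V (LinearMap.range hb.toLin) hPb))
    (hh : (LinearMap.range (segLiftM ψ hT (tm a b) (isAmb_tm ha hb))).IsHomogeneous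
      (SegM ψ hT U V).gr) :
    BC (subGMod (SegM ψ hT U V) (LinearMap.range (segLiftM ψ hT (tm a b) (isAmb_tm ha hb))) hh) := by
  let Ua := subGMod U (LinearMap.range ha.toLin) hPa
  let Vb := subGMod V (LinearMap.range hb.toLin) hPb
  let ia : Ua.carrier →ₗ[R] U.carrier := subMap U _ hPa
  let ib : Vb.carrier →ₗ[S] V.carrier := subMap V _ hPb
  let ca : U.carrier →ₗ[R] Ua.carrier := subLift U _ hPa ha.toLin (fun u => ⟨u, rfl⟩)
  let cb : V.carrier →ₗ[S] Vb.carrier := subLift V _ hPb hb.toLin (fun v => ⟨v, rfl⟩)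
  have hia : GrLC.IsGrHom Ua.gr U.gr ia := isGrHom_subMap U _ hPa
  have hib : GrLC.IsGrHom Vb.gr V.gr ib := isGrHom_subMap V _ hPb
  have hca : GrLC.IsGrHom U.gr Ua.gr ca := by
    intro d u hu
    apply (mem_subGMod_gr U _ hPa d _).mpr
    exact ha.2 d u hu
  have hcb : GrLC.IsGrHom V.gr Vb.gr cb := by
    intro d v hv
    apply (mem_subGMod_gr V _ hPb d _).mpr
    exact hb.2 d v hv
  have haia : ∀ x : Ua.carrier, a (ia x) = ia x := by
    intro x
    obtain ⟨u, hu⟩ := subMap_mem U _ hPa x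
    have hu' : a u = ia x := hu
    rw [← hu']
    exact end_mul_eq haa u
  have hbib : ∀ x : Vb.carrier, b (ib x) = ib x := by
    intro x
    obtain ⟨v, hv⟩ := subMap_mem V _ hPb x
    have hv' : b v = ib x := hv
    rw [← hv']
    exact end_mul_eq hbb v
  have hI := isAmb_ambMap ia ib hia hib
  have hC := isAmb_ambMap ca cb hca hcb
  have hP := isAmb_tm ha hb
  -- the composites
  have h1 : (tm a b : Amb U V →ₗ[k] Amb U V) ∘ₗ ambMap ia ib = ambMap ia ib := by
    apply TensorProduct.ext'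
    intro x y
    show a (ia x) ⊗ₜ[k] b (ib y) = ia x ⊗ₜ[k] ib y
    rw [haia, hbib]
  have h2 : ambMap ia ib ∘ₗ ambMap ca cb = (tm a b : Amb U V →ₗ[k] Amb U V) := by
    apply TensorProduct.ext'
    intro x y
    rfl
  have h3 : (tm a b : Amb U V →ₗ[k] Amb U V) ∘ₗ tm a b = tm a b := by
    show tm a b * tm a b = tm a b
    rw [tm_mul, haa, hbb]
  let W := SegM ψ hT U V
  let B := subGMod W (LinearMap.range (segLiftM ψ hT (tm a b) hP)) hh
  have hmem : ∀ w : (SegM ψ hT Ua Vb).carrier, segLiftM ψ hT (ambMap ia ib) hI w ∈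
      LinearMap.range (segLiftM ψ hT (tm a b) hP) := by
    intro w
    refine ⟨segLiftM ψ hT (ambMap ia ib) hI w, ?_⟩
    rw [segLiftM_segLiftM, segLiftM_congr ψ hT h1 _ hI]
  let f : (SegM ψ hT Ua Vb).carrier →ₗ[T] B.carrier :=
    subLift W _ hh (segLiftM ψ hT (ambMap ia ib) hI) hmem
  let g : B.carrier →ₗ[T] (SegM ψ hT Ua Vb).carrier :=
    segLiftM ψ hT (ambMap ca cb) hC ∘ₗ subMap W _ hh
  have hf : ∀ w, subMap W _ hh (f w) = segLiftM ψ hT (ambMap ia ib) hI w := fun w => rfl
  have hg : ∀ z, g z = segLiftM ψ hT (ambMap ca cb) hC (subMap W _ hh z) := fun z => rfl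
  refine BC.retract (SegM ψ hT Ua Vb) B f g ?_ ?_ ?_ (bc_seg ψ hT hUa Vb hVb)
  · intro d w hw
    apply (mem_subGMod_gr W _ hh d _).mpr
    rw [hf]
    exact isGrHom_segLiftM ψ hT _ hI d w hw
  · intro d z hz
    rw [hg]
    exact isGrHom_segLiftM ψ hT _ hC d _ ((mem_subGMod_gr W _ hh d z).mp hz)
  · apply LinearMap.ext
    intro z
    apply subMap_injective W _ hh
    rw [LinearMap.comp_apply, hf, hg, LinearMap.id_apply, segLiftM_segLiftM,
      segLiftM_congr ψ hT h2 _ hP]
    obtain ⟨w, hw⟩ := subMap_mem W _ hh z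
    rw [← hw, segLiftM_segLiftM, segLiftM_congr ψ hT h3 _ hP]

end RangeTm

end Groth.Agent.Lib.Helper6.SegK
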