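import Mathlib
import Groth.Prelude.Def_GrLC
import Groth.Prelude.Def_GrSeg
import Groth.Agent.Lib.Helper6.SegK.SKi

set_option autoImplicit false
set_option linter.unusedSectionVars false
set_option linter.unusedVariables false
set_option linter.unusedSimpArgs false
set_option linter.style.haveILetI false
set_option maxHeartbeats 400000

/-!
# The cohomology of the total complex on the Segre product is torsion (helper6)
-/

universe u

namespace Groth.Agent.Lib.Helper6.SegK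

open scoped TensorProduct
open DirectSum Groth.Agent.Helper9.GrLCLib Groth.Agent.Helper9.GrLCLib.Trans
open Groth.Agent.Lib.Helper6.CMReg

section Gen

variable {R : Type u} [CommRing R] [IsNoetherianRing R] {𝒜 : ℤ → AddSubgroup R} [GradedRing 𝒜]

/-- a homogeneous injective map reflects homogeneity -/
lemma mem_gr_of_map_mem {Y Y' : GrLC.GMod.{u} 𝒜} (f : Y.carrier →ₗ[R] Y'.carrier)
    (hf : GrLC.IsGrHom Y.gr Y'.gr f) (hinj : Function.Injective f) {d : ℤ} {y : Y.carrier}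
    (hy : f y ∈ Y'.gr d) : y ∈ Y.gr d := by
  have h1 : f (proj Y.gr d y) = f y := by
    rw [← proj_map_of_isGrHom Y.gr Y'.gr hf y d, proj_of_mem_same Y'.gr hy]
  rw [← hinj h1]
  exact proj_mem Y.gr d y

/-- powers of a homogeneous element carry a sum of elements into a submodule as soon as they do so
for each of the summands -/
lemma exists_pow_smul_sum_mem {M : Type u} [AddCommGroup M] [Module R M] (B : Submodule R M)
    (t : R) {α : Type} [DecidableEq α] (s : Finset α) (f : α → M)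
    (h : ∀ x ∈ s, ∃ N : ℕ, t ^ N • f x ∈ B) : ∃ N : ℕ, t ^ N • ∑ x ∈ s, f x ∈ B := by
  induction s using Finset.induction_on with
  | empty => exact ⟨0, by rw [Finset.sum_empty, smul_zero]; exact Submodule.zero_mem _⟩
  | insert a s ha ih =>
    obtain ⟨N1, h1⟩ := h a (Finset.mem_insert_self a s)
    obtain ⟨N2, h2⟩ := ih (fun x hx => h x (Finset.mem_insert_of_mem hx))
    refine ⟨N1 + N2, ?_⟩
    rw [Finset.sum_insert ha, smul_add]
    refine Submodule.add_mem _ ?_ ?_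
    · rw [pow_add, mul_comm, mul_smul]
      exact Submodule.smul_mem _ _ h1
    · rw [pow_add, mul_smul]
      exact Submodule.smul_mem _ _ h2

/-- torsion modulo a submodule may be checked on homogeneous elements -/
lemma exists_pow_smul_mem_of_homogeneous (W : GrLC.GMod.{u} 𝒜) (Z B : Submodule R W.carrier)
    (hZ : Z.IsHomogeneous W.gr) (t : R)
    (h : ∀ (d : ℤ) (z : W.carrier), z ∈ W.gr d → z ∈ Z → ∃ N : ℕ, t ^ N • z ∈ B)
    (z : W.carrier) (hz : z ∈ Z) : ∃ N : ℕ, t ^ N • z ∈ B := by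
  classical
  rw [← DirectSum.sum_support_decompose W.gr z]
  apply exists_pow_smul_sum_mem B t
  intro d _
  exact h d _ (decompose W.gr z d).2 (hZ d hz)

variable {X : GrLC.GMod.{u} 𝒜} {xs : List R} (K : CPack X xs)

/-- the retraction of the total module of the Čech complex onto the module -/
noncomputable def CPack.ret : K.T.carrier →ₗ[R] X.carrier :=
  (LinearEquiv.ofInjective K.φ K.φ_inj).symm.toLinearMap ∘ₗ
    (K.p 0).codRestrict (LinearMap.range K.φ) (fun z => by rw [K.φ_range]; exact ⟨z, rfl⟩)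

lemma CPack.φ_ret (z : K.T.carrier) : K.φ (K.ret z) = K.p 0 z := by
  have h := (LinearEquiv.ofInjective K.φ K.φ_inj).apply_symm_apply
    ((K.p 0).codRestrict (LinearMap.range K.φ) (fun z => by rw [K.φ_range]; exact ⟨z, rfl⟩) z)
  exact congrArg Subtype.val h

lemma CPack.p0_φ (x : X.carrier) : K.p 0 (K.φ x) = K.φ x := by
  apply K.p_of_mem
  rw [← K.φ_range]
  exact ⟨x, rfl⟩

lemma CPack.ret_φ (x : X.carrier) : K.ret (K.φ x) = x := by
  apply K.φ_inj
  rw [K.φ_ret, K.p0_φ]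

lemma CPack.ret_gr : GrLC.IsGrHom K.T.gr X.gr K.ret := by
  intro d z hz
  apply mem_gr_of_map_mem K.φ K.φ_gr K.φ_inj
  rw [K.φ_ret]
  exact K.p_gr 0 d z hz

lemma span_singleton_le_of_pos (hxs : ∀ e : ℤ, 0 < e → ∀ x ∈ 𝒜 e, x ∈ Ideal.span {y | y ∈ xs})
    (x : R) (e : ℤ) (he : 0 < e) (hx : x ∈ 𝒜 e) :
    Ideal.span {x} ≤ Ideal.span {y | y ∈ xs} := by
  rw [Ideal.span_le]
  intro r hr
  rw [Set.mem_singleton_iff] at hr
  rw [hr]
  exact hxs e he x hx

/-- a homogeneous cocycle of positive cohomological degree, multiplied by a large power of a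
homogeneous element of positive degree, is the coboundary of a homogeneous element -/
lemma CPack.exists_lift_pow
    (hxs : ∀ e : ℤ, 0 < e → ∀ x ∈ 𝒜 e, x ∈ Ideal.span {y | y ∈ xs})
    (x : R) (e : ℤ) (he : 0 < e) (hx : x ∈ 𝒜 e) (i : ℕ) (d : ℤ) (u : K.T.carrier)
    (hu : u ∈ K.T.gr d) (hpu : K.p (i + 1) u = u) (hD : K.D u = 0) :
    ∃ s0 : ℕ, ∀ s, s0 ≤ s → ∃ u0 : K.T.carrier, u0 ∈ K.T.gr (s • e + d) ∧ K.p i u0 = u0 ∧
      K.D u0 = x ^ s • u := by
  obtain ⟨n, hn⟩ := K.tors' (Ideal.span {x}) (span_singleton_le_of_pos hxs x e he hx) (i + 1) u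
    ⟨u, hpu⟩ hD
  refine ⟨n, fun s hs => ?_⟩
  have h1 : x ^ s ∈ Ideal.span {x} ^ n := by
    have h2 : x ^ s ∈ Ideal.span {x} ^ s :=
      Ideal.pow_mem_pow (Ideal.subset_span (Set.mem_singleton x)) s
    exact Ideal.pow_le_pow_right hs h2
  obtain ⟨w, hw, hwD⟩ := hn _ h1
  have hw2 : w ∈ LinearMap.range (K.p i) := hw
  have hw' : K.p i w = w := K.p_of_mem hw2
  have hxs' : x ^ s ∈ 𝒜 (s • e) := SetLike.pow_mem_graded s hx
  have hxu : x ^ s • u ∈ K.T.gr (s • e + d) := smul_mem_add 𝒜 K.T.gr hxs' hu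
  refine ⟨proj K.T.gr (s • e + d) w, proj_mem _ _ _, ?_, ?_⟩
  · rw [← proj_map_of_isGrHom K.T.gr K.T.gr (K.p_gr i) w, hw']
  · rw [← proj_map_of_isGrHom K.T.gr K.T.gr K.D_gr w, hwD, proj_of_mem_same K.T.gr hxu]

/-- a cocycle of cohomological degree zero is killed by a power of every homogeneous element of
positive degree -/
lemma CPack.exists_pow_smul_eq_zero
    (hxs : ∀ e : ℤ, 0 < e → ∀ x ∈ 𝒜 e, x ∈ Ideal.span {y | y ∈ xs})
    (x : R) (e : ℤ) (he : 0 < e) (hx : x ∈ 𝒜 e) (u : K.T.carrier)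
    (hpu : K.p 0 u = u) (hD : K.D u = 0) : ∃ s : ℕ, x ^ s • u = 0 := by
  obtain ⟨n, hn⟩ := K.tors' (Ideal.span {x}) (span_singleton_le_of_pos hxs x e he hx) 0 u
    ⟨u, hpu⟩ hD
  refine ⟨n, ?_⟩
  obtain ⟨w, hw, hwD⟩ := hn _ (Ideal.pow_mem_pow (Ideal.subset_span (Set.mem_singleton x)) n)
  have hw0 : w = 0 := (Submodule.mem_bot R).mp hw
  rw [← hwD, hw0, map_zero]

end Gen

namespace KW

variable {k : Type u} [Field k] {U V : Type u} [AddCommGroup U] [Module k U] [AddCommGroup V]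
  [Module k V] (GU : DGS k U) (GV : DGS k V)

lemma Pn_tmul_of_mem {i j n : ℕ} (h : i + j = n) {u : U} {v : V} (hu : GU.p i u = u)
    (hv : GV.p j v = v) : Pn GU GV n (u ⊗ₜ[k] v) = u ⊗ₜ[k] v := by
  unfold Pn
  rw [LinearMap.sum_apply, Finset.sum_eq_single (i, j)]
  · show GU.p i u ⊗ₜ[k] GV.p j v = _
    rw [hu, hv]
  · rintro ⟨a, b⟩ hab hne
    show GU.p a u ⊗ₜ[k] GV.p b v = 0
    have hab' : a + b = n := Finset.HasAntidiagonal.mem_antidiagonal.mp hab
    have ha : a ≠ i := by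
      intro hai
      apply hne
      have hb : b = j := by omega
      rw [hai, hb]
    rw [← hu, GU.p_ne' ha, TensorProduct.zero_tmul]
  · intro hnot
    exact absurd (Finset.HasAntidiagonal.mem_antidiagonal.mpr h) hnot

lemma Pn_one_eq_zero (h0U : GU.p 0 = 0) (h0V : GV.p 0 = 0) : Pn GU GV 1 = 0 := by
  unfold Pn
  have h1 : Finset.HasAntidiagonal.antidiagonal 1 = {((0 : ℕ), (1 : ℕ)), (1, 0)} := by decide
  rw [h1, Finset.sum_insert (by decide), Finset.sum_singleton]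
  unfold PW
  rw [h0U, h0V, tm_zero_left, tm_zero_right, add_zero]

section Restr

variable (πU : Module.End k U) (hπU : πU * πU = πU) (hπDU : πU * GU.D = GU.D * πU)
  (hπpU : ∀ i, πU * GU.p i = GU.p i * πU)
  (πV : Module.End k V) (hπV : πV * πV = πV) (hπDV : πV * GV.D = GV.D * πV)
  (hπpV : ∀ i, πV * GV.p i = GV.p i * πV)

lemma Pn_restr (n : ℕ) :
    Pn (GU.restr πU hπU hπDU hπpU) (GV.restr πV hπV hπDV hπpV) n = Pn GU GV n * tm πU πV := by
  unfold Pn
  rw [Finset.sum_mul]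
  refine Finset.sum_congr rfl (fun x _ => ?_)
  unfold PW
  rw [tm_mul]
  rfl

lemma Pn_restr' (n : ℕ) :
    Pn (GU.restr πU hπU hπDU hπpU) (GV.restr πV hπV hπDV hπpV) n = tm πU πV * Pn GU GV n := by
  unfold Pn
  rw [Finset.mul_sum]
  refine Finset.sum_congr rfl (fun x _ => ?_)
  unfold PW
  rw [tm_mul, hπpU, hπpV]
  rfl

end Restr

end KW

section KStr

variable {k : Type u} [Field k] {R : Type u} [CommRing R] [Algebra k R] [IsNoetherianRing R]
  {𝒜 : ℤ → Submodule k R} [GradedAlgebra 𝒜] {X : GrLC.GMod.{u} (toAG 𝒜)} {xs : List R}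
  (K : CPack X xs)

attribute [local instance] kMod

lemma πk_pk_πk (i : ℕ) (d : ℤ) (u : K.T.carrier) :
    πk K.T d (K.pk i (πk K.T d u)) = K.pk i (πk K.T d u) := by
  rw [end_mul_comm ((K.isRG_pk i).comm_πk d), end_mul_eq (πk_idem K.T d)]

lemma CPack.mem_fdgs_Z {i : ℕ} {d : ℤ} {u : K.T.carrier} :
    u ∈ (K.fdgs d).Z i ↔ u ∈ K.T.gr d ∧ K.p i u = u ∧ K.D u = 0 := by
  rw [DGS.mem_Z]
  show K.Dk (πk K.T d u) = 0 ∧ K.pk i (πk K.T d u) = u ↔ _
  constructor
  · rintro ⟨h1, h2⟩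
    have h3 : πk K.T d u = u := by
      have h4 := πk_pk_πk K i d u
      rw [h2] at h4
      exact h4
    rw [h3] at h1 h2
    refine ⟨?_, h2, h1⟩
    rw [← h3]
    exact πk_mem K.T d u
  · rintro ⟨h1, h2, h3⟩
    rw [πk_of_mem K.T h1]
    exact ⟨h3, h2⟩

lemma CPack.pk0_of_pk_succ {j : ℕ} {v : K.T.carrier} (hv : K.p (j + 1) v = v) : K.pk 0 v = 0 := by
  rw [← hv]
  exact end_mul_eq_zero (K.pk_ne (by omega)) v

lemma CPack.tD_of_pk_succ {j : ℕ} {v : K.T.carrier} (hv : K.p (j + 1) v = v) :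
    K.tdgs.D v = K.D v := by
  rw [K.tdgs_D, Module.End.mul_apply, LinearMap.sub_apply, Module.End.one_apply,
    K.pk0_of_pk_succ hv, sub_zero]
  rfl

lemma CPack.te_of_pk_succ {j : ℕ} {v : K.T.carrier} (hv : K.p (j + 1) v = v) :
    K.tdgs.e v = v := by
  rw [K.tdgs_e, LinearMap.sub_apply, Module.End.one_apply, K.pk0_of_pk_succ hv, sub_zero]

lemma CPack.tp_of_pk_succ {j : ℕ} {v : K.T.carrier} (hv : K.p (j + 1) v = v) :
    K.tdgs.p (j + 1) v = v := by
  rw [K.tp_succ]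
  exact hv

lemma CPack.tD_of_pk_zero {v : K.T.carrier} (hv : K.p 0 v = v) : K.tdgs.D v = 0 := by
  rw [← hv]
  exact end_mul_eq_zero K.tD_pk0 v

lemma CPack.mem_ddgs_Z_succ {i : ℕ} {d : ℤ} {u : K.T.carrier} :
    u ∈ (K.ddgs d).Z (i + 1) ↔ u ∈ K.T.gr d ∧ K.p (i + 1) u = u ∧ K.D u = 0 := by
  rw [DGS.mem_Z]
  show K.tdgs.D (πk K.T d u) = 0 ∧ K.tdgs.p (i + 1) (πk K.T d u) = u ↔ _
  rw [K.tp_succ]
  constructor
  · rintro ⟨h1, h2⟩
    have h3 : πk K.T d u = u := by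
      have h4 := πk_pk_πk K (i + 1) d u
      rw [h2] at h4
      exact h4
    rw [h3] at h1 h2
    have h2' : K.p (i + 1) u = u := h2
    refine ⟨?_, h2', ?_⟩
    · rw [← h3]
      exact πk_mem K.T d u
    · rw [← K.tD_of_pk_succ h2']
      exact h1
  · rintro ⟨h1, h2, h3⟩
    rw [πk_of_mem K.T h1]
    exact ⟨by rw [K.tD_of_pk_succ h2]; exact h3, h2⟩

lemma CPack.ddgs_p_zero (d : ℤ) : (K.ddgs d).p 0 = 0 := by
  show K.tdgs.p 0 * πk K.T d = 0
  rw [K.tp_zero, zero_mul]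

lemma CPack.ddgs_Z_zero {d : ℤ} {u : K.T.carrier} (hu : u ∈ (K.ddgs d).Z 0) : u = 0 := by
  rw [DGS.mem_Z] at hu
  have h2 := hu.2
  rw [K.ddgs_p_zero, LinearMap.zero_apply] at h2
  exact h2.symm

end KStr

end Groth.Agent.Lib.Helper6.SegK
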