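import Mathlib
import Groth.Prelude.Def_GrLC
import Groth.Prelude.Def_GrSeg
import Groth.Agent.Lib.Helper6.SegK.SKj

set_option autoImplicit false
set_option linter.unusedSectionVars false
set_option linter.unusedVariables false
set_option linter.unusedSimpArgs false
set_option linter.style.haveILetI false
set_option maxHeartbeats 400000

/-!
# Homogeneous cocycles of the total complex on the Segre product are torsion (helper6)
-/

universe u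

namespace Groth.Agent.Lib.Helper6.SegK

open scoped TensorProduct
open DirectSum Groth.Agent.Helper9.GrLCLib Groth.Agent.Helper9.GrLCLib.Trans
open Groth.Agent.Lib.Helper6.CMReg

section Ops

variable {k : Type u} [Field k] {R S : Type u} [CommRing R] [CommRing S]
  [Algebra k R] [Algebra k S] [IsNoetherianRing R] [IsNoetherianRing S]
  {𝒜 : ℤ → Submodule k R} {ℬ : ℤ → Submodule k S} [GradedAlgebra 𝒜] [GradedAlgebra ℬ]
  {XM : GrLC.GMod.{u} (toAG 𝒜)} {XN : GrLC.GMod.{u} (toAG ℬ)} {xs : List R} {ys : List S}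
  (KM : CPack XM xs) (KN : CPack XN ys)

attribute [local instance] kMod

lemma Damb_Qamb_zero' : Damb KM KN * Qamb KM KN 0 = Aamb KM KN := by
  show Damb KM KN * tm (KM.pk 0) (KN.pk 0) = _
  unfold Damb
  have h1 : KW.Dw KM.tdgs KN.tdgs * tm (KM.pk 0) (KN.pk 0) = 0 := by
    unfold KW.Dw
    rw [add_mul, tm_mul, tm_mul, KM.tD_pk0, KN.tD_pk0, tm_zero_left, tm_zero_right, add_zero]
  have h2 : Aamb KM KN * tm (KM.pk 0) (KN.pk 0) = Aamb KM KN := by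
    unfold Aamb
    rw [tm_mul, mul_assoc, mul_assoc, KM.pk_idem, KN.pk_idem]
  rw [add_mul, h1, h2, zero_add]

lemma Pn_ddgs (d : ℤ) (n : ℕ) :
    KW.Pn (KM.ddgs d) (KN.ddgs d) n = KW.Pn KM.tdgs KN.tdgs n * PiK KM.T KN.T d :=
  KW.Pn_restr _ _ _ _ _ _ _ _ _ _ n

lemma Pn_ddgs' (d : ℤ) (n : ℕ) :
    KW.Pn (KM.ddgs d) (KN.ddgs d) n = PiK KM.T KN.T d * KW.Pn KM.tdgs KN.tdgs n :=
  KW.Pn_restr' _ _ _ _ _ _ _ _ _ _ n

lemma Damb_mul_eW_ddgs (d : ℤ) :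
    Damb KM KN * KW.eW (KM.ddgs d) (KN.ddgs d) = KW.Dw (KM.ddgs d) (KN.ddgs d) := by
  have hUe : (KM.ddgs d).e = KM.tdgs.e * πk KM.T d := DGS.restr_e _ _ _ _ _
  have hVe : (KN.ddgs d).e = KN.tdgs.e * πk KN.T d := DGS.restr_e _ _ _ _ _
  have hUD : (KM.ddgs d).D = KM.tdgs.D * πk KM.T d := rfl
  have hVD : (KN.ddgs d).D = KN.tdgs.D * πk KN.T d := rfl
  have hUε : (KM.ddgs d).ε = KM.tdgs.ε * πk KM.T d := DGS.restr_ε _ _ _ _ _
  have h1 : KM.tdgs.D * (KM.tdgs.e * πk KM.T d) = KM.tdgs.D * πk KM.T d := by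
    rw [← mul_assoc, KM.tdgs.D_e']
  have h2 : KN.tdgs.e * (KN.tdgs.e * πk KN.T d) = KN.tdgs.e * πk KN.T d := by
    rw [← mul_assoc, KN.tdgs.e_e]
  have h3 : KM.tdgs.ε * (KM.tdgs.e * πk KM.T d) = KM.tdgs.ε * πk KM.T d := by
    rw [← mul_assoc, KM.tdgs.ε_e]
  have h4 : KN.tdgs.D * (KN.tdgs.e * πk KN.T d) = KN.tdgs.D * πk KN.T d := by
    rw [← mul_assoc, KN.tdgs.D_e']
  have h5 : KM.Dk * KM.pk 0 * (KM.tdgs.e * πk KM.T d) = 0 := by
    rw [KM.tdgs_e, ← mul_assoc, mul_assoc KM.Dk, mul_sub, mul_one, KM.pk_idem, sub_self, mul_zero,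
      zero_mul]
  unfold KW.eW KW.Dw Damb
  rw [hUe, hVe, hUD, hVD, hUε]
  unfold KW.Dw Aamb
  rw [add_mul, add_mul, tm_mul, tm_mul, tm_mul, h1, h2, h3, h4, h5, tm_zero_left, add_zero]

lemma Damb_eW_ddgs (d : ℤ) (w : Amb KM.T KN.T) :
    Damb KM KN (KW.eW (KM.ddgs d) (KN.ddgs d) w) = KW.Dw (KM.ddgs d) (KN.ddgs d) w :=
  end_mul_eq (Damb_mul_eW_ddgs KM KN d) w

/-- the projections onto the preceding terms of the total complex -/
noncomputable def Qprev : ℕ → Module.End k (Amb KM.T KN.T)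
  | 0 => 0
  | (j + 1) => Qamb KM KN j

lemma isAmb_Qprev (j : ℕ) : IsAmb (Qprev KM KN j) := by
  cases j with
  | zero => exact IsAmb.zero
  | succ j => exact isAmb_Qamb KM KN j

end Ops

section Good

open Groth.Agent.Helper9.SegreLib

variable {k : Type u} [Field k] {R S T : Type u} [CommRing R] [CommRing S] [CommRing T]
  [Algebra k R] [Algebra k S] [Algebra k T] [IsNoetherianRing R] [IsNoetherianRing S]
  [IsNoetherianRing T]
  {𝒜 : ℤ → Submodule k R} {ℬ : ℤ → Submodule k S} {𝒯 : ℤ → Submodule k T}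
  [GradedAlgebra 𝒜] [GradedAlgebra ℬ] [GradedAlgebra 𝒯]
  (ψ : T →ₐ[k] R ⊗[k] S) (hT : GrSeg.IsSegreRing 𝒜 ℬ 𝒯 ψ)
  {XM : GrLC.GMod.{u} (toAG 𝒜)} {XN : GrLC.GMod.{u} (toAG ℬ)} {xs : List R} {ys : List S}
  (KM : CPack XM xs) (KN : CPack XN ys)

attribute [local instance] kMod

/-- a power of `t` carries `a` to the coboundary of an element of the Segre product fixed by
`Q'` -/
def GoodT (t : T) (Q' : Module.End k (Amb KM.T KN.T)) (a : Amb KM.T KN.T) : Prop :=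
  ∃ (N : ℕ) (w0 : Amb KM.T KN.T), w0 ∈ segSub KM.T KN.T ∧ Q' w0 = w0 ∧
    Damb KM KN w0 = GrSeg.act k R S KM.T.carrier KN.T.carrier (ψ (t ^ N)) a

lemma GoodT.zero (t : T) (Q' : Module.End k (Amb KM.T KN.T)) : GoodT ψ KM KN t Q' 0 :=
  ⟨0, 0, Submodule.zero_mem _, map_zero _, by rw [map_zero, map_zero]⟩

include hT in
lemma GoodT.add {t : T} {Q' : Module.End k (Amb KM.T KN.T)} (hQ' : IsAmb Q')
    {a b : Amb KM.T KN.T} (ha : GoodT ψ KM KN t Q' a) (hb : GoodT ψ KM KN t Q' b) :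
    GoodT ψ KM KN t Q' (a + b) := by
  obtain ⟨N1, w1, hw1, hQ1, hD1⟩ := ha
  obtain ⟨N2, w2, hw2, hQ2, hD2⟩ := hb
  refine ⟨N1 + N2, GrSeg.act k R S KM.T.carrier KN.T.carrier (ψ (t ^ N2)) w1 +
    GrSeg.act k R S KM.T.carrier KN.T.carrier (ψ (t ^ N1)) w2, ?_, ?_, ?_⟩
  · exact Submodule.add_mem _ (act_mem_segSub ψ hT KM.T KN.T _ hw1)
      (act_mem_segSub ψ hT KM.T KN.T _ hw2)
  · rw [map_add, hQ'.1, hQ'.1, hQ1, hQ2]
  · have e1 : Damb KM KN (GrSeg.act k R S KM.T.carrier KN.T.carrier (ψ (t ^ N2)) w1) =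
        GrSeg.act k R S KM.T.carrier KN.T.carrier (ψ (t ^ (N1 + N2))) a := by
      rw [(isAmb_Damb KM KN).1, hD1, ← Groth.Agent.Lib.Helper6.SegMod.act_mul, ← map_mul,
        ← pow_add, add_comm N2 N1]
    have e2 : Damb KM KN (GrSeg.act k R S KM.T.carrier KN.T.carrier (ψ (t ^ N1)) w2) =
        GrSeg.act k R S KM.T.carrier KN.T.carrier (ψ (t ^ (N1 + N2))) b := by
      rw [(isAmb_Damb KM KN).1, hD2, ← Groth.Agent.Lib.Helper6.SegMod.act_mul, ← map_mul,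
        ← pow_add]
    calc Damb KM KN (GrSeg.act k R S KM.T.carrier KN.T.carrier (ψ (t ^ N2)) w1 +
          GrSeg.act k R S KM.T.carrier KN.T.carrier (ψ (t ^ N1)) w2)
        = Damb KM KN (GrSeg.act k R S KM.T.carrier KN.T.carrier (ψ (t ^ N2)) w1) +
          Damb KM KN (GrSeg.act k R S KM.T.carrier KN.T.carrier (ψ (t ^ N1)) w2) := map_add _ _ _
      _ = GrSeg.act k R S KM.T.carrier KN.T.carrier (ψ (t ^ (N1 + N2))) a +
          GrSeg.act k R S KM.T.carrier KN.T.carrier (ψ (t ^ (N1 + N2))) b := by rw [e1, e2]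
      _ = GrSeg.act k R S KM.T.carrier KN.T.carrier (ψ (t ^ (N1 + N2))) (a + b) :=
        (map_add _ _ _).symm

lemma GoodT.smul {t : T} {Q' : Module.End k (Amb KM.T KN.T)} (c : k)
    {a : Amb KM.T KN.T} (ha : GoodT ψ KM KN t Q' a) : GoodT ψ KM KN t Q' (c • a) := by
  obtain ⟨N, w, hw, hQ, hD⟩ := ha
  exact ⟨N, c • w, Submodule.smul_mem _ c hw, by rw [map_smul, hQ],
    by rw [map_smul, hD, map_smul]⟩

include hT in
lemma GoodT.of_mem_span {t : T} {Q' : Module.End k (Amb KM.T KN.T)} (hQ' : IsAmb Q')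
    (s : Set (Amb KM.T KN.T)) (hs : ∀ a ∈ s, GoodT ψ KM KN t Q' a) {a : Amb KM.T KN.T}
    (ha : a ∈ Submodule.span k s) : GoodT ψ KM KN t Q' a := by
  induction ha using Submodule.span_induction with
  | mem x hx => exact hs x hx
  | zero => exact GoodT.zero ψ KM KN t Q'
  | add x y _ _ hx hy => exact GoodT.add ψ hT KM KN hQ' hx hy
  | smul c x _ hx => exact GoodT.smul ψ KM KN c hx

variable (hxs : ∀ e : ℤ, 0 < e → ∀ x ∈ toAG 𝒜 e, x ∈ Ideal.span {y | y ∈ xs})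
  (hys : ∀ e : ℤ, 0 < e → ∀ y ∈ toAG ℬ e, y ∈ Ideal.span {y' | y' ∈ ys})
  {t : T} {e : ℤ} (he : 0 < e) {x : R} (hx : x ∈ 𝒜 e) {y : S} (hy : y ∈ ℬ e)
  (ht : ψ t = x ⊗ₜ[k] y)

include ht in
lemma act_pow_tmul (s : ℕ) (u : KM.T.carrier) (v : KN.T.carrier) :
    GrSeg.act k R S KM.T.carrier KN.T.carrier (ψ (t ^ s)) (u ⊗ₜ[k] v) =
      (x ^ s • u) ⊗ₜ[k] (y ^ s • v) := by
  rw [map_pow, ht, Algebra.TensorProduct.tmul_pow, GrSeg.act_tmul]

include hxs he hx hy ht in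
theorem good_left (i1 j1 : ℕ) (hi1 : 1 ≤ i1) {d : ℤ} {u : KM.T.carrier} {v : KN.T.carrier}
    (hu : u ∈ KM.T.gr d) (hv : v ∈ KN.T.gr d) (hpu : KM.p (i1 + 1) u = u) (hDu : KM.D u = 0)
    (hpv : KN.p (j1 + 1) v = v) (hDv : KN.D v = 0) :
    GoodT ψ KM KN t (KW.Pn KM.tdgs KN.tdgs (i1 + j1 + 1)) (u ⊗ₜ[k] v) := by
  obtain ⟨i0, rfl⟩ : ∃ i0, i1 = i0 + 1 := ⟨i1 - 1, by omega⟩
  obtain ⟨s0, hs0⟩ := KM.exists_lift_pow hxs x e he hx (i0 + 1) d u hu hpu hDu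
  obtain ⟨u0, hu0d, hu0p, hu0D⟩ := hs0 s0 le_rfl
  have hys' : y ^ s0 ∈ ℬ (s0 • e) := SetLike.pow_mem_graded s0 hy
  have hv' : y ^ s0 • v ∈ KN.T.gr (s0 • e + d) :=
    smul_mem_add (toAG ℬ) KN.T.gr (show y ^ s0 ∈ toAG ℬ (s0 • e) from hys') hv
  have hpv' : KN.p (j1 + 1) (y ^ s0 • v) = y ^ s0 • v := by rw [map_smul, hpv]
  have hDv' : KN.D (y ^ s0 • v) = 0 := by rw [map_smul, hDv, smul_zero]
  refine ⟨s0, u0 ⊗ₜ[k] (y ^ s0 • v), ?_, ?_, ?_⟩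
  · exact piece_le_segSub _ _ _ (tmul_mem_piece KM.T KN.T hu0d hv')
  · exact KW.Pn_tmul_of_mem KM.tdgs KN.tdgs (by omega) (KM.tp_of_pk_succ hu0p)
      (KN.tp_of_pk_succ hpv')
  · rw [act_pow_tmul ψ KM KN ht]
    unfold Damb KW.Dw Aamb
    rw [LinearMap.add_apply, LinearMap.add_apply]
    show KM.tdgs.D u0 ⊗ₜ[k] KN.tdgs.e (y ^ s0 • v) + KM.tdgs.ε u0 ⊗ₜ[k] KN.tdgs.D (y ^ s0 • v) +
      (KM.Dk * KM.pk 0) u0 ⊗ₜ[k] (KN.Dk * KN.pk 0) (y ^ s0 • v) = _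
    rw [KM.tD_of_pk_succ hu0p, hu0D, KN.te_of_pk_succ hpv', KN.tD_of_pk_succ hpv', hDv',
      TensorProduct.tmul_zero, add_zero, Module.End.mul_apply, KM.pk0_of_pk_succ hu0p, map_zero,
      TensorProduct.zero_tmul, add_zero]

include hys he hx hy ht in
theorem good_right (i1 j1 : ℕ) (hj1 : 1 ≤ j1) {d : ℤ} {u : KM.T.carrier} {v : KN.T.carrier}
    (hu : u ∈ KM.T.gr d) (hv : v ∈ KN.T.gr d) (hpu : KM.p (i1 + 1) u = u) (hDu : KM.D u = 0)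
    (hpv : KN.p (j1 + 1) v = v) (hDv : KN.D v = 0) :
    GoodT ψ KM KN t (KW.Pn KM.tdgs KN.tdgs (i1 + j1 + 1)) (u ⊗ₜ[k] v) := by
  obtain ⟨j0, rfl⟩ : ∃ j0, j1 = j0 + 1 := ⟨j1 - 1, by omega⟩
  obtain ⟨s0, hs0⟩ := KN.exists_lift_pow hys y e he hy (j0 + 1) d v hv hpv hDv
  obtain ⟨v0, hv0d, hv0p, hv0D⟩ := hs0 s0 le_rfl
  have hxs' : x ^ s0 ∈ 𝒜 (s0 • e) := SetLike.pow_mem_graded s0 hx
  have hu' : x ^ s0 • u ∈ KM.T.gr (s0 • e + d) :=
    smul_mem_add (toAG 𝒜) KM.T.gr (show x ^ s0 ∈ toAG 𝒜 (s0 • e) from hxs') hu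
  have hpu' : KM.p (i1 + 1) (x ^ s0 • u) = x ^ s0 • u := by rw [map_smul, hpu]
  have hDu' : KM.D (x ^ s0 • u) = 0 := by rw [map_smul, hDu, smul_zero]
  have hε1 : KM.tdgs.p (i1 + 1) (KM.tdgs.ε (x ^ s0 • u)) = KM.tdgs.ε (x ^ s0 • u) := by
    have hc : KM.tdgs.p (i1 + 1) * KM.tdgs.ε = KM.tdgs.ε * KM.tdgs.p (i1 + 1) := by
      rw [KM.tdgs.p_ε, KM.tdgs.ε_p]
    rw [end_mul_comm hc, KM.tp_of_pk_succ hpu']
  have hε2 : KM.tdgs.ε (KM.tdgs.ε (x ^ s0 • u)) = x ^ s0 • u := by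
    rw [end_mul_eq KM.tdgs.ε_ε, KM.te_of_pk_succ hpu']
  have hε3 : KM.tdgs.D (KM.tdgs.ε (x ^ s0 • u)) = 0 := by
    have h := end_mul_eq KM.tdgs.D_ε (x ^ s0 • u)
    rw [h, LinearMap.neg_apply, Module.End.mul_apply, KM.tD_of_pk_succ hpu', hDu', map_zero,
      neg_zero]
  have hε4 : KM.pk 0 (KM.tdgs.ε (x ^ s0 • u)) = 0 := by
    rw [← hε1]
    exact end_mul_eq_zero (KM.pk0_tp (i1 + 1)) _
  have hε5 : KM.tdgs.ε (x ^ s0 • u) ∈ KM.T.gr (s0 • e + d) := KM.isRG_tε.2 _ _ hu'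
  refine ⟨s0, KM.tdgs.ε (x ^ s0 • u) ⊗ₜ[k] v0, ?_, ?_, ?_⟩
  · exact piece_le_segSub _ _ _ (tmul_mem_piece KM.T KN.T hε5 hv0d)
  · exact KW.Pn_tmul_of_mem KM.tdgs KN.tdgs (by omega) hε1 (KN.tp_of_pk_succ hv0p)
  · rw [act_pow_tmul ψ KM KN ht]
    unfold Damb KW.Dw Aamb
    rw [LinearMap.add_apply, LinearMap.add_apply]
    show KM.tdgs.D (KM.tdgs.ε (x ^ s0 • u)) ⊗ₜ[k] KN.tdgs.e v0 +
      KM.tdgs.ε (KM.tdgs.ε (x ^ s0 • u)) ⊗ₜ[k] KN.tdgs.D v0 +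
      (KM.Dk * KM.pk 0) (KM.tdgs.ε (x ^ s0 • u)) ⊗ₜ[k] (KN.Dk * KN.pk 0) v0 = _
    rw [hε3, TensorProduct.zero_tmul, zero_add, hε2, KN.tD_of_pk_succ hv0p, hv0D,
      Module.End.mul_apply, hε4, map_zero, TensorProduct.zero_tmul, add_zero]

include hxs hys he hx hy ht in
theorem good_both {d : ℤ} {u : KM.T.carrier} {v : KN.T.carrier}
    (hu : u ∈ KM.T.gr d) (hv : v ∈ KN.T.gr d) (hpu : KM.p 1 u = u) (hDu : KM.D u = 0)
    (hpv : KN.p 1 v = v) (hDv : KN.D v = 0) :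
    GoodT ψ KM KN t (Qamb KM KN 0) (u ⊗ₜ[k] v) := by
  obtain ⟨s1, hs1⟩ := KM.exists_lift_pow hxs x e he hx 0 d u hu hpu hDu
  obtain ⟨s2, hs2⟩ := KN.exists_lift_pow hys y e he hy 0 d v hv hpv hDv
  obtain ⟨u0, hu0d, hu0p, hu0D⟩ := hs1 (s1 + s2) (by omega)
  obtain ⟨v0, hv0d, hv0p, hv0D⟩ := hs2 (s1 + s2) (by omega)
  have hu0p' : KM.pk 0 u0 = u0 := hu0p
  have hv0p' : KN.pk 0 v0 = v0 := hv0p
  refine ⟨s1 + s2, u0 ⊗ₜ[k] v0, ?_, ?_, ?_⟩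
  · exact piece_le_segSub _ _ _ (tmul_mem_piece KM.T KN.T hu0d hv0d)
  · show KM.pk 0 u0 ⊗ₜ[k] KN.pk 0 v0 = _
    rw [hu0p', hv0p']
  · rw [act_pow_tmul ψ KM KN ht]
    unfold Damb KW.Dw Aamb
    rw [LinearMap.add_apply, LinearMap.add_apply]
    show KM.tdgs.D u0 ⊗ₜ[k] KN.tdgs.e v0 + KM.tdgs.ε u0 ⊗ₜ[k] KN.tdgs.D v0 +
      (KM.Dk * KM.pk 0) u0 ⊗ₜ[k] (KN.Dk * KN.pk 0) v0 = _
    rw [KM.tD_of_pk_zero hu0p, TensorProduct.zero_tmul, zero_add, KN.tD_of_pk_zero hv0p,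
      TensorProduct.tmul_zero, zero_add, Module.End.mul_apply, Module.End.mul_apply, hu0p', hv0p']
    show KM.D u0 ⊗ₜ[k] KN.D v0 = _
    rw [hu0D, hv0D]

include hxs he hx ht in
theorem good_zero_left {u : KM.T.carrier} (hpu : KM.p 0 u = u) (hDu : KM.D u = 0)
    (v : KN.T.carrier) : GoodT ψ KM KN t 0 (u ⊗ₜ[k] v) := by
  obtain ⟨s, hs⟩ := KM.exists_pow_smul_eq_zero hxs x e he hx u hpu hDu
  refine ⟨s, 0, Submodule.zero_mem _, map_zero _, ?_⟩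
  rw [act_pow_tmul ψ KM KN ht, hs, TensorProduct.zero_tmul, map_zero]

include hys he hy ht in
theorem good_zero_right (u : KM.T.carrier) {v : KN.T.carrier} (hpv : KN.p 0 v = v)
    (hDv : KN.D v = 0) : GoodT ψ KM KN t 0 (u ⊗ₜ[k] v) := by
  obtain ⟨s, hs⟩ := KN.exists_pow_smul_eq_zero hys y e he hy v hpv hDv
  refine ⟨s, 0, Submodule.zero_mem _, map_zero _, ?_⟩
  rw [act_pow_tmul ψ KM KN ht, hs, TensorProduct.tmul_zero, map_zero]

include hT hxs hys he hx hy ht in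
/-- homogeneous cocycles of the total complex are torsion modulo coboundaries, on the level of the
ambient tensor product -/
theorem amb_tors (j : ℕ) (d : ℤ) (a : Amb KM.T KN.T) (had : a ∈ piece KM.T KN.T d)
    (haQ : a ∈ LinearMap.range (Qamb KM KN j)) (haD : Damb KM KN a = 0) :
    ∃ w' : Amb KM.T KN.T, GoodT ψ KM KN t (Qprev KM KN j)
      (a - Damb KM KN (Qprev KM KN j (PiK KM.T KN.T d w'))) := by
  have hPa : PiK KM.T KN.T d a = a := PiK_of_mem_piece _ _ had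
  cases j with
  | zero =>
    refine ⟨0, ?_⟩
    rw [map_zero, map_zero, map_zero, sub_zero]
    show GoodT ψ KM KN t 0 a
    obtain ⟨a', ha'⟩ := haQ
    have hQa : tm (KM.pk 0) (KN.pk 0) a = a := by
      rw [← ha']
      show tm (KM.pk 0) (KN.pk 0) (tm (KM.pk 0) (KN.pk 0) a') = tm (KM.pk 0) (KN.pk 0) a'
      rw [tm_apply, KM.pk_idem, KN.pk_idem]
    have hz : a ∈ LinearMap.range (tm ((KM.fdgs d).p 0) ((KN.fdgs d).p 0)) := by
      refine ⟨a, ?_⟩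
      show tm (KM.pk 0 * πk KM.T d) (KN.pk 0 * πk KN.T d) a = a
      rw [← tm_mul, Module.End.mul_apply]
      show tm (KM.pk 0) (KN.pk 0) (PiK KM.T KN.T d a) = a
      rw [hPa, hQa]
    have hD : tm (KM.fdgs d).D (KN.fdgs d).D a = 0 := by
      show tm (KM.Dk * πk KM.T d) (KN.Dk * πk KN.T d) a = 0
      rw [← tm_mul, Module.End.mul_apply]
      show tm KM.Dk KN.Dk (PiK KM.T KN.T d a) = 0
      rw [hPa]
      have e1 : Damb KM KN (tm (KM.pk 0) (KN.pk 0) a) = Aamb KM KN a :=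
        end_mul_eq (Damb_Qamb_zero' KM KN) a
      have e2 : Aamb KM KN a = tm KM.Dk KN.Dk (tm (KM.pk 0) (KN.pk 0) a) := by
        unfold Aamb
        rw [← tm_mul]
        rfl
      rw [hQa] at e1 e2
      rw [← e2, ← e1]
      exact haD
    obtain ⟨a1, ha1, a2, ha2, hsum⟩ := Submodule.mem_sup.mp (KW.exists_decomp_zero hz hD)
    rw [← hsum]
    refine GoodT.add ψ hT KM KN IsAmb.zero ?_ ?_
    · refine GoodT.of_mem_span ψ hT KM KN IsAmb.zero _ ?_ ha1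
      rintro _ ⟨u, v, hu, hv, rfl⟩
      obtain ⟨hud, hup, huD⟩ := KM.mem_fdgs_Z.mp hu
      exact good_zero_left ψ KM KN hxs he hx ht hup huD v
    · refine GoodT.of_mem_span ψ hT KM KN IsAmb.zero _ ?_ ha2
      rintro _ ⟨u, v, hu, hv, rfl⟩
      obtain ⟨hvd, hvp, hvD⟩ := KN.mem_fdgs_Z.mp hv
      exact good_zero_right ψ KM KN hys he hy ht u hvp hvD
  | succ j' =>
    obtain ⟨a', ha'⟩ := haQ
    have hz : a ∈ KW.Zw (KM.ddgs d) (KN.ddgs d) (Damb KM KN) (j' + 2) := by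
      refine ⟨LinearMap.mem_ker.mpr haD, a', ?_⟩
      rw [Pn_ddgs', Module.End.mul_apply]
      show PiK KM.T KN.T d (Qamb KM KN (j' + 1) a') = a
      rw [ha', hPa]
    obtain ⟨b, hb, hab⟩ := KW.exists_decomp (Damb_eW_ddgs KM KN d) hz
    obtain ⟨_, ⟨w', rfl⟩, rfl⟩ := hb
    have hb' : ∃ w'' : Amb KM.T KN.T,
        Damb KM KN (KW.Pn (KM.ddgs d) (KN.ddgs d) (j' + 1) w') =
          Damb KM KN (Qprev KM KN (j' + 1) (PiK KM.T KN.T d w'')) := by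
      cases j' with
      | zero =>
        refine ⟨0, ?_⟩
        rw [KW.Pn_one_eq_zero _ _ (KM.ddgs_p_zero d) (KN.ddgs_p_zero d)]
        simp
      | succ m =>
        refine ⟨w', ?_⟩
        rw [Pn_ddgs, Module.End.mul_apply]
        rfl
    obtain ⟨w'', hw''⟩ := hb'
    refine ⟨w'', ?_⟩
    rw [← hw'']
    refine GoodT.of_mem_span ψ hT KM KN (isAmb_Qprev KM KN (j' + 1)) _ ?_ hab
    rintro _ ⟨i, jj, u, v, hij, hu, hv, rfl⟩
    cases i with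
    | zero =>
      rw [KM.ddgs_Z_zero hu, TensorProduct.zero_tmul]
      exact GoodT.zero ψ KM KN t _
    | succ i1 =>
      cases jj with
      | zero =>
        rw [KN.ddgs_Z_zero hv, TensorProduct.tmul_zero]
        exact GoodT.zero ψ KM KN t _
      | succ j1 =>
        obtain ⟨hud, hup, huD⟩ := KM.mem_ddgs_Z_succ.mp hu
        obtain ⟨hvd, hvp, hvD⟩ := KN.mem_ddgs_Z_succ.mp hv
        cases j' with
        | zero =>
          have hi0 : i1 = 0 := by omega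
          have hj0 : j1 = 0 := by omega
          subst hi0 hj0
          exact good_both ψ KM KN hxs hys he hx hy ht hud hvd hup huD hvp hvD
        | succ m =>
          have hQ : Qprev KM KN (m + 1 + 1) = KW.Pn KM.tdgs KN.tdgs (i1 + j1 + 1) := by
            have h3 : i1 + j1 + 1 = m + 2 := by omega
            rw [h3]
            rfl
          rw [hQ]
          by_cases hi1 : 1 ≤ i1
          · exact good_left ψ KM KN hxs he hx hy ht i1 j1 hi1 hud hvd hup huD hvp hvD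
          · have hj1 : 1 ≤ j1 := by omega
            exact good_right ψ KM KN hys he hx hy ht i1 j1 hj1 hud hvd hup huD hvp hvD

end Good

end Groth.Agent.Lib.Helper6.SegK
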