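import Mathlib
import Groth.Prelude.Def_GrLC
import Groth.Prelude.Def_GrSeg
import Groth.Agent.Lib.Helper6.SegK.SKk

set_option autoImplicit false
set_option linter.unusedSectionVars false
set_option linter.unusedVariables false
set_option linter.unusedSimpArgs false
set_option linter.style.haveILetI false
set_option maxHeartbeats 400000

/-!
# The total complex on the Segre product computes its local cohomology (helper6)
-/

universe u

namespace Groth.Agent.Lib.Helper6.SegK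

open scoped TensorProduct
open CategoryTheory DirectSum Groth.Agent.Helper9.GrLCLib Groth.Agent.Helper9.GrLCLib.Trans
open Groth.Agent.Helper8.LC Groth.Agent.Lib.Helper6.CMReg

section TP

variable {k : Type u} [Field k] {R : Type u} [CommRing R] [Algebra k R] [IsNoetherianRing R]
  {𝒜 : ℤ → Submodule k R} [GradedAlgebra 𝒜] {X : GrLC.GMod.{u} (toAG 𝒜)} {xs : List R}
  (K : CPack X xs)

attribute [local instance] kMod

lemma CPack.bc_range_tp (i : ℕ)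
    (hh : (LinearMap.range (K.isRG_tp i).toLin).IsHomogeneous K.T.gr) :
    BC (subGMod K.T (LinearMap.range (K.isRG_tp i).toLin) hh) := by
  cases i with
  | zero =>
    apply BC.of_subsingleton
    constructor
    intro a b
    apply subMap_injective K.T _ hh
    have h2 : ∀ v : K.T.carrier, v ∈ LinearMap.range (K.isRG_tp 0).toLin → v = 0 := by
      rintro v ⟨w, rfl⟩
      show K.tdgs.p 0 w = 0
      rw [K.tp_zero]
      rfl
    rw [h2 _ (subMap_mem K.T _ hh a), h2 _ (subMap_mem K.T _ hh b)]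
  | succ i =>
    have hP : LinearMap.range (K.p (i + 1)) = LinearMap.range (K.isRG_tp (i + 1)).toLin := by
      ext v
      constructor
      · rintro ⟨w, rfl⟩
        refine ⟨w, ?_⟩
        show K.tdgs.p (i + 1) w = K.p (i + 1) w
        rw [K.tp_succ]
        rfl
      · rintro ⟨w, rfl⟩
        refine ⟨w, ?_⟩
        show K.p (i + 1) w = K.tdgs.p (i + 1) w
        rw [K.tp_succ]
        rfl
    exact bc_subGMod_congr K.T hP _ hh (K.triv (i + 1) (by omega))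

end TP

section SegCo

open Groth.Agent.Helper9.SegreLib

variable {k : Type u} [Field k] {R S T : Type u} [CommRing R] [CommRing S] [CommRing T]
  [Algebra k R] [Algebra k S] [Algebra k T] [IsNoetherianRing R] [IsNoetherianRing S]
  [IsNoetherianRing T]
  {𝒜 : ℤ → Submodule k R} {ℬ : ℤ → Submodule k S} {𝒯 : ℤ → Submodule k T}
  [GradedAlgebra 𝒜] [GradedAlgebra ℬ] [GradedAlgebra 𝒯]
  (ψ : T →ₐ[k] R ⊗[k] S) (hT : GrSeg.IsSegreRing 𝒜 ℬ 𝒯 ψ)
  {XM : GrLC.GMod.{u} (toAG 𝒜)} {XN : GrLC.GMod.{u} (toAG ℬ)} {xs : List R} {ys : List S}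
  (KM : CPack XM xs) (KN : CPack XN ys)

attribute [local instance] kMod

/-- the differential of the total complex on the Segre product -/
noncomputable def DS :
    (SegM ψ hT KM.T KN.T).carrier →ₗ[T] (SegM ψ hT KM.T KN.T).carrier :=
  segLiftM ψ hT (Damb KM KN) (isAmb_Damb KM KN)

/-- the projections onto the terms of the total complex on the Segre product -/
noncomputable def QS (n : ℕ) :
    (SegM ψ hT KM.T KN.T).carrier →ₗ[T] (SegM ψ hT KM.T KN.T).carrier :=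
  segLiftM ψ hT (Qamb KM KN n) (isAmb_Qamb KM KN n)

/-- the terms of the total complex on the Segre product -/
noncomputable def CS (n : ℕ) : Submodule T (SegM ψ hT KM.T KN.T).carrier :=
  LinearMap.range (QS ψ hT KM KN n)

lemma valM_DS (w : (SegM ψ hT KM.T KN.T).carrier) :
    valM ψ hT (DS ψ hT KM KN w) = Damb KM KN (valM ψ hT w) := rfl

lemma valM_QS (n : ℕ) (w : (SegM ψ hT KM.T KN.T).carrier) :
    valM ψ hT (QS ψ hT KM KN n w) = Qamb KM KN n (valM ψ hT w) := rfl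

lemma DS_gr : GrLC.IsGrHom (SegM ψ hT KM.T KN.T).gr (SegM ψ hT KM.T KN.T).gr (DS ψ hT KM KN) :=
  isGrHom_segLiftM ψ hT _ _

lemma DS_DS (w : (SegM ψ hT KM.T KN.T).carrier) : DS ψ hT KM KN (DS ψ hT KM KN w) = 0 := by
  apply valM_injective ψ hT
  rw [valM_DS, valM_DS, valM_zero]
  exact end_mul_eq_zero (Damb_Damb KM KN) _

lemma CS_hom (j : ℕ) : (CS ψ hT KM KN j).IsHomogeneous (SegM ψ hT KM.T KN.T).gr :=
  range_isHomogeneous _ _ (isGrHom_segLiftM ψ hT _ _)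

lemma DS_CS (j : ℕ) (z : (SegM ψ hT KM.T KN.T).carrier) (hz : z ∈ CS ψ hT KM KN j) :
    DS ψ hT KM KN z ∈ CS ψ hT KM KN (j + 1) := by
  obtain ⟨w, rfl⟩ := hz
  cases j with
  | zero =>
    refine ⟨segLiftM ψ hT (Aamb KM KN) (isAmb_Aamb KM KN) w, ?_⟩
    apply valM_injective ψ hT
    show Qamb KM KN 1 (Aamb KM KN (valM ψ hT w)) = Damb KM KN (Qamb KM KN 0 (valM ψ hT w))
    exact (end_mul_comm (Damb_Qamb_zero KM KN) (valM ψ hT w)).symm
  | succ n =>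
    refine ⟨segLiftM ψ hT (KW.Dw KM.tdgs KN.tdgs) (isAmb_Dw KM KN) w, ?_⟩
    apply valM_injective ψ hT
    show Qamb KM KN (n + 2) (KW.Dw KM.tdgs KN.tdgs (valM ψ hT w)) =
      Damb KM KN (Qamb KM KN (n + 1) (valM ψ hT w))
    exact (end_mul_comm (Damb_Qamb_succ KM KN n) (valM ψ hT w)).symm

lemma segφ_inj : Function.Injective
    (segLiftM ψ hT (ambMap KM.φ KN.φ) (isAmb_ambMap KM.φ KN.φ KM.φ_gr KN.φ_gr)) := by
  intro w w' h
  apply valM_injective ψ hT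
  have h1 := congrArg (valM ψ hT) h
  rw [valM_segLiftM, valM_segLiftM] at h1
  have hinj : Function.Injective (ambMap KM.φ KN.φ : Amb XM XN →ₗ[k] Amb KM.T KN.T) :=
    TensorProduct.map_injective_of_flat_flat _ _ KM.φ_inj KN.φ_inj
  exact hinj h1

lemma segφ_range :
    LinearMap.range (segLiftM ψ hT (ambMap KM.φ KN.φ) (isAmb_ambMap KM.φ KN.φ KM.φ_gr KN.φ_gr)) =
      CS ψ hT KM KN 0 := by
  have h1 : (tm (KM.pk 0) (KN.pk 0) : Amb KM.T KN.T →ₗ[k] Amb KM.T KN.T) ∘ₗ ambMap KM.φ KN.φ =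
      ambMap KM.φ KN.φ := by
    apply TensorProduct.ext'
    intro x y
    show KM.p 0 (KM.φ x) ⊗ₜ[k] KN.p 0 (KN.φ y) = KM.φ x ⊗ₜ[k] KN.φ y
    rw [KM.p0_φ, KN.p0_φ]
  have h2 : ambMap KM.φ KN.φ ∘ₗ ambMap KM.ret KN.ret =
      (tm (KM.pk 0) (KN.pk 0) : Amb KM.T KN.T →ₗ[k] Amb KM.T KN.T) := by
    apply TensorProduct.ext'
    intro x y
    show KM.φ (KM.ret x) ⊗ₜ[k] KN.φ (KN.ret y) = KM.p 0 x ⊗ₜ[k] KN.p 0 y
    rw [KM.φ_ret, KN.φ_ret]
  apply le_antisymm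
  · rintro _ ⟨w, rfl⟩
    refine ⟨segLiftM ψ hT (ambMap KM.φ KN.φ) (isAmb_ambMap KM.φ KN.φ KM.φ_gr KN.φ_gr) w, ?_⟩
    apply valM_injective ψ hT
    exact LinearMap.congr_fun h1 (valM ψ hT w)
  · rintro _ ⟨w, rfl⟩
    refine ⟨segLiftM ψ hT (ambMap KM.ret KN.ret) (isAmb_ambMap _ _ KM.ret_gr KN.ret_gr) w, ?_⟩
    apply valM_injective ψ hT
    exact LinearMap.congr_fun h2 (valM ψ hT w)

/-- the terms of positive degree of the total complex have no local cohomology -/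
theorem bc_CS (j : ℕ) (hj : 1 ≤ j)
    (hh : (CS ψ hT KM KN j).IsHomogeneous (SegM ψ hT KM.T KN.T).gr) :
    BC (subGMod (SegM ψ hT KM.T KN.T) (CS ψ hT KM KN j) hh) := by
  obtain ⟨n, rfl⟩ : ∃ n, j = n + 1 := ⟨j - 1, by omega⟩
  classical
  let F : ℕ × ℕ → Module.End k (Amb KM.T KN.T) := fun x => tm (KM.tdgs.p x.1) (KN.tdgs.p x.2)
  have hFa : ∀ x, IsAmb (F x) := fun x => isAmb_tm (KM.isRG_tp x.1) (KN.isRG_tp x.2)
  have e1 : QS ψ hT KM KN (n + 1) =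
      ∑ x ∈ Finset.HasAntidiagonal.antidiagonal (n + 2), segLiftM ψ hT (F x) (hFa x) :=
    segLiftM_sum ψ hT (Finset.HasAntidiagonal.antidiagonal (n + 2)) F hFa
      (isAmb_Qamb KM KN (n + 1))
  have hF : ∀ x ∈ Finset.HasAntidiagonal.antidiagonal (n + 2),
      ∀ y ∈ Finset.HasAntidiagonal.antidiagonal (n + 2), ∀ w,
      segLiftM ψ hT (F x) (hFa x) (segLiftM ψ hT (F y) (hFa y) w) =
        if x = y then segLiftM ψ hT (F y) (hFa y) w else 0 := by
    intro x _ y _ w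
    by_cases hxy : x = y
    · subst hxy
      rw [if_pos rfl]
      apply valM_injective ψ hT
      show tm (KM.tdgs.p x.1) (KN.tdgs.p x.2)
        (tm (KM.tdgs.p x.1) (KN.tdgs.p x.2) (valM ψ hT w)) =
          tm (KM.tdgs.p x.1) (KN.tdgs.p x.2) (valM ψ hT w)
      rw [tm_apply, KM.tdgs.p_idem, KN.tdgs.p_idem]
    · rw [if_neg hxy]
      apply valM_injective ψ hT
      show tm (KM.tdgs.p x.1) (KN.tdgs.p x.2)
        (tm (KM.tdgs.p y.1) (KN.tdgs.p y.2) (valM ψ hT w)) = 0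
      rw [tm_apply]
      by_cases h1 : x.1 = y.1
      · have h2 : x.2 ≠ y.2 := fun h2 => hxy (Prod.ext h1 h2)
        rw [KN.tdgs.p_ne h2, tm_zero_right, LinearMap.zero_apply]
      · rw [KM.tdgs.p_ne h1, tm_zero_left, LinearMap.zero_apply]
  have key := bc_range_sum (SegM ψ hT KM.T KN.T) (Finset.HasAntidiagonal.antidiagonal (n + 2))
    (fun x => segLiftM ψ hT (F x) (hFa x))
    (fun x _ => isGrHom_segLiftM ψ hT _ _) hF
    (fun x _ hh' => bc_range_segLift_tm ψ hT (KM.tdgs.p x.1) (KN.tdgs.p x.2) (KM.isRG_tp x.1)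
      (KN.isRG_tp x.2) (KM.tdgs.p_idem x.1) (KN.tdgs.p_idem x.2)
      (range_isHomogeneous _ _ (KM.isRG_tp x.1).toLin_gr)
      (range_isHomogeneous _ _ (KN.isRG_tp x.2).toLin_gr)
      (KM.bc_range_tp x.1 _) (KN.bc_range_tp x.2 _) hh')
  have hh2 : (LinearMap.range (∑ x ∈ Finset.HasAntidiagonal.antidiagonal (n + 2),
      segLiftM ψ hT (F x) (hFa x))).IsHomogeneous (SegM ψ hT KM.T KN.T).gr := by
    rw [← e1]
    exact hh
  exact bc_subGMod_congr (SegM ψ hT KM.T KN.T) (by rw [← e1]; rfl) hh2 hh (key hh2)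

lemma segLiftM_Qprev_mem (j : ℕ) (w : (SegM ψ hT KM.T KN.T).carrier) :
    segLiftM ψ hT (Qprev KM KN j) (isAmb_Qprev KM KN j) w ∈ prevC (CS ψ hT KM KN) j := by
  cases j with
  | zero =>
    show _ ∈ (⊥ : Submodule T (SegM ψ hT KM.T KN.T).carrier)
    rw [Submodule.mem_bot]
    apply valM_injective ψ hT
    rfl
  | succ j => exact ⟨w, rfl⟩

variable (hxs : ∀ e : ℤ, 0 < e → ∀ x ∈ toAG 𝒜 e, x ∈ Ideal.span {y | y ∈ xs})
  (hys : ∀ e : ℤ, 0 < e → ∀ y ∈ toAG ℬ e, y ∈ Ideal.span {y' | y' ∈ ys})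

include hxs hys in
/-- homogeneous cocycles of the total complex are torsion modulo coboundaries -/
theorem seg_tors_hom {t : T} {e : ℤ} (he : 0 < e) {x : R} (hx : x ∈ 𝒜 e) {y : S} (hy : y ∈ ℬ e)
    (ht : ψ t = x ⊗ₜ[k] y) (j : ℕ) (d : ℤ) (z : (SegM ψ hT KM.T KN.T).carrier)
    (hzd : z ∈ (SegM ψ hT KM.T KN.T).gr d) (hzC : z ∈ CS ψ hT KM KN j)
    (hzD : DS ψ hT KM KN z = 0) :
    ∃ N : ℕ, t ^ N • z ∈ (prevC (CS ψ hT KM KN) j).map (DS ψ hT KM KN) := by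
  have had : valM ψ hT z ∈ piece KM.T KN.T d := hzd
  have haQ : valM ψ hT z ∈ LinearMap.range (Qamb KM KN j) := by
    obtain ⟨w, rfl⟩ := hzC
    exact ⟨valM ψ hT w, rfl⟩
  have haD : Damb KM KN (valM ψ hT z) = 0 := by
    have h := congrArg (valM ψ hT) hzD
    rw [valM_DS, valM_zero] at h
    exact h
  obtain ⟨w', N, w0, hw0, hQw0, hDw0⟩ :=
    amb_tors ψ hT KM KN hxs hys he hx hy ht j d _ had haQ haD
  refine ⟨N, ?_⟩
  have hpw : PiK KM.T KN.T d w' ∈ segSub KM.T KN.T :=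
    piece_le_segSub _ _ _ (PiK_mem_piece _ _ d w')
  let zb : (SegM ψ hT KM.T KN.T).carrier :=
    DS ψ hT KM KN (segLiftM ψ hT (Qprev KM KN j) (isAmb_Qprev KM KN j) (mkM ψ hT _ hpw))
  have hzb : zb ∈ (prevC (CS ψ hT KM KN) j).map (DS ψ hT KM KN) :=
    ⟨_, segLiftM_Qprev_mem ψ hT KM KN j _, rfl⟩
  have h0 : t ^ N • (z - zb) = DS ψ hT KM KN
      (segLiftM ψ hT (Qprev KM KN j) (isAmb_Qprev KM KN j) (mkM ψ hT w0 hw0)) := by
    apply valM_injective ψ hT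
    rw [valM_smul, valM_sub]
    show GrSeg.act k R S KM.T.carrier KN.T.carrier (ψ (t ^ N))
      (valM ψ hT z - Damb KM KN (Qprev KM KN j (PiK KM.T KN.T d w'))) =
        Damb KM KN (Qprev KM KN j w0)
    rw [hQw0, hDw0]
  have h1 : t ^ N • z = t ^ N • (z - zb) + t ^ N • zb := by rw [← smul_add, sub_add_cancel]
  rw [h1, h0]
  exact Submodule.add_mem _ ⟨_, segLiftM_Qprev_mem ψ hT KM KN j _, rfl⟩
    (Submodule.smul_mem _ _ hzb)

include hT in
/-- the irrelevant ideal of the Segre product is generated by preimages of pure tensors -/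
theorem irrelevant_le_span : Ideal.span (⋃ n ∈ Set.Ioi (0 : ℤ), (𝒯 n : Set T)) ≤
    Ideal.span {t : T | ∃ e : ℤ, 0 < e ∧ ∃ x ∈ 𝒜 e, ∃ y ∈ ℬ e, ψ t = x ⊗ₜ[k] y} := by
  rw [Ideal.span_le]
  intro t ht
  simp only [Set.mem_iUnion, Set.mem_Ioi] at ht
  obtain ⟨n, hn, htn⟩ := ht
  have h1 : ψ t ∈ GrSeg.segrePiece k 𝒜 ℬ n := map_mem_segrePiece hT htn
  have key : ∀ z ∈ GrSeg.segrePiece k 𝒜 ℬ n, ∃ t' ∈ Ideal.span
      {t : T | ∃ e : ℤ, 0 < e ∧ ∃ x ∈ 𝒜 e, ∃ y ∈ ℬ e, ψ t = x ⊗ₜ[k] y}, ψ t' = z := by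
    intro z hz
    unfold GrSeg.segrePiece at hz
    induction hz using Submodule.span_induction with
    | mem z hz =>
      obtain ⟨a, ha, b, hb, rfl⟩ := hz
      obtain ⟨t', ht', hψ⟩ := exists_ring_of_tmul hT ha hb
      exact ⟨t', Ideal.subset_span ⟨n, hn, a, ha, b, hb, hψ⟩, hψ⟩
    | zero => exact ⟨0, Submodule.zero_mem _, map_zero _⟩
    | add z z' _ _ h h' =>
      obtain ⟨t1, ht1, h1⟩ := h
      obtain ⟨t2, ht2, h2⟩ := h'
      exact ⟨t1 + t2, Submodule.add_mem _ ht1 ht2, by rw [map_add, h1, h2]⟩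
    | smul c z _ h =>
      obtain ⟨t1, ht1, h1⟩ := h
      exact ⟨c • t1, by rw [Algebra.smul_def]; exact Ideal.mul_mem_left _ _ ht1,
        by rw [map_smul, h1]⟩
  obtain ⟨t', ht', hψ⟩ := key _ h1
  rw [← hT.1 hψ]
  exact ht'

/-- **the total complex of the truncated Čech complexes computes the local cohomology of the Segre
product** -/
noncomputable def segCoPack (a : HomogeneousIdeal (toAG 𝒯))
    (haG : a.toIdeal ≤
      Ideal.span {t : T | ∃ e : ℤ, 0 < e ∧ ∃ x ∈ 𝒜 e, ∃ y ∈ ℬ e, ψ t = x ⊗ₜ[k] y})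
    (hpos : ∀ e : ℤ, 0 < e → ∀ t ∈ toAG 𝒯 e, t ∈ a.toIdeal) :
    CoPack a (SegM ψ hT XM XN) where
  T := SegM ψ hT KM.T KN.T
  D := DS ψ hT KM KN
  D_gr := DS_gr ψ hT KM KN
  D_D := DS_DS ψ hT KM KN
  C := CS ψ hT KM KN
  C_hom := CS_hom ψ hT KM KN
  D_C := DS_CS ψ hT KM KN
  φ := segLiftM ψ hT (ambMap KM.φ KN.φ) (isAmb_ambMap KM.φ KN.φ KM.φ_gr KN.φ_gr)
  φ_gr := isGrHom_segLiftM ψ hT _ _
  φ_inj := segφ_inj ψ hT KM KN
  φ_range := segφ_range ψ hT KM KN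
  van := fun j hj q g => (bc_CS ψ hT KM KN j hj _).van a hpos q g
  tors := by
    intro j z hz hD
    refine exists_pow_smul_mem_of_generators _ z a.toIdeal _ haG ?_
    rintro t ⟨e, he, x, hx, y, hy, ht⟩
    refine exists_pow_smul_mem_of_homogeneous (SegM ψ hT KM.T KN.T)
      (CS ψ hT KM KN j ⊓ LinearMap.ker (DS ψ hT KM KN)) _
      (inf_isHomogeneous _ (CS_hom ψ hT KM KN j) (ker_isHomogeneous _ _ (DS_gr ψ hT KM KN))) t ?_ z
      ⟨hz, LinearMap.mem_ker.mpr hD⟩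
    intro d z' hzd hzZ
    exact seg_tors_hom ψ hT KM KN hxs hys he hx hy ht j d z' hzd hzZ.1
      (LinearMap.mem_ker.mp hzZ.2)

end SegCo

end Groth.Agent.Lib.Helper6.SegK
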