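import Mathlib
import Groth.Prelude.Def_GrLC
import Groth.Prelude.Def_GrSeg
import Groth.Agent.Lib.Helper6.SegK.SKl

set_option autoImplicit false
set_option linter.unusedSectionVars false
set_option linter.unusedVariables false
set_option linter.unusedSimpArgs false
set_option linter.style.haveILetI false
set_option maxHeartbeats 400000

/-!
# Dimensions of pieces of graded subquotients over the degree zero subring and over the field
(helper6)
-/

universe u

namespace Groth.Agent.Lib.Helper6.SegK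

open scoped TensorProduct
open CategoryTheory DirectSum Groth.Agent.Helper9.GrLCLib Groth.Agent.Helper9.GrLCLib.Trans
open Groth.Agent.Helper8.LC Groth.Agent.Lib.Helper6.CMReg

section Semi

/-- a semilinear additive injection identifies the ranks of a submodule and its image -/
lemma rank_eq_of_semilinear {K L : Type*} [Ring K] [Ring L] (i : K → L)
    (hi : Function.Bijective i) {W W' : Type u} [AddCommGroup W] [Module K W] [AddCommGroup W']
    [Module L W'] (P : Submodule K W) (P' : Submodule L W') (Φ : W →+ W')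
    (hinj : Function.Injective Φ) (hsemi : ∀ (c : K) x, Φ (c • x) = i c • Φ x)
    (himg : ∀ y, y ∈ P' ↔ ∃ x ∈ P, Φ x = y) : Module.rank K P = Module.rank L P' := by
  let f : P →+ P' :=
    { toFun := fun x => ⟨Φ x.1, (himg _).mpr ⟨x.1, x.2, rfl⟩⟩
      map_zero' := Subtype.ext (map_zero Φ)
      map_add' := fun x y => Subtype.ext (map_add Φ x.1 y.1) }
  have hf : Function.Bijective f := by
    constructor
    · intro x y hxy
      apply Subtype.ext
      apply hinj
      exact congrArg Subtype.val hxy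
    · rintro ⟨y, hy⟩
      obtain ⟨x, hx, rfl⟩ := (himg y).mp hy
      exact ⟨⟨x, hx⟩, rfl⟩
  let e : P ≃+ P' := AddEquiv.ofBijective f hf
  exact rank_eq_of_equiv_equiv i e hi (fun c x => Subtype.ext (hsemi c x.1))

/-- finiteness passes along an equality of ranks to a vector space -/
lemma finite_of_rank_eq {K L : Type*} [Field K] [CommRing L] [Nontrivial L] {A B : Type u}
    [AddCommGroup A] [Module K A] [AddCommGroup B] [Module L B] [Module.Finite L B]
    (h : Module.rank K A = Module.rank L B) : Module.Finite K A := by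
  rw [← Module.rank_lt_aleph0_iff, h]
  exact Module.rank_lt_aleph0 L B

lemma finrank_eq_of_rank_eq {K L : Type*} [Ring K] [Ring L] {A B : Type u}
    [AddCommGroup A] [Module K A] [AddCommGroup B] [Module L B]
    (h : Module.rank K A = Module.rank L B) : Module.finrank K A = Module.finrank L B := by
  unfold Module.finrank
  rw [h]

end Semi

section Deg0

variable {k : Type u} [Field k] {R : Type u} [CommRing R] [Algebra k R] [IsNoetherianRing R]
  {𝒜 : ℤ → Submodule k R} [GradedAlgebra 𝒜]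

attribute [local instance] kMod

/-- the map of the field onto the degree zero subring -/
def toDeg0 (c : k) : GrLC.deg0 (toAG 𝒜) := ⟨algebraMap k R c, algebraMap_mem_zero c⟩

lemma toDeg0_coe (c : k) : ((toDeg0 (𝒜 := 𝒜) c : GrLC.deg0 (toAG 𝒜)) : R) = algebraMap k R c := rfl

lemma toDeg0_bijective (h0 : ∀ r ∈ 𝒜 0, ∃ c : k, algebraMap k R c = r)
    (hinj : Function.Injective (algebraMap k R)) : Function.Bijective (toDeg0 (𝒜 := 𝒜)) := by
  constructor
  · intro c c' h
    apply hinj
    exact congrArg Subtype.val h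
  · rintro ⟨r, hr⟩
    obtain ⟨c, hc⟩ := h0 r hr
    exact ⟨c, Subtype.ext hc⟩

/-- a piece of a graded module, as a vector space -/
def grK (X : GrLC.GMod.{u} (toAG 𝒜)) (d : ℤ) : Submodule k X.carrier where
  carrier := (X.gr d : Set X.carrier)
  add_mem' := fun ha hb => add_mem ha hb
  zero_mem' := zero_mem _
  smul_mem' := fun c x hx => smul_mem_gr X c hx

lemma mem_grK (X : GrLC.GMod.{u} (toAG 𝒜)) (d : ℤ) (x : X.carrier) :
    x ∈ grK X d ↔ x ∈ X.gr d := Iff.rfl

lemma rank_grK (X : GrLC.GMod.{u} (toAG 𝒜)) (d : ℤ)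
    (h0 : ∀ r ∈ 𝒜 0, ∃ c : k, algebraMap k R c = r)
    (hinj : Function.Injective (algebraMap k R)) :
    Module.rank k ↥(grK X d) =
      Module.rank (GrLC.deg0 (toAG 𝒜)) ↥(GrLC.comp (toAG 𝒜) X.gr d) :=
  rank_eq_of_semilinear (toDeg0 (𝒜 := 𝒜)) (toDeg0_bijective h0 hinj) (grK X d)
    (GrLC.comp (toAG 𝒜) X.gr d) (AddMonoidHom.id X.carrier) Function.injective_id
    (fun c x => rfl) (fun y => ⟨fun hy => ⟨y, hy, rfl⟩, fun ⟨x, hx, hxy⟩ => hxy ▸ hx⟩)

/-- an element of a homogeneous submodule as an element of the bundled submodule -/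
def subMk (W : GrLC.GMod.{u} (toAG 𝒜)) (P : Submodule R W.carrier) (hP : P.IsHomogeneous W.gr)
    (z : W.carrier) (hz : z ∈ P) : (subGMod W P hP).carrier := (⟨z, hz⟩ : ↥P)

lemma subMap_subMk (W : GrLC.GMod.{u} (toAG 𝒜)) (P : Submodule R W.carrier)
    (hP : P.IsHomogeneous W.gr) (z : W.carrier) (hz : z ∈ P) :
    subMap W P hP (subMk W P hP z hz) = z := rfl

lemma subMk_subMap (W : GrLC.GMod.{u} (toAG 𝒜)) (P : Submodule R W.carrier)
    (hP : P.IsHomogeneous W.gr) (x : (subGMod W P hP).carrier) :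
    subMk W P hP (subMap W P hP x) (subMap_mem W P hP x) = x := rfl

/-- **the rank of a piece of a graded subquotient**, computed inside a vector space into which
the ambient graded module embeds semilinearly -/
theorem rank_sq_eq (W : GrLC.GMod.{u} (toAG 𝒜)) (Bs Zs : Submodule R W.carrier)
    (hB : Bs.IsHomogeneous W.gr) (hZ : Zs.IsHomogeneous W.gr) (g : ℤ)
    {A : Type u} [AddCommGroup A] [Module k A] (ι : W.carrier →+ A) (hι : Function.Injective ι)
    (hιs : ∀ (c : k) (z : W.carrier), ι (algebraMap k R c • z) = c • ι z)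
    (Z' B' : Submodule k A)
    (hZ' : ∀ a, a ∈ Z' ↔ ∃ z, z ∈ Zs ∧ z ∈ W.gr g ∧ ι z = a)
    (hB' : ∀ a, a ∈ B' ↔ ∃ z, z ∈ Bs ∧ z ∈ W.gr g ∧ ι z = a)
    (h0 : ∀ r ∈ 𝒜 0, ∃ c : k, algebraMap k R c = r)
    (hinj : Function.Injective (algebraMap k R)) :
    Module.rank k (↥Z' ⧸ B'.submoduleOf Z') =
      Module.rank (GrLC.deg0 (toAG 𝒜))
        ↥(GrLC.comp (toAG 𝒜) (sqGMod W Bs Zs hB hZ).gr g) := by
  classical
  have hpre : ∀ a : ↥Z', ∃ z : W.carrier, z ∈ Zs ∧ z ∈ W.gr g ∧ ι z = a.1 :=
    fun a => (hZ' a.1).mp a.2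
  choose pre hpreZ hpreg hpreι using hpre
  have pre_add : ∀ a b, pre (a + b) = pre a + pre b := by
    intro a b
    apply hι
    rw [map_add, hpreι, hpreι, hpreι]
    rfl
  have pre_smul : ∀ (c : k) a, pre (c • a) = algebraMap k R c • pre a := by
    intro c a
    apply hι
    rw [hιs, hpreι, hpreι]
    rfl
  have pre_eq : ∀ (a : ↥Z') (z : W.carrier), ι z = a.1 → pre a = z := by
    intro a z hz
    apply hι
    rw [hpreι, hz]
  let f : ↥Z' →ₗ[k] (sqGMod W Bs Zs hB hZ).carrier :=
    { toFun := fun a => sqMap W Bs Zs hB hZ (subMk W Zs hZ (pre a) (hpreZ a))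
      map_add' := by
        intro a b
        rw [← map_add]
        congr 1
        apply subMap_injective W Zs hZ
        rw [map_add, subMap_subMk, subMap_subMk, subMap_subMk]
        exact pre_add a b
      map_smul' := by
        intro c a
        rw [RingHom.id_apply, kMod_smul_def, ← map_smul]
        congr 1
        apply subMap_injective W Zs hZ
        rw [map_smul, subMap_subMk, subMap_subMk]
        exact pre_smul c a }
  have hf : ∀ a : ↥Z', f a = sqMap W Bs Zs hB hZ (subMk W Zs hZ (pre a) (hpreZ a)) :=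
    fun a => rfl
  have hker : ∀ a : ↥Z', f a = 0 ↔ a.1 ∈ B' := by
    intro a
    rw [hf, sqMap_eq_zero_iff, subMap_subMk, hB']
    constructor
    · intro h
      exact ⟨pre a, h, hpreg a, hpreι a⟩
    · rintro ⟨z, hz, _, hza⟩
      rw [pre_eq a z hza]
      exact hz
  have hle : B'.submoduleOf Z' ≤ LinearMap.ker f := by
    intro a ha
    rw [LinearMap.mem_ker, hker]
    exact ha
  let Φ : (↥Z' ⧸ B'.submoduleOf Z') →ₗ[k] (sqGMod W Bs Zs hB hZ).carrier :=
    Submodule.liftQ _ f hle
  have hΦ : ∀ a : ↥Z', Φ (Submodule.Quotient.mk a) = f a := fun a => rfl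
  have hΦinj : Function.Injective Φ := by
    rw [← LinearMap.ker_eq_bot]
    apply Submodule.ker_liftQ_eq_bot
    intro a ha
    rw [LinearMap.mem_ker, hker] at ha
    exact ha
  have himg : ∀ y : (sqGMod W Bs Zs hB hZ).carrier,
      y ∈ GrLC.comp (toAG 𝒜) (sqGMod W Bs Zs hB hZ).gr g ↔
        ∃ x ∈ (⊤ : Submodule k (↥Z' ⧸ B'.submoduleOf Z')), Φ.toAddMonoidHom x = y := by
    intro y
    constructor
    · intro hy
      obtain ⟨m, hm, hmy⟩ : ∃ m ∈ (subGMod W Zs hZ).gr g, sqMap W Bs Zs hB hZ m = y := hy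
      have hmZ : subMap W Zs hZ m ∈ Zs := subMap_mem W Zs hZ m
      have hmg : subMap W Zs hZ m ∈ W.gr g := (mem_subGMod_gr W Zs hZ g m).mp hm
      have ha : ι (subMap W Zs hZ m) ∈ Z' := (hZ' _).mpr ⟨_, hmZ, hmg, rfl⟩
      refine ⟨Submodule.Quotient.mk ⟨_, ha⟩, Submodule.mem_top, ?_⟩
      show Φ (Submodule.Quotient.mk ⟨_, ha⟩) = y
      rw [hΦ, hf, ← hmy]
      congr 1
      apply subMap_injective W Zs hZ
      rw [subMap_subMk]
      exact pre_eq ⟨_, ha⟩ _ rfl
    · rintro ⟨x, _, rfl⟩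
      obtain ⟨a, rfl⟩ := Submodule.Quotient.mk_surjective _ x
      show Φ (Submodule.Quotient.mk a) ∈ _
      rw [hΦ, hf]
      have hm : subMk W Zs hZ (pre a) (hpreZ a) ∈ (subGMod W Zs hZ).gr g := by
        apply (mem_subGMod_gr W Zs hZ g _).mpr
        rw [subMap_subMk]
        exact hpreg a
      exact isGrHom_sqMap W Bs Zs hB hZ g _ hm
  have h1 := rank_eq_of_semilinear (toDeg0 (𝒜 := 𝒜)) (toDeg0_bijective h0 hinj)
    (⊤ : Submodule k (↥Z' ⧸ B'.submoduleOf Z'))
    (GrLC.comp (toAG 𝒜) (sqGMod W Bs Zs hB hZ).gr g) Φ.toAddMonoidHom hΦinj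
    (fun c x => by
      show Φ (c • x) = _
      rw [map_smul, kMod_smul_def]
      rfl) himg
  rw [rank_top] at h1
  exact h1

end Deg0

end Groth.Agent.Lib.Helper6.SegK
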