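import Mathlib
import Groth.Prelude.Def_GrLC
import Groth.Prelude.Def_GrSeg
import Groth.Agent.Lib.Helper6.SegK.SKm

set_option autoImplicit false
set_option linter.unusedSectionVars false
set_option linter.unusedVariables false
set_option linter.unusedSimpArgs false
set_option linter.style.haveILetI false
set_option maxHeartbeats 400000

/-!
# The cohomology of the truncated Čech complex of a graded module in a fixed degree (helper6)
-/

universe u

namespace Groth.Agent.Lib.Helper6.SegK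

open scoped TensorProduct
open CategoryTheory DirectSum Groth.Agent.Helper9.GrLCLib Groth.Agent.Helper9.GrLCLib.Trans
open Groth.Agent.Helper8.LC Groth.Agent.Lib.Helper6.CMReg

section Single

variable {k : Type u} [Field k] {R : Type u} [CommRing R] [Algebra k R] [IsNoetherianRing R]
  {𝒜 : ℤ → Submodule k R} [GradedAlgebra 𝒜] {X : GrLC.GMod.{u} (toAG 𝒜)} {xs : List R}
  (K : CPack X xs)
  (a : HomogeneousIdeal (toAG 𝒜)) (ha : a.toIdeal ≤ Ideal.span {y | y ∈ xs})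
  (hpos : ∀ e : ℤ, 0 < e → ∀ x ∈ toAG 𝒜 e, x ∈ a.toIdeal)

attribute [local instance] kMod

instance nontrivial_deg0 [Nontrivial R] : Nontrivial (GrLC.deg0 (toAG 𝒜)) :=
  ⟨⟨0, 1, fun h => zero_ne_one (congrArg Subtype.val h)⟩⟩

include ha hpos in
/-- vanishing of `H^0` in degree `d`, in terms of the Čech complex -/
theorem CPack.H0_of_van (d : ℤ) (hv : Van a X 0 d) (u : K.T.carrier) (hu : u ∈ K.T.gr d)
    (hp : K.p 0 u = u) (hD : K.D u = 0) : u = 0 := by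
  obtain ⟨e⟩ := (K.toCoPack a ha hpos).piso_zero d
  have hu0 : u ∈ (K.toCoPack a ha hpos).Z 0 :=
    (show u ∈ K.C 0 ⊓ LinearMap.ker K.D from
      Submodule.mem_inf.mpr ⟨⟨u, hp⟩, LinearMap.mem_ker.mpr hD⟩)
  let x : ((K.toCoPack a ha hpos).Zm 0).carrier :=
    subMk K.T _ ((K.toCoPack a ha hpos).Z_hom 0) u hu0
  have hx : x ∈ ((K.toCoPack a ha hpos).Zm 0).gr d := by
    apply (mem_subGMod_gr K.T _ _ d _).mpr
    exact hu
  let y : ↥(GrLC.comp (toAG 𝒜) ((K.toCoPack a ha hpos).Zm 0).gr d) := ⟨x, hx⟩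
  have h1 : e.symm y = 0 := by
    apply Subtype.ext
    exact hv _ (e.symm y).2
  have h2 : y = 0 := by rw [← e.apply_symm_apply y, h1, map_zero]
  have h3 : x = 0 := congrArg Subtype.val h2
  have h4 := congrArg (subMap K.T _ ((K.toCoPack a ha hpos).Z_hom 0)) h3
  have h5 : subMap K.T _ ((K.toCoPack a ha hpos).Z_hom 0)
      (0 : ((K.toCoPack a ha hpos).Zm 0).carrier) = 0 := map_zero _
  exact h4.trans h5

include ha hpos in
/-- vanishing of `H^1` in degree `d`, in terms of the Čech complex -/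
theorem CPack.H1_of_van (d : ℤ) (hv : Van a X 1 d) (u : K.T.carrier) (hu : u ∈ K.T.gr d)
    (hp : K.p 1 u = u) (hD : K.D u = 0) :
    ∃ u0 : K.T.carrier, u0 ∈ K.T.gr d ∧ K.p 0 u0 = u0 ∧ K.D u0 = u := by
  obtain ⟨e⟩ := (K.toCoPack a ha hpos).piso_pos 1 le_rfl d
  have hu1 : u ∈ (K.toCoPack a ha hpos).Z 1 :=
    (show u ∈ K.C 1 ⊓ LinearMap.ker K.D from
      Submodule.mem_inf.mpr ⟨⟨u, hp⟩, LinearMap.mem_ker.mpr hD⟩)
  let x : ((K.toCoPack a ha hpos).Zm 1).carrier :=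
    subMk K.T _ ((K.toCoPack a ha hpos).Z_hom 1) u hu1
  have hx : x ∈ ((K.toCoPack a ha hpos).Zm 1).gr d := by
    apply (mem_subGMod_gr K.T _ _ d _).mpr
    exact hu
  let y : ↥(GrLC.comp (toAG 𝒜) ((K.toCoPack a ha hpos).Hm 1).gr d) :=
    ⟨sqMap K.T _ _ ((K.toCoPack a ha hpos).B_hom 1) ((K.toCoPack a ha hpos).Z_hom 1) x,
      isGrHom_sqMap K.T _ _ ((K.toCoPack a ha hpos).B_hom 1) ((K.toCoPack a ha hpos).Z_hom 1) d x hx⟩
  have h1 : e.symm y = 0 := by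
    apply Subtype.ext
    exact hv _ (e.symm y).2
  have h2 : y = 0 := by rw [← e.apply_symm_apply y, h1, map_zero]
  have h3 : sqMap K.T _ _ ((K.toCoPack a ha hpos).B_hom 1) ((K.toCoPack a ha hpos).Z_hom 1) x = 0 :=
    congrArg Subtype.val h2
  rw [sqMap_eq_zero_iff] at h3
  obtain ⟨w, hw, hwD⟩ := h3
  have hw2 : w ∈ LinearMap.range (K.p 0) := hw
  have hw' : K.p 0 w = w := K.p_of_mem hw2
  have hwD' : K.D w = u := hwD
  refine ⟨proj K.T.gr d w, proj_mem _ _ _, ?_, ?_⟩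
  · rw [← proj_map_of_isGrHom K.T.gr K.T.gr (K.p_gr 0) w, hw']
  · rw [← proj_map_of_isGrHom K.T.gr K.T.gr K.D_gr w, hwD', proj_of_mem_same K.T.gr hu]

lemma CPack.subsingleton_ddgs_Hq_zero (d : ℤ) : Subsingleton ((K.ddgs d).Hq 0) := by
  constructor
  intro x y
  obtain ⟨a', rfl⟩ := Submodule.Quotient.mk_surjective _ x
  obtain ⟨b', rfl⟩ := Submodule.Quotient.mk_surjective _ y
  have ha' : a' = 0 := Subtype.ext (K.ddgs_Z_zero a'.2)
  have hb' : b' = 0 := Subtype.ext (K.ddgs_Z_zero b'.2)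
  rw [ha', hb']

include ha hpos in
/-- the cohomology of the truncated Čech complex in degree `d` and cohomological degree at least two
is the local cohomology -/
theorem CPack.rank_ddgs_Hq (d : ℤ) (i : ℕ)
    (h0 : ∀ r ∈ 𝒜 0, ∃ c : k, algebraMap k R c = r)
    (hinj : Function.Injective (algebraMap k R)) :
    Module.rank k ((K.ddgs d).Hq (i + 2)) =
      Module.rank (GrLC.deg0 (toAG 𝒜)) (LCp a X (i + 2) d) := by
  obtain ⟨e⟩ := (K.toCoPack a ha hpos).piso_pos (i + 2) (by omega) d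
  rw [LinearEquiv.rank_eq e]
  have hZ : ∀ u : K.T.carrier, u ∈ (K.ddgs d).Z (i + 2) ↔
      u ∈ K.T.gr d ∧ K.p (i + 1 + 1) u = u ∧ K.D u = 0 := fun u => K.mem_ddgs_Z_succ (i := i + 1)
  refine rank_sq_eq K.T ((K.toCoPack a ha hpos).B (i + 2)) ((K.toCoPack a ha hpos).Z (i + 2))
    ((K.toCoPack a ha hpos).B_hom (i + 2)) ((K.toCoPack a ha hpos).Z_hom (i + 2)) d
    (AddMonoidHom.id K.T.carrier) Function.injective_id (fun c z => rfl)
    ((K.ddgs d).Z (i + 2)) ((K.ddgs d).B (i + 2)) ?_ ?_ h0 hinj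
  · intro u
    rw [hZ]
    constructor
    · rintro ⟨h1, h2, h3⟩
      exact ⟨u, (show u ∈ K.C (i + 2) ⊓ LinearMap.ker K.D from
        Submodule.mem_inf.mpr ⟨⟨u, h2⟩, LinearMap.mem_ker.mpr h3⟩), h1, rfl⟩
    · rintro ⟨z, hz, hzg, rfl⟩
      have hz' : z ∈ K.C (i + 2) ⊓ LinearMap.ker K.D := hz
      obtain ⟨hzC, hzD⟩ := Submodule.mem_inf.mp hz'
      exact ⟨hzg, K.p_of_mem hzC, LinearMap.mem_ker.mp hzD⟩
  · intro u
    constructor
    · rintro ⟨_, ⟨w, rfl⟩, rfl⟩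
      have hv1 : K.p (i + 1) (K.pk (i + 1) (πk K.T d w)) = K.pk (i + 1) (πk K.T d w) :=
        K.p_idem (i + 1) _
      have hvd : K.pk (i + 1) (πk K.T d w) ∈ K.T.gr d := K.p_gr (i + 1) d _ (πk_mem K.T d w)
      have e1 : (K.ddgs d).D ((K.ddgs d).pm (i + 2) w) = K.D (K.pk (i + 1) (πk K.T d w)) := by
        show K.tdgs.D (πk K.T d (K.tdgs.p (i + 1) (πk K.T d w))) = _
        rw [K.tp_succ, πk_pk_πk K (i + 1) d w]
        exact K.tD_of_pk_succ hv1
      exact ⟨K.D (K.pk (i + 1) (πk K.T d w)), ⟨_, ⟨_, rfl⟩, rfl⟩, K.D_gr d _ hvd, e1.symm⟩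
    · rintro ⟨z, ⟨w, hw, rfl⟩, hzg, rfl⟩
      have hw2 : w ∈ LinearMap.range (K.p (i + 1)) := hw
      have hw' : K.p (i + 1) w = w := K.p_of_mem hw2
      have hzg' : K.D w ∈ K.T.gr d := hzg
      have e2 : K.D (proj K.T.gr d w) = K.D w := by
        rw [← proj_map_of_isGrHom K.T.gr K.T.gr K.D_gr w d, proj_of_mem_same K.T.gr hzg']
      have e3 : K.pk (i + 1) (πk K.T d w) = πk K.T d w := by
        show K.p (i + 1) (proj K.T.gr d w) = proj K.T.gr d w
        rw [← proj_map_of_isGrHom K.T.gr K.T.gr (K.p_gr (i + 1)) w d, hw']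
      have hv1 : K.p (i + 1) (K.pk (i + 1) (πk K.T d w)) = K.pk (i + 1) (πk K.T d w) :=
        K.p_idem (i + 1) _
      refine ⟨_, ⟨w, rfl⟩, ?_⟩
      show K.tdgs.D (πk K.T d (K.tdgs.p (i + 1) (πk K.T d w))) = K.D w
      rw [K.tp_succ, πk_pk_πk K (i + 1) d w, K.tD_of_pk_succ hv1, e3]
      exact e2

/-- the cohomology of the truncated Čech complex in degree `d` and cohomological degree one, when
`H^0` and `H^1` vanish in degree `d` -/
theorem CPack.rank_ddgs_Hq_one (d : ℤ)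
    (H0 : ∀ u : K.T.carrier, u ∈ K.T.gr d → K.p 0 u = u → K.D u = 0 → u = 0)
    (H1 : ∀ u : K.T.carrier, u ∈ K.T.gr d → K.p 1 u = u → K.D u = 0 →
      ∃ u0 : K.T.carrier, u0 ∈ K.T.gr d ∧ K.p 0 u0 = u0 ∧ K.D u0 = u) :
    Module.rank k ((K.ddgs d).Hq 1) = Module.rank k ↥(grK X d) := by
  have hmem : ∀ x : ↥(grK X d), K.D (K.φ x.1) ∈ (K.ddgs d).Z 1 := by
    intro x
    apply (K.mem_ddgs_Z_succ (i := 0)).mpr
    refine ⟨K.D_gr d _ (K.φ_gr d _ x.2), ?_, K.D_D _⟩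
    rw [← K.D_p 0, K.p0_φ]
  let Ψ : ↥(grK X d) →ₗ[k] (K.ddgs d).Hq 1 :=
    { toFun := fun x => Submodule.Quotient.mk ⟨K.D (K.φ x.1), hmem x⟩
      map_add' := by
        intro x y
        rw [← Submodule.Quotient.mk_add]
        congr 1
        apply Subtype.ext
        show K.D (K.φ (x.1 + y.1)) = K.D (K.φ x.1) + K.D (K.φ y.1)
        rw [map_add, map_add]
      map_smul' := by
        intro c x
        rw [RingHom.id_apply, ← Submodule.Quotient.mk_smul]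
        congr 1
        apply Subtype.ext
        show K.D (K.φ (c • x.1)) = c • K.D (K.φ x.1)
        rw [kMod_smul_def, map_smul, map_smul]
        rfl }
  have hΨ : ∀ x : ↥(grK X d), Ψ x = Submodule.Quotient.mk ⟨K.D (K.φ x.1), hmem x⟩ := fun x => rfl
  have hB1 : ∀ u : K.T.carrier, u ∈ (K.ddgs d).B 1 → u = 0 := by
    rintro _ ⟨_, ⟨w, rfl⟩, rfl⟩
    show (K.ddgs d).D ((K.ddgs d).p 0 w) = 0
    rw [K.ddgs_p_zero, LinearMap.zero_apply, map_zero]
  have hinj : Function.Injective Ψ := by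
    rw [← LinearMap.ker_eq_bot, LinearMap.ker_eq_bot']
    intro x hx
    rw [hΨ] at hx
    have h1 : (⟨K.D (K.φ x.1), hmem x⟩ : ↥((K.ddgs d).Z 1)) ∈
        ((K.ddgs d).B 1).submoduleOf ((K.ddgs d).Z 1) := (Submodule.Quotient.mk_eq_zero _).mp hx
    have h2 : K.D (K.φ x.1) = 0 := hB1 _ h1
    have h3 : K.φ x.1 = 0 := H0 _ (K.φ_gr d _ x.2) (K.p0_φ _) h2
    apply Subtype.ext
    exact K.φ_inj (h3.trans (map_zero K.φ).symm)
  have hsurj : Function.Surjective Ψ := by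
    intro y
    obtain ⟨⟨u, hu⟩, rfl⟩ := Submodule.Quotient.mk_surjective _ y
    obtain ⟨hud, hup, huD⟩ := (K.mem_ddgs_Z_succ (i := 0)).mp hu
    obtain ⟨u0, hu0d, hu0p, hu0D⟩ := H1 u hud hup huD
    refine ⟨⟨K.ret u0, K.ret_gr d u0 hu0d⟩, ?_⟩
    rw [hΨ]
    congr 1
    apply Subtype.ext
    show K.D (K.φ (K.ret u0)) = u
    rw [K.φ_ret, hu0p, hu0D]
  exact (LinearEquiv.ofBijective Ψ ⟨hinj, hsurj⟩).rank_eq.symm

end Single

end Groth.Agent.Lib.Helper6.SegK
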