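import Mathlib
import Groth.Prelude.Def_GrLC
import Groth.Prelude.Def_GrSeg
import Groth.Agent.Lib.Helper6.SegK.SKn

set_option autoImplicit false
set_option linter.unusedSectionVars false
set_option linter.unusedVariables false
set_option linter.unusedSimpArgs false
set_option linter.style.haveILetI false
set_option maxHeartbeats 400000

/-!
# The Künneth formula for the local cohomology of a Segre product, degree by degree (helper6)
-/

universe u

namespace Groth.Agent.Lib.Helper6.SegK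

open scoped TensorProduct
open CategoryTheory DirectSum Groth.Agent.Helper9.GrLCLib Groth.Agent.Helper9.GrLCLib.Trans
open Groth.Agent.Helper8.LC Groth.Agent.Lib.Helper6.CMReg

section Arith

lemma kunneth_arith (m n : ℕ) (aM bN : ℕ → ℕ) (ha0 : aM 0 = 0) (ha1 : aM 1 = 0)
    (hb0 : bN 0 = 0) (hb1 : bN 1 = 0) (q' : ℕ) :
    ∑ x ∈ Finset.HasAntidiagonal.antidiagonal (q' + 3),
      (if x.1 = 0 then 0 else if x.1 = 1 then m else aM x.1) *
        (if x.2 = 0 then 0 else if x.2 = 1 then n else bN x.2) =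
      m * bN (q' + 2) + aM (q' + 2) * n +
        ∑ i ∈ Finset.range (q' + 2 + 2), aM i * bN (q' + 2 + 1 - i) := by
  rw [Finset.Nat.sum_antidiagonal_eq_sum_range_succ
    (fun i j => (if i = 0 then 0 else if i = 1 then m else aM i) *
      (if j = 0 then 0 else if j = 1 then n else bN j))]
  have hterm : ∀ k ∈ Finset.range (q' + 3).succ,
      (if k = 0 then 0 else if k = 1 then m else aM k) *
        (if q' + 3 - k = 0 then 0 else if q' + 3 - k = 1 then n else bN (q' + 3 - k)) =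
      aM k * bN (q' + 3 - k) + (if k = q' + 2 then aM (q' + 2) * n else 0) +
        (if k = 1 then m * bN (q' + 2) else 0) := by
    intro k hk
    rw [Finset.mem_range] at hk
    by_cases h0 : k = 0
    · rw [if_pos h0, zero_mul, h0, ha0, zero_mul, if_neg (by omega), if_neg (by omega)]
      simp
    · by_cases h1 : k = 1
      · have e1 : q' + 3 - k = q' + 2 := by omega
        rw [if_neg h0, if_pos h1, e1, if_neg (by omega), if_neg (by omega), h1, ha1, zero_mul,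
          if_neg (by omega), if_pos rfl]
        ring
      · by_cases h2 : k = q' + 2
        · have e1 : q' + 3 - k = 1 := by omega
          rw [if_neg h0, if_neg h1, e1, if_neg (by omega), if_pos rfl, hb1, mul_zero, if_pos h2,
            if_neg h1, h2]
          ring
        · by_cases h3 : k = q' + 3
          · have e1 : q' + 3 - k = 0 := by omega
            rw [e1, if_pos rfl, mul_zero, hb0, mul_zero, if_neg h2, if_neg h1]
            simp
          · rw [if_neg h0, if_neg h1, if_neg (by omega), if_neg (by omega), if_neg h2, if_neg h1,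
              add_zero, add_zero]
  rw [Finset.sum_congr rfl hterm, Finset.sum_add_distrib, Finset.sum_add_distrib,
    Finset.sum_ite_eq' (Finset.range (q' + 3).succ) (q' + 2), Finset.sum_ite_eq'
      (Finset.range (q' + 3).succ) 1, if_pos (Finset.mem_range.mpr (by omega)),
    if_pos (Finset.mem_range.mpr (by omega))]
  have e2 : ∑ i ∈ Finset.range (q' + 2 + 2), aM i * bN (q' + 2 + 1 - i) =
      ∑ k ∈ Finset.range (q' + 3).succ, aM k * bN (q' + 3 - k) := rfl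
  rw [e2]
  ring

end Arith

section Gens

variable {R : Type u} [CommRing R] [IsNoetherianRing R] {𝒜 : ℤ → AddSubgroup R} [GradedRing 𝒜]

/-- the irrelevant ideal is generated by a list of homogeneous elements of positive degrees -/
lemma exists_list_gens_pos (a : HomogeneousIdeal 𝒜)
    (ha : a.toIdeal = Ideal.span (⋃ n ∈ Set.Ioi (0 : ℤ), (𝒜 n : Set R))) :
    ∃ xs : List R, (∀ x ∈ xs, ∃ e : ℤ, 0 < e ∧ x ∈ 𝒜 e) ∧
      a.toIdeal = Ideal.span {y | y ∈ xs} := by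
  have hfg : (Submodule.span R (⋃ n ∈ Set.Ioi (0 : ℤ), (𝒜 n : Set R))).FG :=
    IsNoetherian.noetherian _
  obtain ⟨s', hs's, hss'⟩ := (Submodule.fg_span_iff_fg_span_finset_subset _).mp hfg
  refine ⟨s'.toList, fun y hy => ?_, ?_⟩
  · have h1 := hs's (Finset.mem_toList.mp hy)
    simp only [Set.mem_iUnion, Set.mem_Ioi] at h1
    obtain ⟨e, he, hye⟩ := h1
    exact ⟨e, he, hye⟩
  · rw [ha]
    have h1 : {y | y ∈ s'.toList} = (s' : Set R) := by
      ext y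
      simp
    rw [h1]
    exact hss'

end Gens

section SegDim

open Groth.Agent.Helper9.SegreLib

variable {k : Type u} [Field k] {R S T : Type u} [CommRing R] [CommRing S] [CommRing T]
  [Algebra k R] [Algebra k S] [Algebra k T] [IsNoetherianRing R] [IsNoetherianRing S]
  [IsNoetherianRing T]
  {𝒜 : ℤ → Submodule k R} {ℬ : ℤ → Submodule k S} {𝒯 : ℤ → Submodule k T}
  [GradedAlgebra 𝒜] [GradedAlgebra ℬ] [GradedAlgebra 𝒯]
  (ψ : T →ₐ[k] R ⊗[k] S) (hT : GrSeg.IsSegreRing 𝒜 ℬ 𝒯 ψ)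
  {XM : GrLC.GMod.{u} (toAG 𝒜)} {XN : GrLC.GMod.{u} (toAG ℬ)} {xs : List R} {ys : List S}
  (KM : CPack XM xs) (KN : CPack XN ys)

attribute [local instance] kMod

lemma Damb_tmul_zero_zero {u0 : KM.T.carrier} {v0 : KN.T.carrier} (hu : KM.p 0 u0 = u0)
    (hv : KN.p 0 v0 = v0) : Damb KM KN (u0 ⊗ₜ[k] v0) = KM.D u0 ⊗ₜ[k] KN.D v0 := by
  have hu' : KM.pk 0 u0 = u0 := hu
  have hv' : KN.pk 0 v0 = v0 := hv
  unfold Damb KW.Dw Aamb
  rw [LinearMap.add_apply, LinearMap.add_apply]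
  show KM.tdgs.D u0 ⊗ₜ[k] KN.tdgs.e v0 + KM.tdgs.ε u0 ⊗ₜ[k] KN.tdgs.D v0 +
    (KM.Dk * KM.pk 0) u0 ⊗ₜ[k] (KN.Dk * KN.pk 0) v0 = _
  rw [KM.tD_of_pk_zero hu, TensorProduct.zero_tmul, zero_add, KN.tD_of_pk_zero hv,
    TensorProduct.tmul_zero, zero_add, Module.End.mul_apply, Module.End.mul_apply, hu', hv']
  rfl

/-- a homogeneous cocycle of degree zero of the total complex vanishes when `H^0` of both factors
vanishes in this degree -/
theorem amb_zero_of_H0 (d : ℤ)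
    (H0M : ∀ u : KM.T.carrier, u ∈ KM.T.gr d → KM.p 0 u = u → KM.D u = 0 → u = 0)
    (H0N : ∀ v : KN.T.carrier, v ∈ KN.T.gr d → KN.p 0 v = v → KN.D v = 0 → v = 0)
    (a : Amb KM.T KN.T) (had : a ∈ piece KM.T KN.T d)
    (haQ : a ∈ LinearMap.range (Qamb KM KN 0)) (haD : Damb KM KN a = 0) : a = 0 := by
  have hPa : PiK KM.T KN.T d a = a := PiK_of_mem_piece _ _ had
  obtain ⟨a', ha'⟩ := haQ
  have hQa : tm (KM.pk 0) (KN.pk 0) a = a := by
    rw [← ha']
    show tm (KM.pk 0) (KN.pk 0) (tm (KM.pk 0) (KN.pk 0) a') = tm (KM.pk 0) (KN.pk 0) a'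
    rw [tm_apply, KM.pk_idem, KN.pk_idem]
  have hz : a ∈ LinearMap.range (tm ((KM.fdgs d).p 0) ((KN.fdgs d).p 0)) := by
    refine ⟨a, ?_⟩
    show tm (KM.pk 0 * πk KM.T d) (KN.pk 0 * πk KN.T d) a = a
    rw [← tm_mul, Module.End.mul_apply]
    show tm (KM.pk 0) (KN.pk 0) (PiK KM.T KN.T d a) = a
    rw [hPa, hQa]
  have hD : tm (KM.fdgs d).D (KN.fdgs d).D a = 0 := by
    show tm (KM.Dk * πk KM.T d) (KN.Dk * πk KN.T d) a = 0
    rw [← tm_mul, Module.End.mul_apply]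
    show tm KM.Dk KN.Dk (PiK KM.T KN.T d a) = 0
    rw [hPa]
    have e1 : Damb KM KN (tm (KM.pk 0) (KN.pk 0) a) = Aamb KM KN a :=
      end_mul_eq (Damb_Qamb_zero' KM KN) a
    have e2 : Aamb KM KN a = tm KM.Dk KN.Dk (tm (KM.pk 0) (KN.pk 0) a) := by
      unfold Aamb
      rw [← tm_mul]
      rfl
    rw [hQa] at e1 e2
    rw [← e2, ← e1]
    exact haD
  have h1 := KW.exists_decomp_zero hz hD
  have h2 : a ∈ (⊥ : Submodule k (Amb KM.T KN.T)) := by
    refine (sup_le ?_ ?_ : _ ≤ (⊥ : Submodule k (Amb KM.T KN.T))) h1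
    · rw [Submodule.span_le]
      rintro _ ⟨u, v, hu, hv, rfl⟩
      obtain ⟨hud, hup, huD⟩ := KM.mem_fdgs_Z.mp hu
      rw [H0M u hud hup huD, TensorProduct.zero_tmul]
      exact Submodule.zero_mem _
    · rw [Submodule.span_le]
      rintro _ ⟨u, v, hu, hv, rfl⟩
      obtain ⟨hvd, hvp, hvD⟩ := KN.mem_fdgs_Z.mp hv
      rw [H0N v hvd hvp hvD, TensorProduct.tmul_zero]
      exact Submodule.zero_mem _
  exact (Submodule.mem_bot k).mp h2

/-- a homogeneous cocycle of degree one of the total complex is a coboundary when `H^1` of both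
factors vanishes in this degree -/
theorem amb_B_one (d : ℤ)
    (H1M : ∀ u : KM.T.carrier, u ∈ KM.T.gr d → KM.p 1 u = u → KM.D u = 0 →
      ∃ u0 : KM.T.carrier, u0 ∈ KM.T.gr d ∧ KM.p 0 u0 = u0 ∧ KM.D u0 = u)
    (H1N : ∀ v : KN.T.carrier, v ∈ KN.T.gr d → KN.p 1 v = v → KN.D v = 0 →
      ∃ v0 : KN.T.carrier, v0 ∈ KN.T.gr d ∧ KN.p 0 v0 = v0 ∧ KN.D v0 = v)
    (a : Amb KM.T KN.T) (had : a ∈ piece KM.T KN.T d)
    (haQ : a ∈ LinearMap.range (Qamb KM KN 1)) (haD : Damb KM KN a = 0) :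
    ∃ w0 : Amb KM.T KN.T, w0 ∈ segSub KM.T KN.T ∧ Qamb KM KN 0 w0 = w0 ∧
      Damb KM KN w0 = a := by
  have hPa : PiK KM.T KN.T d a = a := PiK_of_mem_piece _ _ had
  obtain ⟨a', ha'⟩ := haQ
  have hz : a ∈ KW.Zw (KM.ddgs d) (KN.ddgs d) (Damb KM KN) 2 := by
    refine ⟨LinearMap.mem_ker.mpr haD, a', ?_⟩
    rw [Pn_ddgs', Module.End.mul_apply]
    show PiK KM.T KN.T d (Qamb KM KN 1 a') = a
    rw [ha', hPa]
  obtain ⟨b, hb, hab⟩ := KW.exists_decomp (Damb_eW_ddgs KM KN d) hz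
  obtain ⟨_, ⟨w', rfl⟩, rfl⟩ := hb
  have hb0 : Damb KM KN (KW.Pnm (KM.ddgs d) (KN.ddgs d) 2 w') = 0 := by
    show Damb KM KN (KW.Pn (KM.ddgs d) (KN.ddgs d) 1 w') = 0
    rw [KW.Pn_one_eq_zero _ _ (KM.ddgs_p_zero d) (KN.ddgs_p_zero d), LinearMap.zero_apply,
      map_zero]
  rw [hb0, sub_zero] at hab
  let BA : Submodule k (Amb KM.T KN.T) :=
    (segSub KM.T KN.T ⊓ LinearMap.eqLocus (Qamb KM KN 0) LinearMap.id).map (Damb KM KN)
  have hle : Submodule.span k {w | ∃ (i j : ℕ) (u : KM.T.carrier) (v : KN.T.carrier),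
      i + j = 2 ∧ u ∈ (KM.ddgs d).Z i ∧ v ∈ (KN.ddgs d).Z j ∧ w = u ⊗ₜ[k] v} ≤ BA := by
    rw [Submodule.span_le]
    rintro _ ⟨i, j, u, v, hij, hu, hv, rfl⟩
    cases i with
    | zero =>
      rw [KM.ddgs_Z_zero hu, TensorProduct.zero_tmul]
      exact Submodule.zero_mem _
    | succ i1 =>
      cases j with
      | zero =>
        rw [KN.ddgs_Z_zero hv, TensorProduct.tmul_zero]
        exact Submodule.zero_mem _
      | succ j1 =>
        have hi0 : i1 = 0 := by omega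
        have hj0 : j1 = 0 := by omega
        subst hi0 hj0
        obtain ⟨hud, hup, huD⟩ := KM.mem_ddgs_Z_succ.mp hu
        obtain ⟨hvd, hvp, hvD⟩ := KN.mem_ddgs_Z_succ.mp hv
        obtain ⟨u0, hu0d, hu0p, hu0D⟩ := H1M u hud hup huD
        obtain ⟨v0, hv0d, hv0p, hv0D⟩ := H1N v hvd hvp hvD
        refine ⟨u0 ⊗ₜ[k] v0, ⟨piece_le_segSub _ _ _ (tmul_mem_piece KM.T KN.T hu0d hv0d), ?_⟩, ?_⟩
        · show KM.pk 0 u0 ⊗ₜ[k] KN.pk 0 v0 = u0 ⊗ₜ[k] v0
          rw [show KM.pk 0 u0 = u0 from hu0p, show KN.pk 0 v0 = v0 from hv0p]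
        · rw [Damb_tmul_zero_zero KM KN hu0p hv0p, hu0D, hv0D]
  obtain ⟨w0, ⟨hw0s, hw0Q⟩, hw0D⟩ := hle hab
  exact ⟨w0, hw0s, hw0Q, hw0D⟩

variable (hxs : ∀ e : ℤ, 0 < e → ∀ x ∈ toAG 𝒜 e, x ∈ Ideal.span {y | y ∈ xs})
  (hys : ∀ e : ℤ, 0 < e → ∀ y ∈ toAG ℬ e, y ∈ Ideal.span {y' | y' ∈ ys})
  (aT : HomogeneousIdeal (toAG 𝒯))
  (haG : aT.toIdeal ≤
    Ideal.span {t : T | ∃ e : ℤ, 0 < e ∧ ∃ x ∈ 𝒜 e, ∃ y ∈ ℬ e, ψ t = x ⊗ₜ[k] y})
  (hposT : ∀ e : ℤ, 0 < e → ∀ t ∈ toAG 𝒯 e, t ∈ aT.toIdeal)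

include hxs hys haG hposT in
theorem seg_van_zero (d : ℤ)
    (H0M : ∀ u : KM.T.carrier, u ∈ KM.T.gr d → KM.p 0 u = u → KM.D u = 0 → u = 0)
    (H0N : ∀ v : KN.T.carrier, v ∈ KN.T.gr d → KN.p 0 v = v → KN.D v = 0 → v = 0) :
    Van aT (SegM ψ hT XM XN) 0 d := by
  intro z hz
  obtain ⟨e⟩ := (segCoPack ψ hT KM KN hxs hys aT haG hposT).piso_zero d
  have key : ∀ x : ((segCoPack ψ hT KM KN hxs hys aT haG hposT).Zm 0).carrier,
      x ∈ ((segCoPack ψ hT KM KN hxs hys aT haG hposT).Zm 0).gr d → x = 0 := by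
    intro x hx
    apply subMap_injective (SegM ψ hT KM.T KN.T) _
      ((segCoPack ψ hT KM KN hxs hys aT haG hposT).Z_hom 0)
    have hxZ : subMap (SegM ψ hT KM.T KN.T) _
        ((segCoPack ψ hT KM KN hxs hys aT haG hposT).Z_hom 0) x ∈
        CS ψ hT KM KN 0 ⊓ LinearMap.ker (DS ψ hT KM KN) := subMap_mem _ _ _ x
    have hxg : subMap (SegM ψ hT KM.T KN.T) _
        ((segCoPack ψ hT KM KN hxs hys aT haG hposT).Z_hom 0) x ∈
        (SegM ψ hT KM.T KN.T).gr d := (mem_subGMod_gr _ _ _ d x).mp hx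
    obtain ⟨hC, hD⟩ := Submodule.mem_inf.mp hxZ
    have h0 : subMap (SegM ψ hT KM.T KN.T) _
        ((segCoPack ψ hT KM KN hxs hys aT haG hposT).Z_hom 0) x = 0 := by
      apply valM_injective ψ hT
      rw [valM_zero]
      refine amb_zero_of_H0 KM KN d H0M H0N _ hxg ?_ ?_
      · obtain ⟨w, hw⟩ := hC
        exact ⟨valM ψ hT w, by rw [← hw]; rfl⟩
      · have h := congrArg (valM ψ hT) (LinearMap.mem_ker.mp hD)
        rw [valM_DS, valM_zero] at h
        exact h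
    exact h0.trans (map_zero _).symm
  have hy : e ⟨z, hz⟩ = 0 := Subtype.ext (key _ (e ⟨z, hz⟩).2)
  have hz0 : (⟨z, hz⟩ : LCp aT (SegM ψ hT XM XN) 0 d) = 0 := by
    rw [← e.symm_apply_apply ⟨z, hz⟩, hy, map_zero]
  exact congrArg Subtype.val hz0

include hxs hys haG hposT in
theorem seg_van_one (d : ℤ)
    (H1M : ∀ u : KM.T.carrier, u ∈ KM.T.gr d → KM.p 1 u = u → KM.D u = 0 →
      ∃ u0 : KM.T.carrier, u0 ∈ KM.T.gr d ∧ KM.p 0 u0 = u0 ∧ KM.D u0 = u)
    (H1N : ∀ v : KN.T.carrier, v ∈ KN.T.gr d → KN.p 1 v = v → KN.D v = 0 →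
      ∃ v0 : KN.T.carrier, v0 ∈ KN.T.gr d ∧ KN.p 0 v0 = v0 ∧ KN.D v0 = v) :
    Van aT (SegM ψ hT XM XN) 1 d := by
  intro z hz
  obtain ⟨e⟩ := (segCoPack ψ hT KM KN hxs hys aT haG hposT).piso_pos 1 le_rfl d
  have key : ∀ y : ((segCoPack ψ hT KM KN hxs hys aT haG hposT).Hm 1).carrier,
      y ∈ ((segCoPack ψ hT KM KN hxs hys aT haG hposT).Hm 1).gr d → y = 0 := by
    intro y hy
    obtain ⟨m, hm, rfl⟩ : ∃ m ∈ (subGMod (SegM ψ hT KM.T KN.T) _
        ((segCoPack ψ hT KM KN hxs hys aT haG hposT).Z_hom 1)).gr d,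
        sqMap (SegM ψ hT KM.T KN.T) _ _
          ((segCoPack ψ hT KM KN hxs hys aT haG hposT).B_hom 1)
          ((segCoPack ψ hT KM KN hxs hys aT haG hposT).Z_hom 1) m = y := hy
    refine (sqMap_eq_zero_iff _ _ _ _ _ _).mpr ?_
    have hmZ : subMap (SegM ψ hT KM.T KN.T) _
        ((segCoPack ψ hT KM KN hxs hys aT haG hposT).Z_hom 1) m ∈
        CS ψ hT KM KN 1 ⊓ LinearMap.ker (DS ψ hT KM KN) := subMap_mem _ _ _ m
    have hmg : subMap (SegM ψ hT KM.T KN.T) _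
        ((segCoPack ψ hT KM KN hxs hys aT haG hposT).Z_hom 1) m ∈
        (SegM ψ hT KM.T KN.T).gr d := (mem_subGMod_gr _ _ _ d m).mp hm
    obtain ⟨hC, hD⟩ := Submodule.mem_inf.mp hmZ
    have haQ : valM ψ hT (subMap (SegM ψ hT KM.T KN.T) _
        ((segCoPack ψ hT KM KN hxs hys aT haG hposT).Z_hom 1) m) ∈
        LinearMap.range (Qamb KM KN 1) := by
      obtain ⟨w, hw⟩ := hC
      exact ⟨valM ψ hT w, by rw [← hw]; rfl⟩
    have haD : Damb KM KN (valM ψ hT (subMap (SegM ψ hT KM.T KN.T) _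
        ((segCoPack ψ hT KM KN hxs hys aT haG hposT).Z_hom 1) m)) = 0 := by
      have h := congrArg (valM ψ hT) (LinearMap.mem_ker.mp hD)
      rw [valM_DS, valM_zero] at h
      exact h
    obtain ⟨w0, hw0s, hw0Q, hw0D⟩ := amb_B_one KM KN d H1M H1N _ hmg haQ haD
    refine ⟨QS ψ hT KM KN 0 (mkM ψ hT w0 hw0s), ⟨_, rfl⟩, ?_⟩
    apply valM_injective ψ hT
    show Damb KM KN (Qamb KM KN 0 w0) = _
    rw [hw0Q, hw0D]
    rfl
  have hy : e ⟨z, hz⟩ = 0 := Subtype.ext (key _ (e ⟨z, hz⟩).2)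
  have hz0 : (⟨z, hz⟩ : LCp aT (SegM ψ hT XM XN) 1 d) = 0 := by
    rw [← e.symm_apply_apply ⟨z, hz⟩, hy, map_zero]
  exact congrArg Subtype.val hz0

/-- the underlying tensor, as an additive map -/
noncomputable def valMHom :
    (SegM ψ hT KM.T KN.T).carrier →+ Amb KM.T KN.T where
  toFun := valM ψ hT
  map_zero' := rfl
  map_add' _ _ := rfl

include hxs hys haG hposT in
/-- the local cohomology of the Segre product in cohomological degrees at least two is the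
cohomology of the total complex of the truncated Čech complexes -/
theorem seg_rank (d : ℤ) (q' : ℕ) (h0T : ∀ r ∈ 𝒯 0, ∃ c : k, algebraMap k T c = r)
    (hinjT : Function.Injective (algebraMap k T)) :
    Module.rank (GrLC.deg0 (toAG 𝒯)) (LCp aT (SegM ψ hT XM XN) (q' + 2) d) =
      Module.rank k (KW.HWq (KM.ddgs d) (KN.ddgs d) (Damb KM KN) (q' + 3)) := by
  obtain ⟨e⟩ := (segCoPack ψ hT KM KN hxs hys aT haG hposT).piso_pos (q' + 2) (by omega) d
  rw [LinearEquiv.rank_eq e]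
  symm
  refine rank_sq_eq (SegM ψ hT KM.T KN.T)
    ((segCoPack ψ hT KM KN hxs hys aT haG hposT).B (q' + 2))
    ((segCoPack ψ hT KM KN hxs hys aT haG hposT).Z (q' + 2))
    ((segCoPack ψ hT KM KN hxs hys aT haG hposT).B_hom (q' + 2))
    ((segCoPack ψ hT KM KN hxs hys aT haG hposT).Z_hom (q' + 2)) d
    (valMHom ψ hT KM KN) (valM_injective ψ hT) ?_
    (KW.Zw (KM.ddgs d) (KN.ddgs d) (Damb KM KN) (q' + 3))
    (KW.Bw (KM.ddgs d) (KN.ddgs d) (Damb KM KN) (q' + 3)) ?_ ?_ h0T hinjT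
  · intro c z
    show valM ψ hT (algebraMap k T c • z) = c • valM ψ hT z
    rw [valM_smul, AlgHom.commutes, Algebra.algebraMap_eq_smul_one, map_smul,
      LinearMap.smul_apply, act_one]
  · intro a
    constructor
    · rintro ⟨haD, a', ha'⟩
      have haD' : Damb KM KN a = 0 := LinearMap.mem_ker.mp haD
      rw [Pn_ddgs, Module.End.mul_apply] at ha'
      have hpw : PiK KM.T KN.T d a' ∈ segSub KM.T KN.T :=
        piece_le_segSub _ _ _ (PiK_mem_piece _ _ d a')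
      have hva : valM ψ hT (QS ψ hT KM KN (q' + 2) (mkM ψ hT _ hpw)) = a := ha'
      refine ⟨QS ψ hT KM KN (q' + 2) (mkM ψ hT _ hpw), ?_, ?_, hva⟩
      · refine (show _ ∈ CS ψ hT KM KN (q' + 2) ⊓ LinearMap.ker (DS ψ hT KM KN) from
          Submodule.mem_inf.mpr ⟨⟨_, rfl⟩, ?_⟩)
        rw [LinearMap.mem_ker]
        apply valM_injective ψ hT
        rw [valM_DS, hva, valM_zero]
        exact haD'
      · show valM ψ hT (QS ψ hT KM KN (q' + 2) (mkM ψ hT _ hpw)) ∈ piece KM.T KN.T d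
        rw [hva, ← ha']
        exact (isAmb_Qamb KM KN (q' + 2)).2 d _ (PiK_mem_piece _ _ d a')
    · rintro ⟨z, hz, hzg, rfl⟩
      have hz' : z ∈ CS ψ hT KM KN (q' + 2) ⊓ LinearMap.ker (DS ψ hT KM KN) := hz
      obtain ⟨hC, hD⟩ := Submodule.mem_inf.mp hz'
      have hzg' : valM ψ hT z ∈ piece KM.T KN.T d := hzg
      have hPa : PiK KM.T KN.T d (valM ψ hT z) = valM ψ hT z := PiK_of_mem_piece _ _ hzg'
      have hker : Damb KM KN (valM ψ hT z) = 0 := by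
        have h := congrArg (valM ψ hT) (LinearMap.mem_ker.mp hD)
        rw [valM_DS, valM_zero] at h
        exact h
      refine ⟨LinearMap.mem_ker.mpr hker, ?_⟩
      · obtain ⟨w, hw⟩ := hC
        refine ⟨valM ψ hT w, ?_⟩
        rw [Pn_ddgs', Module.End.mul_apply]
        show PiK KM.T KN.T d (Qamb KM KN (q' + 2) (valM ψ hT w)) = _
        rw [← valM_QS, hw, hPa]
        rfl
  · intro a
    constructor
    · rintro ⟨_, ⟨w', rfl⟩, rfl⟩
      have hpw : PiK KM.T KN.T d w' ∈ segSub KM.T KN.T :=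
        piece_le_segSub _ _ _ (PiK_mem_piece _ _ d w')
      have hva : valM ψ hT (DS ψ hT KM KN (QS ψ hT KM KN (q' + 1) (mkM ψ hT _ hpw))) =
          Damb KM KN (KW.Pnm (KM.ddgs d) (KN.ddgs d) (q' + 3) w') := by
        show Damb KM KN (Qamb KM KN (q' + 1) (PiK KM.T KN.T d w')) =
          Damb KM KN (KW.Pn (KM.ddgs d) (KN.ddgs d) (q' + 2) w')
        rw [Pn_ddgs, Module.End.mul_apply]
        rfl
      refine ⟨DS ψ hT KM KN (QS ψ hT KM KN (q' + 1) (mkM ψ hT _ hpw)), ⟨_, ⟨_, rfl⟩, rfl⟩, ?_,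
        hva⟩
      apply DS_gr ψ hT KM KN d
      apply isGrHom_segLiftM ψ hT _ (isAmb_Qamb KM KN (q' + 1)) d
      exact PiK_mem_piece _ _ d w'
    · rintro ⟨z, ⟨w, hw, rfl⟩, hzg, rfl⟩
      obtain ⟨w1, rfl⟩ : ∃ w1, QS ψ hT KM KN (q' + 1) w1 = w := hw
      -- pass to the homogeneous component
      have hcomp : GrLC.IsGrHom (SegM ψ hT KM.T KN.T).gr (SegM ψ hT KM.T KN.T).gr
          (DS ψ hT KM KN ∘ₗ QS ψ hT KM KN (q' + 1)) := by
        intro g x hx
        exact DS_gr ψ hT KM KN g _ (isGrHom_segLiftM ψ hT _ (isAmb_Qamb KM KN (q' + 1)) g x hx)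
      have hzg' : (DS ψ hT KM KN ∘ₗ QS ψ hT KM KN (q' + 1)) w1 ∈ (SegM ψ hT KM.T KN.T).gr d :=
        hzg
      have e1 : (DS ψ hT KM KN ∘ₗ QS ψ hT KM KN (q' + 1)) (proj (SegM ψ hT KM.T KN.T).gr d w1) =
          (DS ψ hT KM KN ∘ₗ QS ψ hT KM KN (q' + 1)) w1 := by
        rw [← proj_map_of_isGrHom (SegM ψ hT KM.T KN.T).gr (SegM ψ hT KM.T KN.T).gr hcomp w1 d,
          proj_of_mem_same (SegM ψ hT KM.T KN.T).gr hzg']
      have hpd : valM ψ hT (proj (SegM ψ hT KM.T KN.T).gr d w1) ∈ piece KM.T KN.T d :=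
        proj_mem (SegM ψ hT KM.T KN.T).gr d w1
      refine ⟨_, ⟨valM ψ hT (proj (SegM ψ hT KM.T KN.T).gr d w1), rfl⟩, ?_⟩
      show Damb KM KN (KW.Pn (KM.ddgs d) (KN.ddgs d) (q' + 2)
        (valM ψ hT (proj (SegM ψ hT KM.T KN.T).gr d w1))) = _
      rw [Pn_ddgs, Module.End.mul_apply, PiK_of_mem_piece _ _ hpd]
      have e2 := congrArg (valM ψ hT) e1
      exact e2

end SegDim

end Groth.Agent.Lib.Helper6.SegK
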