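import Mathlib
import Groth.Prelude.Def_GrLC
import Groth.Prelude.Def_GrSeg
import Groth.Agent.Lib.Helper6.SegK.SKo

set_option autoImplicit false
set_option linter.unusedSectionVars false
set_option linter.unusedVariables false
set_option linter.unusedSimpArgs false
set_option linter.style.haveILetI false
set_option maxHeartbeats 400000

/-!
# The Künneth formula for the local cohomology of a Segre product: the main theorem (helper6)
-/

universe u

namespace Groth.Agent.Lib.Helper6.SegK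

open scoped TensorProduct
open CategoryTheory DirectSum Groth.Agent.Helper9.GrLCLib Groth.Agent.Helper9.GrLCLib.Trans
open Groth.Agent.Helper8.LC Groth.Agent.Lib.Helper6.CMReg

section Single

variable {k : Type u} [Field k] {R : Type u} [CommRing R] [Algebra k R] [IsNoetherianRing R]
  {𝒜 : ℤ → Submodule k R} [GradedAlgebra 𝒜] {X : GrLC.GMod.{u} (toAG 𝒜)} {xs : List R}
  (K : CPack X xs)
  (a : HomogeneousIdeal (toAG 𝒜)) (ha : a.toIdeal ≤ Ideal.span {y | y ∈ xs})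
  (hpos : ∀ e : ℤ, 0 < e → ∀ x ∈ toAG 𝒜 e, x ∈ a.toIdeal)

attribute [local instance] kMod

lemma finrank_lcp_of_van [Nontrivial R] (q : ℕ) (d : ℤ) (hv : Van a X q d) :
    Module.finrank (GrLC.deg0 (toAG 𝒜)) (LCp a X q d) = 0 := by
  haveI : Subsingleton (LCp a X q d) := by
    constructor
    intro x y
    apply Subtype.ext
    rw [hv _ x.2, hv _ y.2]
  exact Module.finrank_zero_of_subsingleton

include ha hpos in
/-- the dimensions of the cohomology of the truncated Čech complex in degree `d` -/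
theorem CPack.ddgs_Hq_data [Nontrivial R] [Module.Finite R X.carrier]
    (haeq : a.toIdeal = Ideal.span (⋃ n ∈ Set.Ioi (0 : ℤ), (toAG 𝒜 n : Set R)))
    (h0 : ∀ r ∈ 𝒜 0, ∃ c : k, algebraMap k R c = r) (d : ℤ)
    (hv0 : Van a X 0 d) (hv1 : Van a X 1 d) (i : ℕ) :
    Module.Finite k ((K.ddgs d).Hq i) ∧
      Module.finrank k ((K.ddgs d).Hq i) =
        if i = 0 then 0 else if i = 1 then
          Module.finrank (GrLC.deg0 (toAG 𝒜)) ↥(GrLC.comp (toAG 𝒜) X.gr d)
        else Module.finrank (GrLC.deg0 (toAG 𝒜)) (LCp a X i d) := by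
  have hinj : Function.Injective (algebraMap k R) := (algebraMap k R).injective
  haveI : IsNoetherian R X.carrier := isNoetherian_of_isNoetherianRing_of_finite R X.carrier
  rcases i with _ | _ | i
  · haveI := K.subsingleton_ddgs_Hq_zero d
    refine ⟨inferInstance, ?_⟩
    rw [if_pos rfl]
    exact Module.finrank_zero_of_subsingleton
  · have hr := (K.rank_ddgs_Hq_one d (K.H0_of_van a ha hpos d hv0)
      (K.H1_of_van a ha hpos d hv1)).trans (rank_grK X d h0 hinj)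
    haveI : IsNoetherian (GrLC.deg0 (toAG 𝒜)) ↥(GrLC.comp (toAG 𝒜) X.gr d) :=
      FinZ.isNoetherian_comp_of_isNoetherian (toAG 𝒜) X.gr d
    refine ⟨finite_of_rank_eq hr, ?_⟩
    rw [if_neg (by omega), if_pos rfl]
    exact finrank_eq_of_rank_eq hr
  · have hr := K.rank_ddgs_Hq a ha hpos d i h0 hinj
    haveI : IsNoetherian (GrLC.deg0 (toAG 𝒜)) (LCp a X (i + 2) d) :=
      FinZ.finP (toAG 𝒜) a haeq (i + 2) X d
    refine ⟨finite_of_rank_eq hr, ?_⟩
    rw [if_neg (by omega), if_neg (by omega)]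
    exact finrank_eq_of_rank_eq hr

end Single

section Main

open Groth.Agent.Helper9.SegreLib

variable {k : Type u} [Field k] {R S T : Type u} [CommRing R] [CommRing S] [CommRing T]
  [Algebra k R] [Algebra k S] [Algebra k T] [IsNoetherianRing R] [IsNoetherianRing S]
  [IsNoetherianRing T] [Nontrivial R] [Nontrivial S] [Nontrivial T]
  {𝒜 : ℤ → Submodule k R} {ℬ : ℤ → Submodule k S} {𝒯 : ℤ → Submodule k T}
  [GradedAlgebra 𝒜] [GradedAlgebra ℬ] [GradedAlgebra 𝒯]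
  (ψ : T →ₐ[k] R ⊗[k] S) (hT : GrSeg.IsSegreRing 𝒜 ℬ 𝒯 ψ)
  (h0R : ∀ r ∈ 𝒜 0, ∃ c : k, algebraMap k R c = r)
  (h0S : ∀ r ∈ ℬ 0, ∃ c : k, algebraMap k S c = r)
  (h0T : ∀ r ∈ 𝒯 0, ∃ c : k, algebraMap k T c = r)
  (XM : GrLC.GMod.{u} (toAG 𝒜)) (XN : GrLC.GMod.{u} (toAG ℬ))
  [Module.Finite R XM.carrier] [Module.Finite S XN.carrier]
  (aR : HomogeneousIdeal (toAG 𝒜))
  (haR : aR.toIdeal = Ideal.span (⋃ n ∈ Set.Ioi (0 : ℤ), (toAG 𝒜 n : Set R)))
  (aS : HomogeneousIdeal (toAG ℬ))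
  (haS : aS.toIdeal = Ideal.span (⋃ n ∈ Set.Ioi (0 : ℤ), (toAG ℬ n : Set S)))
  (aT : HomogeneousIdeal (toAG 𝒯))
  (haT : aT.toIdeal = Ideal.span (⋃ n ∈ Set.Ioi (0 : ℤ), (toAG 𝒯 n : Set T)))

attribute [local instance] kMod

include hT h0R h0S h0T haR haS haT in
/-- **the Künneth formula for the local cohomology of a Segre product**, degree by degree, when
`H^0` and `H^1` of both factors vanish in this degree -/
theorem seg_kunneth_lcp (d : ℤ) (hM0 : Van aR XM 0 d) (hM1 : Van aR XM 1 d)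
    (hN0 : Van aS XN 0 d) (hN1 : Van aS XN 1 d) (q : ℕ) :
    Module.finrank (GrLC.deg0 (toAG 𝒯)) (LCp aT (SegM ψ hT XM XN) q d) =
      Module.finrank (GrLC.deg0 (toAG 𝒜)) ↥(GrLC.comp (toAG 𝒜) XM.gr d) *
          Module.finrank (GrLC.deg0 (toAG ℬ)) (LCp aS XN q d) +
        Module.finrank (GrLC.deg0 (toAG 𝒜)) (LCp aR XM q d) *
          Module.finrank (GrLC.deg0 (toAG ℬ)) ↥(GrLC.comp (toAG ℬ) XN.gr d) +
        ∑ i ∈ Finset.range (q + 2), Module.finrank (GrLC.deg0 (toAG 𝒜)) (LCp aR XM i d) *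
          Module.finrank (GrLC.deg0 (toAG ℬ)) (LCp aS XN (q + 1 - i) d) := by
  obtain ⟨xs, hxs1, hxs2⟩ := exists_list_gens_pos aR haR
  obtain ⟨ys, hys1, hys2⟩ := exists_list_gens_pos aS haS
  obtain ⟨KM⟩ := CPack.nonempty_cpack XM xs hxs1
  obtain ⟨KN⟩ := CPack.nonempty_cpack XN ys hys1
  have haR' : aR.toIdeal ≤ Ideal.span {y | y ∈ xs} := hxs2.le
  have haS' : aS.toIdeal ≤ Ideal.span {y | y ∈ ys} := hys2.le
  have hposR : ∀ e : ℤ, 0 < e → ∀ x ∈ toAG 𝒜 e, x ∈ aR.toIdeal := by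
    intro e he x hx
    rw [haR]
    exact Ideal.subset_span (Set.mem_iUnion₂.mpr ⟨e, he, hx⟩)
  have hposS : ∀ e : ℤ, 0 < e → ∀ x ∈ toAG ℬ e, x ∈ aS.toIdeal := by
    intro e he x hx
    rw [haS]
    exact Ideal.subset_span (Set.mem_iUnion₂.mpr ⟨e, he, hx⟩)
  have hposT : ∀ e : ℤ, 0 < e → ∀ x ∈ toAG 𝒯 e, x ∈ aT.toIdeal := by
    intro e he x hx
    rw [haT]
    exact Ideal.subset_span (Set.mem_iUnion₂.mpr ⟨e, he, hx⟩)
  have hxs : ∀ e : ℤ, 0 < e → ∀ x ∈ toAG 𝒜 e, x ∈ Ideal.span {y | y ∈ xs} :=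
    fun e he x hx => haR' (hposR e he x hx)
  have hys : ∀ e : ℤ, 0 < e → ∀ x ∈ toAG ℬ e, x ∈ Ideal.span {y | y ∈ ys} :=
    fun e he x hx => haS' (hposS e he x hx)
  have haG : aT.toIdeal ≤
      Ideal.span {t : T | ∃ e : ℤ, 0 < e ∧ ∃ x ∈ 𝒜 e, ∃ y ∈ ℬ e, ψ t = x ⊗ₜ[k] y} := by
    rw [haT]
    exact irrelevant_le_span ψ hT
  have H0M := KM.H0_of_van aR haR' hposR d hM0
  have H1M := KM.H1_of_van aR haR' hposR d hM1
  have H0N := KN.H0_of_van aS haS' hposS d hN0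
  have H1N := KN.H1_of_van aS haS' hposS d hN1
  have ha0 := finrank_lcp_of_van aR 0 d hM0
  have ha1 := finrank_lcp_of_van aR 1 d hM1
  have hb0 := finrank_lcp_of_van aS 0 d hN0
  have hb1 := finrank_lcp_of_van aS 1 d hN1
  rcases q with _ | _ | q'
  · have hT0 := finrank_lcp_of_van aT 0 d
      (seg_van_zero ψ hT KM KN hxs hys aT haG hposT d H0M H0N)
    rw [hT0, ha0, hb0, Finset.sum_range_succ, Finset.sum_range_succ, Finset.sum_range_zero, ha0,
      ha1]
    simp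
  · have hT1 := finrank_lcp_of_van aT 1 d
      (seg_van_one ψ hT KM KN hxs hys aT haG hposT d H1M H1N)
    rw [hT1, ha1, hb1, Finset.sum_range_succ, Finset.sum_range_succ, Finset.sum_range_succ,
      Finset.sum_range_zero, ha0, ha1]
    have e1 : 0 + 1 + 1 - 2 = 0 := rfl
    rw [e1, hb0]
    simp
  · have hinjT : Function.Injective (algebraMap k T) := (algebraMap k T).injective
    have hr := seg_rank ψ hT KM KN hxs hys aT haG hposT d q' h0T hinjT
    have hfr := finrank_eq_of_rank_eq hr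
    have hU := KM.ddgs_Hq_data aR haR' hposR haR h0R d hM0 hM1
    have hV := KN.ddgs_Hq_data aS haS' hposS haS h0S d hN0 hN1
    obtain ⟨_, hk⟩ := KW.kunneth (Damb_eW_ddgs KM KN d) (fun i => (hU i).1) (fun j => (hV j).1)
      (q' + 3)
    rw [hfr, hk]
    have hsum : ∀ x ∈ Finset.HasAntidiagonal.antidiagonal (q' + 3),
        Module.finrank k ((KM.ddgs d).Hq x.1) * Module.finrank k ((KN.ddgs d).Hq x.2) =
          (if x.1 = 0 then 0 else if x.1 = 1 then
            Module.finrank (GrLC.deg0 (toAG 𝒜)) ↥(GrLC.comp (toAG 𝒜) XM.gr d)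
            else (fun i => Module.finrank (GrLC.deg0 (toAG 𝒜)) (LCp aR XM i d)) x.1) *
          (if x.2 = 0 then 0 else if x.2 = 1 then
            Module.finrank (GrLC.deg0 (toAG ℬ)) ↥(GrLC.comp (toAG ℬ) XN.gr d)
            else (fun i => Module.finrank (GrLC.deg0 (toAG ℬ)) (LCp aS XN i d)) x.2) := by
      intro x _
      rw [(hU x.1).2, (hV x.2).2]
    rw [Finset.sum_congr rfl hsum]
    exact kunneth_arith _ _
      (fun i => Module.finrank (GrLC.deg0 (toAG 𝒜)) (LCp aR XM i d))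
      (fun i => Module.finrank (GrLC.deg0 (toAG ℬ)) (LCp aS XN i d)) ha0 ha1 hb0 hb1 q'

end Main

end Groth.Agent.Lib.Helper6.SegK
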