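import Mathlib
import Groth.Prelude.Def_GrLC
import Groth.Prelude.Def_GrSeg
import Groth.Agent.Lib.Helper6.CMReg.CRi
import Groth.Agent.Lib.Helper6.SegK.SKp

set_option autoImplicit false
set_option linter.unusedSectionVars false
set_option linter.unusedVariables false
set_option linter.unusedSimpArgs false
set_option linter.style.haveILetI false
set_option maxHeartbeats 400000

/-!
# The Künneth formula for Segre products in terms of *injective resolutions (helper6)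
-/

universe u

namespace Groth.Agent.Lib.Helper6.SegK

open scoped TensorProduct
open CategoryTheory DirectSum Groth.Agent.Helper9.GrLCLib Groth.Agent.Helper9.GrLCLib.Trans
open Groth.Agent.Helper8.LC Groth.Agent.Lib.Helper6.CMReg

section Bridge

variable {R : Type u} [CommRing R] [IsNoetherianRing R] {σ : Type u} [SetLike σ R]
  [AddSubgroupClass σ R] (𝒜 : ℤ → σ) [GradedRing 𝒜]
variable {M : Type u} [AddCommGroup M] [Module R M] {τ : Type u} [SetLike τ M]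
  [AddSubgroupClass τ M] (ℳ : ℤ → τ) [DirectSum.Decomposition ℳ] [SetLike.GradedSMul 𝒜 ℳ]

/-- the identity between the two degree zero subrings -/
def deg0ToAG : GrLC.deg0 𝒜 → GrLC.deg0 (toAG 𝒜) := fun r => ⟨r.1, r.2⟩

lemma deg0ToAG_bijective : Function.Bijective (deg0ToAG 𝒜) :=
  ⟨fun a b h => Subtype.ext (congrArg Subtype.val h), fun b => ⟨⟨b.1, b.2⟩, rfl⟩⟩

/-- the pieces of the graded local cohomology computed from a *injective resolution and the pieces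
of the local cohomology have the same rank -/
theorem rank_hcomp_eq_lcp (E : GrLC.StarInjRes 𝒜 ℳ) (a : HomogeneousIdeal 𝒜) (i : ℕ) (g : ℤ) :
    Module.rank (GrLC.deg0 𝒜) (E.Hcomp a i g) =
      Module.rank (GrLC.deg0 (toAG 𝒜))
        (LCp (idealToAG 𝒜 a) (GrLC.GMod.of (toAG 𝒜) M (toAG ℳ)) i g) := by
  obtain ⟨Θ, hΘ⟩ := exists_theta_LCgr (toAG 𝒜) (toAG ℳ) (idealToAG 𝒜 a) (resToAG 𝒜 ℳ E) i
  refine rank_eq_of_semilinear (deg0ToAG 𝒜) (deg0ToAG_bijective 𝒜) (E.Hcomp a i g)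
    (Fg.LCcomp (toAG 𝒜) (toAG ℳ) a.toIdeal i g) Θ.toAddMonoidHom Θ.injective
    (fun c x => map_smul Θ (c : R) x) (fun y => ⟨fun hy => ?_, ?_⟩)
  · refine ⟨Θ.symm y, ?_, Θ.apply_symm_apply y⟩
    have h1 : Θ.symm y ∈ (resToAG 𝒜 ℳ E).Hcomp (idealToAG 𝒜 a) i g := by
      apply (hΘ g _).mpr
      rw [LinearEquiv.apply_symm_apply]
      exact hy
    exact h1
  · rintro ⟨x, hx, rfl⟩
    have hx' : x ∈ (resToAG 𝒜 ℳ E).Hcomp (idealToAG 𝒜 a) i g := hx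
    exact (hΘ g x).mp hx'

theorem rank_comp_eq (g : ℤ) :
    Module.rank (GrLC.deg0 𝒜) (GrLC.comp 𝒜 ℳ g) =
      Module.rank (GrLC.deg0 (toAG 𝒜)) (GrLC.comp (toAG 𝒜) (toAG ℳ) g) :=
  rank_eq_of_semilinear (deg0ToAG 𝒜) (deg0ToAG_bijective 𝒜) (GrLC.comp 𝒜 ℳ g)
    (GrLC.comp (toAG 𝒜) (toAG ℳ) g) (AddMonoidHom.id M) Function.injective_id
    (fun c x => rfl) (fun y => ⟨fun hy => ⟨y, hy, rfl⟩, fun ⟨x, hx, hxy⟩ => hxy ▸ hx⟩)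

end Bridge

section Piece

variable {k : Type u} [Field k] {R : Type u} [CommRing R] [Algebra k R] [IsNoetherianRing R]
  {𝒜 : ℤ → Submodule k R} [GradedAlgebra 𝒜]

theorem rank_piece_eq (h0 : ∀ r ∈ 𝒜 0, ∃ c : k, algebraMap k R c = r)
    (hinj : Function.Injective (algebraMap k R)) (d : ℤ) :
    Module.rank k ↥(𝒜 d) =
      Module.rank (GrLC.deg0 (toAG 𝒜)) ↥(GrLC.comp (toAG 𝒜) (toAG 𝒜) d) :=
  rank_eq_of_semilinear (toDeg0 (𝒜 := 𝒜)) (toDeg0_bijective h0 hinj) (𝒜 d)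
    (GrLC.comp (toAG 𝒜) (toAG 𝒜) d) (AddMonoidHom.id R) Function.injective_id
    (fun c x => Algebra.smul_def c x)
    (fun y => ⟨fun hy => ⟨y, hy, rfl⟩, fun ⟨x, hx, hxy⟩ => hxy ▸ hx⟩)

end Piece

section Transfer

open Groth.Agent.Helper9.SegreLib

variable {k : Type u} [Field k] {R S T : Type u} [CommRing R] [CommRing S] [CommRing T]
  [Algebra k R] [Algebra k S] [Algebra k T] [IsNoetherianRing R] [IsNoetherianRing S]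
  [IsNoetherianRing T]
  (𝒜 : ℤ → Submodule k R) (ℬ : ℤ → Submodule k S) {𝒯 : ℤ → Submodule k T}
  [GradedAlgebra 𝒜] [GradedAlgebra ℬ] [GradedAlgebra 𝒯]
  (ψ : T →ₐ[k] R ⊗[k] S) (hT : GrSeg.IsSegreRing 𝒜 ℬ 𝒯 ψ)
  {M : Type u} [AddCommGroup M] [Module R M] [Module k M] [IsScalarTower k R M]
  {τM : Type u} [SetLike τM M] [AddSubgroupClass τM M]
  (ℳ : ℤ → τM) [DirectSum.Decomposition ℳ] [SetLike.GradedSMul 𝒜 ℳ]
  {N : Type u} [AddCommGroup N] [Module S N] [Module k N] [IsScalarTower k S N]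
  {τN : Type u} [SetLike τN N] [AddSubgroupClass τN N]
  (𝒩 : ℤ → τN) [DirectSum.Decomposition 𝒩] [SetLike.GradedSMul ℬ 𝒩]
  {P : Type u} [AddCommGroup P] [Module T P] [Module k P] [IsScalarTower k T P]
  {τQ : Type u} [SetLike τQ P] [AddSubgroupClass τQ P]
  (𝒬 : ℤ → τQ) [DirectSum.Decomposition 𝒬] [SetLike.GradedSMul 𝒯 𝒬]
  (φ : P →ₗ[k] M ⊗[k] N) (hP : GrSeg.IsSegreMod ψ ℳ 𝒩 𝒬 φ)

attribute [local instance] kMod

/-- the bundled graded module of an unbundled one -/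
noncomputable abbrev bun : GrLC.GMod.{u} (toAG 𝒜) := GrLC.GMod.of (toAG 𝒜) M (toAG ℳ)

/-- an element of the module as an element of the bundled graded module -/
def ofM (m : M) : (bun 𝒜 ℳ).carrier := m

/-- an element of the bundled graded module as an element of the module -/
def toM (x : (bun 𝒜 ℳ).carrier) : M := x

lemma toM_ofM (m : M) : toM 𝒜 ℳ (ofM 𝒜 ℳ m) = m := rfl

lemma ofM_toM (x : (bun 𝒜 ℳ).carrier) : ofM 𝒜 ℳ (toM 𝒜 ℳ x) = x := rfl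

lemma ofM_smul_k (c : k) (m : M) : ofM 𝒜 ℳ (c • m) = c • ofM 𝒜 ℳ m := by
  rw [kMod_smul_def, ← algebraMap_smul R c m]
  rfl

lemma toM_smul_k (c : k) (x : (bun 𝒜 ℳ).carrier) : toM 𝒜 ℳ (c • x) = c • toM 𝒜 ℳ x := by
  rw [kMod_smul_def, ← algebraMap_smul R c (toM 𝒜 ℳ x)]
  rfl

/-- the identity, from the given vector space structure to the canonical one -/
noncomputable def idK : M →ₗ[k] (bun 𝒜 ℳ).carrier where
  toFun := ofM 𝒜 ℳ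
  map_add' := fun _ _ => rfl
  map_smul' := fun c m => ofM_smul_k 𝒜 ℳ c m

/-- the identity, from the canonical vector space structure to the given one -/
noncomputable def idK' : (bun 𝒜 ℳ).carrier →ₗ[k] M where
  toFun := toM 𝒜 ℳ
  map_add' := fun _ _ => rfl
  map_smul' := fun c m => toM_smul_k 𝒜 ℳ c m

/-- the identification of the two tensor products -/
noncomputable def Jmap : M ⊗[k] N →ₗ[k] Amb (bun 𝒜 ℳ) (bun ℬ 𝒩) :=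
  TensorProduct.map (idK 𝒜 ℳ) (idK ℬ 𝒩)

/-- the identification of the two tensor products, backwards -/
noncomputable def Jinv : Amb (bun 𝒜 ℳ) (bun ℬ 𝒩) →ₗ[k] M ⊗[k] N :=
  TensorProduct.map (idK' 𝒜 ℳ) (idK' ℬ 𝒩)

lemma Jmap_tmul (m : M) (n : N) :
    Jmap 𝒜 ℬ ℳ 𝒩 (m ⊗ₜ[k] n) = ofM 𝒜 ℳ m ⊗ₜ[k] ofM ℬ 𝒩 n := rfl

lemma Jinv_tmul (m : (bun 𝒜 ℳ).carrier) (n : (bun ℬ 𝒩).carrier) :
    Jinv 𝒜 ℬ ℳ 𝒩 (m ⊗ₜ[k] n) = toM 𝒜 ℳ m ⊗ₜ[k] toM ℬ 𝒩 n := rfl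

lemma Jinv_Jmap (w : M ⊗[k] N) : Jinv 𝒜 ℬ ℳ 𝒩 (Jmap 𝒜 ℬ ℳ 𝒩 w) = w := by
  induction w using TensorProduct.induction_on with
  | zero => rw [map_zero, map_zero]
  | tmul m n => rfl
  | add a b ha hb => rw [map_add, map_add, ha, hb]

lemma Jmap_Jinv (w : Amb (bun 𝒜 ℳ) (bun ℬ 𝒩)) : Jmap 𝒜 ℬ ℳ 𝒩 (Jinv 𝒜 ℬ ℳ 𝒩 w) = w := by
  induction w using TensorProduct.induction_on with
  | zero => rw [map_zero, map_zero]
  | tmul m n => rfl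
  | add a b ha hb => rw [map_add, map_add, ha, hb]

lemma Jmap_act (z : R ⊗[k] S) (w : M ⊗[k] N) :
    Jmap 𝒜 ℬ ℳ 𝒩 (GrSeg.act k R S M N z w) =
      GrSeg.act k R S (bun 𝒜 ℳ).carrier (bun ℬ 𝒩).carrier z (Jmap 𝒜 ℬ ℳ 𝒩 w) := by
  induction z using TensorProduct.induction_on with
  | zero => simp
  | add a b ha hb =>
    rw [map_add, LinearMap.add_apply, map_add, ha, hb, map_add, LinearMap.add_apply]
  | tmul r s =>
    induction w using TensorProduct.induction_on with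
    | zero => simp
    | add a b ha hb => rw [map_add, map_add, ha, hb, map_add, map_add]
    | tmul m n =>
      rw [GrSeg.act_tmul, Jmap_tmul, Jmap_tmul, GrSeg.act_tmul]
      rfl

lemma Jmap_mem_piece {d : ℤ} {w : M ⊗[k] N} (hw : w ∈ GrSeg.segrePiece k ℳ 𝒩 d) :
    Jmap 𝒜 ℬ ℳ 𝒩 w ∈ piece (bun 𝒜 ℳ) (bun ℬ 𝒩) d := by
  have h1 : GrSeg.segrePiece k ℳ 𝒩 d ≤
      (piece (bun 𝒜 ℳ) (bun ℬ 𝒩) d).comap (Jmap 𝒜 ℬ ℳ 𝒩) := by
    apply segrePiece_le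
    intro a ha b hb
    rw [Submodule.mem_comap, Jmap_tmul]
    exact tmul_mem_piece (bun 𝒜 ℳ) (bun ℬ 𝒩) ha hb
  exact h1 hw

lemma Jinv_mem_piece {d : ℤ} {a : Amb (bun 𝒜 ℳ) (bun ℬ 𝒩)}
    (ha : a ∈ piece (bun 𝒜 ℳ) (bun ℬ 𝒩) d) :
    Jinv 𝒜 ℬ ℳ 𝒩 a ∈ GrSeg.segrePiece k ℳ 𝒩 d := by
  have h1 : piece (bun 𝒜 ℳ) (bun ℬ 𝒩) d ≤
      (GrSeg.segrePiece k ℳ 𝒩 d).comap (Jinv 𝒜 ℬ ℳ 𝒩) := by
    apply segrePiece_le
    intro a ha b hb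
    rw [Submodule.mem_comap, Jinv_tmul]
    exact tmul_mem_segrePiece ℳ 𝒩 ha hb
  exact h1 ha

include hP in
lemma map_mem_segrePiece_of_mem {d : ℤ} {p : P} (hp : p ∈ 𝒬 d) :
    φ p ∈ GrSeg.segrePiece k ℳ 𝒩 d := by
  have h := hP.image_piece d
  rw [Set.ext_iff] at h
  exact (h _).mp ⟨p, hp, rfl⟩

include hP in
lemma exists_of_mem_segrePiece {d : ℤ} {w : M ⊗[k] N} (hw : w ∈ GrSeg.segrePiece k ℳ 𝒩 d) :
    ∃ p ∈ 𝒬 d, φ p = w := by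
  have h := hP.image_piece d
  rw [Set.ext_iff] at h
  obtain ⟨p, hp, hpw⟩ := (h w).mpr hw
  exact ⟨p, hp, hpw⟩

include hP in
lemma Jφ_mem_segSub (p : P) : Jmap 𝒜 ℬ ℳ 𝒩 (φ p) ∈ segSub (bun 𝒜 ℳ) (bun ℬ 𝒩) := by
  classical
  rw [← DirectSum.sum_support_decompose 𝒬 p, map_sum, map_sum]
  refine Submodule.sum_mem _ (fun d _ => ?_)
  apply piece_le_segSub _ _ d
  apply Jmap_mem_piece
  exact map_mem_segrePiece_of_mem ψ ℳ 𝒩 𝒬 φ hP (decompose 𝒬 p d).2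

/-- the abstract Segre product is the concrete one -/
noncomputable def segIso :
    (bun 𝒯 𝒬).carrier →ₗ[T] (SegM ψ hT (bun 𝒜 ℳ) (bun ℬ 𝒩)).carrier where
  toFun := fun p => mkM ψ hT (Jmap 𝒜 ℬ ℳ 𝒩 (φ (toM 𝒯 𝒬 p)))
    (Jφ_mem_segSub 𝒜 ℬ ψ ℳ 𝒩 𝒬 φ hP (toM 𝒯 𝒬 p))
  map_add' := by
    intro p p'
    apply valM_injective ψ hT
    rw [valM_add, valM_mkM, valM_mkM, valM_mkM,
      show toM 𝒯 𝒬 (p + p') = toM 𝒯 𝒬 p + toM 𝒯 𝒬 p' from rfl, map_add, map_add]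
  map_smul' := by
    intro t p
    apply valM_injective ψ hT
    rw [RingHom.id_apply, valM_smul, valM_mkM, valM_mkM,
      show toM 𝒯 𝒬 (t • p) = t • toM 𝒯 𝒬 p from rfl, hP.map_smul, Jmap_act]

lemma valM_segIso (p : (bun 𝒯 𝒬).carrier) :
    valM ψ hT (segIso 𝒜 ℬ ψ hT ℳ 𝒩 𝒬 φ hP p) = Jmap 𝒜 ℬ ℳ 𝒩 (φ (toM 𝒯 𝒬 p)) := rfl

lemma segIso_gr : GrLC.IsGrHom (bun 𝒯 𝒬).gr (SegM ψ hT (bun 𝒜 ℳ) (bun ℬ 𝒩)).gr
    (segIso 𝒜 ℬ ψ hT ℳ 𝒩 𝒬 φ hP) := by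
  intro d p hp
  show valM ψ hT (segIso 𝒜 ℬ ψ hT ℳ 𝒩 𝒬 φ hP p) ∈ piece (bun 𝒜 ℳ) (bun ℬ 𝒩) d
  rw [valM_segIso]
  apply Jmap_mem_piece
  exact map_mem_segrePiece_of_mem ψ ℳ 𝒩 𝒬 φ hP hp

lemma segIso_bijective : Function.Bijective (segIso 𝒜 ℬ ψ hT ℳ 𝒩 𝒬 φ hP) := by
  constructor
  · intro p p' h
    have h1 := congrArg (valM ψ hT) h
    rw [valM_segIso, valM_segIso] at h1
    have h2 := congrArg (Jinv 𝒜 ℬ ℳ 𝒩) h1
    rw [Jinv_Jmap, Jinv_Jmap] at h2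
    exact hP.injective h2
  · intro w
    have key : ∀ a : Amb (bun 𝒜 ℳ) (bun ℬ 𝒩), a ∈ segSub (bun 𝒜 ℳ) (bun ℬ 𝒩) →
        ∃ p : P, Jmap 𝒜 ℬ ℳ 𝒩 (φ p) = a := by
      intro a ha
      unfold segSub at ha
      induction ha using Submodule.iSup_induction' with
      | mem d a ha' =>
        obtain ⟨p, _, hp⟩ := exists_of_mem_segrePiece ψ ℳ 𝒩 𝒬 φ hP
          (Jinv_mem_piece 𝒜 ℬ ℳ 𝒩 ha')
        exact ⟨p, by rw [hp, Jmap_Jinv]⟩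
      | zero => exact ⟨0, by rw [map_zero, map_zero]⟩
      | add x y _ _ hx hy =>
        obtain ⟨p1, h1⟩ := hx
        obtain ⟨p2, h2⟩ := hy
        exact ⟨p1 + p2, by rw [map_add, map_add, h1, h2]⟩
    obtain ⟨p, hp⟩ := key _ (valM_mem ψ hT w)
    refine ⟨ofM 𝒯 𝒬 p, ?_⟩
    apply valM_injective ψ hT
    rw [valM_segIso, toM_ofM, hp]

/-- the abstract Segre product is the concrete one, as an isomorphism -/
noncomputable def segEquiv :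
    (bun 𝒯 𝒬).carrier ≃ₗ[T] (SegM ψ hT (bun 𝒜 ℳ) (bun ℬ 𝒩)).carrier :=
  LinearEquiv.ofBijective (segIso 𝒜 ℬ ψ hT ℳ 𝒩 𝒬 φ hP) (segIso_bijective 𝒜 ℬ ψ hT ℳ 𝒩 𝒬 φ hP)

lemma segEquiv_gr : GrLC.IsGrHom (bun 𝒯 𝒬).gr (SegM ψ hT (bun 𝒜 ℳ) (bun ℬ 𝒩)).gr
    (segEquiv 𝒜 ℬ ψ hT ℳ 𝒩 𝒬 φ hP).toLinearMap :=
  segIso_gr 𝒜 ℬ ψ hT ℳ 𝒩 𝒬 φ hP

end Transfer

end Groth.Agent.Lib.Helper6.SegK
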