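import Mathlib
import Groth.Prelude.Def_GrLC
import Groth.Prelude.Def_GrSeg
import Groth.Agent.Lib.Helper6.SegK.SKq

set_option autoImplicit false
set_option linter.unusedSectionVars false
set_option linter.unusedVariables false
set_option linter.unusedSimpArgs false
set_option linter.style.haveILetI false
set_option maxHeartbeats 400000

/-!
# The Künneth formula for Segre products: the final assembly (helper6)
-/

universe u

namespace Groth.Agent.Lib.Helper6.SegK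

open scoped TensorProduct
open CategoryTheory DirectSum Groth.Agent.Helper9.GrLCLib Groth.Agent.Helper9.GrLCLib.Trans
open Groth.Agent.Helper8.LC Groth.Agent.Lib.Helper6.CMReg Groth.Agent.Helper9.SegreLib

section Prelim

variable {k : Type u} [Field k] {R S T : Type u} [CommRing R] [CommRing S] [CommRing T]
  [Algebra k R] [Algebra k S] [Algebra k T]
  {𝒜 : ℤ → Submodule k R} {ℬ : ℤ → Submodule k S} {𝒯 : ℤ → Submodule k T}
  [GradedAlgebra 𝒜] [GradedAlgebra ℬ] [GradedAlgebra 𝒯]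

lemma h0_of_span (h0R : 𝒜 0 = Submodule.span k {(1 : R)}) :
    ∀ r ∈ 𝒜 0, ∃ c : k, algebraMap k R c = r := by
  intro r hr
  rw [h0R, Submodule.mem_span_singleton] at hr
  obtain ⟨c, rfl⟩ := hr
  exact ⟨c, Algebra.algebraMap_eq_smul_one c⟩

lemma nontrivial_tensor [Nontrivial R] [Nontrivial S] : Nontrivial (R ⊗[k] S) :=
  Algebra.TensorProduct.nontrivial_of_algebraMap_injective_of_flat_left (R := k) (A := R) (B := S)
    (algebraMap k S).injective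

lemma nontrivial_of_segre [Nontrivial R] [Nontrivial S] (ψ : T →ₐ[k] R ⊗[k] S) :
    Nontrivial T := by
  haveI := nontrivial_tensor (k := k) (R := R) (S := S)
  refine nontrivial_of_ne (1 : T) 0 (fun h => ?_)
  have h1 := congrArg ψ h
  rw [map_one, map_zero] at h1
  exact one_ne_zero h1

lemma h0T_of_segre (ψ : T →ₐ[k] R ⊗[k] S) (hT : GrSeg.IsSegreRing 𝒜 ℬ 𝒯 ψ)
    (h0R : 𝒜 0 = Submodule.span k {(1 : R)}) (h0S : ℬ 0 = Submodule.span k {(1 : S)}) :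
    ∀ t ∈ 𝒯 0, ∃ c : k, algebraMap k T c = t := by
  intro t ht
  have h1 : ψ t ∈ GrSeg.segrePiece k 𝒜 ℬ 0 := by
    rw [← hT.2 0]
    exact Submodule.mem_map_of_mem (f := ψ.toLinearMap) ht
  have h2 : GrSeg.segrePiece k 𝒜 ℬ 0 ≤ Submodule.span k {(1 : R ⊗[k] S)} := by
    unfold GrSeg.segrePiece
    rw [Submodule.span_le]
    rintro x ⟨a, ha, b, hb, rfl⟩
    rw [h0R, Submodule.mem_span_singleton] at ha
    rw [h0S, Submodule.mem_span_singleton] at hb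
    obtain ⟨c, rfl⟩ := ha
    obtain ⟨c', rfl⟩ := hb
    rw [SetLike.mem_coe, Submodule.mem_span_singleton]
    refine ⟨c * c', ?_⟩
    rw [TensorProduct.smul_tmul_smul, Algebra.TensorProduct.one_def]
  obtain ⟨c, hc⟩ := Submodule.mem_span_singleton.mp (h2 h1)
  refine ⟨c, hT.1 ?_⟩
  rw [AlgHom.commutes, ← hc, Algebra.algebraMap_eq_smul_one]

lemma act_self_eq_mul (z w : R ⊗[k] S) : GrSeg.act k R S R S z w = z * w := by
  induction z using TensorProduct.induction_on with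
  | zero => rw [map_zero, LinearMap.zero_apply, zero_mul]
  | add a b ha hb => rw [map_add, LinearMap.add_apply, ha, hb, add_mul]
  | tmul r s =>
    induction w using TensorProduct.induction_on with
    | zero => rw [map_zero, mul_zero]
    | add a b ha hb => rw [map_add, ha, hb, mul_add]
    | tmul m n =>
      rw [GrSeg.act_tmul, Algebra.TensorProduct.tmul_mul_tmul, smul_eq_mul, smul_eq_mul]

lemma isSegreMod_self (ψ : T →ₐ[k] R ⊗[k] S) (hT : GrSeg.IsSegreRing 𝒜 ℬ 𝒯 ψ) :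
    GrSeg.IsSegreMod ψ 𝒜 ℬ 𝒯 ψ.toLinearMap where
  injective := hT.1
  image_piece := fun n => by
    rw [← hT.2 n, Submodule.map_coe]
  map_smul := fun t p => by
    rw [act_self_eq_mul]
    exact map_mul ψ t p

end Prelim

section Assembly

variable {k : Type u} [Field k] {R S T : Type u} [CommRing R] [CommRing S] [CommRing T]
  [Algebra k R] [Algebra k S] [Algebra k T] [IsNoetherianRing R] [IsNoetherianRing S]
  [IsNoetherianRing T] [Nontrivial R] [Nontrivial S] [Nontrivial T]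
  (𝒜 : ℤ → Submodule k R) (ℬ : ℤ → Submodule k S) (𝒯 : ℤ → Submodule k T)
  [GradedAlgebra 𝒜] [GradedAlgebra ℬ] [GradedAlgebra 𝒯]
  (ψ : T →ₐ[k] R ⊗[k] S) (hT : GrSeg.IsSegreRing 𝒜 ℬ 𝒯 ψ)
  (h0R : ∀ r ∈ 𝒜 0, ∃ c : k, algebraMap k R c = r)
  (h0S : ∀ r ∈ ℬ 0, ∃ c : k, algebraMap k S c = r)
  (h0T : ∀ r ∈ 𝒯 0, ∃ c : k, algebraMap k T c = r)
  (mR : HomogeneousIdeal 𝒜)
  (hmR : mR.toIdeal = Ideal.span (⋃ n ∈ Set.Ioi (0 : ℤ), (𝒜 n : Set R)))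
  (mS : HomogeneousIdeal ℬ)
  (hmS : mS.toIdeal = Ideal.span (⋃ n ∈ Set.Ioi (0 : ℤ), (ℬ n : Set S)))
  (mT : HomogeneousIdeal 𝒯)
  (hmT : mT.toIdeal = Ideal.span (⋃ n ∈ Set.Ioi (0 : ℤ), (𝒯 n : Set T)))
  {M : Type u} [AddCommGroup M] [Module R M] [Module k M] [IsScalarTower k R M]
  {τM : Type u} [SetLike τM M] [AddSubgroupClass τM M]
  (ℳ : ℤ → τM) [DirectSum.Decomposition ℳ] [SetLike.GradedSMul 𝒜 ℳ] [Module.Finite R M]
  (EM : GrLC.StarInjRes 𝒜 ℳ)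
  {N : Type u} [AddCommGroup N] [Module S N] [Module k N] [IsScalarTower k S N]
  {τN : Type u} [SetLike τN N] [AddSubgroupClass τN N]
  (𝒩 : ℤ → τN) [DirectSum.Decomposition 𝒩] [SetLike.GradedSMul ℬ 𝒩] [Module.Finite S N]
  (EN : GrLC.StarInjRes ℬ 𝒩)
  {P : Type u} [AddCommGroup P] [Module T P] [Module k P] [IsScalarTower k T P]
  {τQ : Type u} [SetLike τQ P] [AddSubgroupClass τQ P]
  (𝒬 : ℤ → τQ) [DirectSum.Decomposition 𝒬] [SetLike.GradedSMul 𝒯 𝒬]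
  (φ : P →ₗ[k] M ⊗[k] N) (hP : GrSeg.IsSegreMod ψ ℳ 𝒩 𝒬 φ)
  (EP : GrLC.StarInjRes 𝒯 𝒬)

include hT h0R h0S h0T hmR hmS hmT hP in
/-- **the Künneth formula for the graded local cohomology of a Segre product of modules**, degree
by degree, in terms of *injective resolutions -/
theorem finrank_hcomp_segre (d : ℤ) (hM : ∀ q : ℕ, q ≤ 1 → EM.Hcomp mR q d = ⊥)
    (hN : ∀ q : ℕ, q ≤ 1 → EN.Hcomp mS q d = ⊥) (q : ℕ) :
    Module.finrank (GrLC.deg0 𝒯) (EP.Hcomp mT q d) =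
      Module.finrank (GrLC.deg0 𝒜) (GrLC.comp 𝒜 ℳ d) *
          Module.finrank (GrLC.deg0 ℬ) (EN.Hcomp mS q d) +
        Module.finrank (GrLC.deg0 𝒜) (EM.Hcomp mR q d) *
          Module.finrank (GrLC.deg0 ℬ) (GrLC.comp ℬ 𝒩 d) +
        (Finset.range (q + 2)).sum (fun i => Module.finrank (GrLC.deg0 𝒜) (EM.Hcomp mR i d) *
          Module.finrank (GrLC.deg0 ℬ) (EN.Hcomp mS (q + 1 - i) d)) := by
  haveI : Module.Finite R (bun 𝒜 ℳ).carrier := ‹Module.Finite R M›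
  haveI : Module.Finite S (bun ℬ 𝒩).carrier := ‹Module.Finite S N›
  have key := seg_kunneth_lcp ψ hT h0R h0S h0T (bun 𝒜 ℳ) (bun ℬ 𝒩) (idealToAG 𝒜 mR) hmR
    (idealToAG ℬ mS) hmS (idealToAG 𝒯 mT) hmT d
    ((van_toAG_iff_hcomp 𝒜 ℳ EM mR 0 d).mpr (hM 0 (by omega)))
    ((van_toAG_iff_hcomp 𝒜 ℳ EM mR 1 d).mpr (hM 1 le_rfl))
    ((van_toAG_iff_hcomp ℬ 𝒩 EN mS 0 d).mpr (hN 0 (by omega)))
    ((van_toAG_iff_hcomp ℬ 𝒩 EN mS 1 d).mpr (hN 1 le_rfl)) q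
  have e1 : Module.finrank (GrLC.deg0 𝒯) (EP.Hcomp mT q d) =
      Module.finrank (GrLC.deg0 (toAG 𝒯))
        (LCp (idealToAG 𝒯 mT) (SegM ψ hT (bun 𝒜 ℳ) (bun ℬ 𝒩)) q d) :=
    (finrank_eq_of_rank_eq (rank_hcomp_eq_lcp 𝒯 𝒬 EP mT q d)).trans
      (piso_of_equiv (idealToAG 𝒯 mT) (bun 𝒯 𝒬) (SegM ψ hT (bun 𝒜 ℳ) (bun ℬ 𝒩))
        (segEquiv 𝒜 ℬ ψ hT ℳ 𝒩 𝒬 φ hP) (segEquiv_gr 𝒜 ℬ ψ hT ℳ 𝒩 𝒬 φ hP)
        (isGrHom_symm _ _ _ (segEquiv_gr 𝒜 ℬ ψ hT ℳ 𝒩 𝒬 φ hP)) q d).finrank_eq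
  have eM : ∀ i : ℕ, Module.finrank (GrLC.deg0 (toAG 𝒜)) (LCp (idealToAG 𝒜 mR) (bun 𝒜 ℳ) i d) =
      Module.finrank (GrLC.deg0 𝒜) (EM.Hcomp mR i d) :=
    fun i => (finrank_eq_of_rank_eq (rank_hcomp_eq_lcp 𝒜 ℳ EM mR i d)).symm
  have eN : ∀ i : ℕ, Module.finrank (GrLC.deg0 (toAG ℬ)) (LCp (idealToAG ℬ mS) (bun ℬ 𝒩) i d) =
      Module.finrank (GrLC.deg0 ℬ) (EN.Hcomp mS i d) :=
    fun i => (finrank_eq_of_rank_eq (rank_hcomp_eq_lcp ℬ 𝒩 EN mS i d)).symm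
  have cM : Module.finrank (GrLC.deg0 (toAG 𝒜)) (GrLC.comp (toAG 𝒜) (bun 𝒜 ℳ).gr d) =
      Module.finrank (GrLC.deg0 𝒜) (GrLC.comp 𝒜 ℳ d) :=
    (finrank_eq_of_rank_eq (rank_comp_eq 𝒜 ℳ d)).symm
  have cN : Module.finrank (GrLC.deg0 (toAG ℬ)) (GrLC.comp (toAG ℬ) (bun ℬ 𝒩).gr d) =
      Module.finrank (GrLC.deg0 ℬ) (GrLC.comp ℬ 𝒩 d) :=
    (finrank_eq_of_rank_eq (rank_comp_eq ℬ 𝒩 d)).symm
  rw [e1, key, cM, cN, eM q, eN q]
  congr 1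
  exact Finset.sum_congr rfl (fun i _ => by rw [eM i, eN (q + 1 - i)])

end Assembly

section Ring

variable {k : Type u} [Field k] {R S T : Type u} [CommRing R] [CommRing S] [CommRing T]
  [Algebra k R] [Algebra k S] [Algebra k T] [IsNoetherianRing R] [IsNoetherianRing S]
  [IsNoetherianRing T] [Nontrivial R] [Nontrivial S] [Nontrivial T]
  (𝒜 : ℤ → Submodule k R) (ℬ : ℤ → Submodule k S) (𝒯 : ℤ → Submodule k T)
  [GradedAlgebra 𝒜] [GradedAlgebra ℬ] [GradedAlgebra 𝒯]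
  (ψ : T →ₐ[k] R ⊗[k] S) (hT : GrSeg.IsSegreRing 𝒜 ℬ 𝒯 ψ)
  (h0R : ∀ r ∈ 𝒜 0, ∃ c : k, algebraMap k R c = r)
  (h0S : ∀ r ∈ ℬ 0, ∃ c : k, algebraMap k S c = r)
  (h0T : ∀ r ∈ 𝒯 0, ∃ c : k, algebraMap k T c = r)
  (mR : HomogeneousIdeal 𝒜)
  (hmR : mR.toIdeal = Ideal.span (⋃ n ∈ Set.Ioi (0 : ℤ), (𝒜 n : Set R)))
  (mS : HomogeneousIdeal ℬ)
  (hmS : mS.toIdeal = Ideal.span (⋃ n ∈ Set.Ioi (0 : ℤ), (ℬ n : Set S)))
  (mT : HomogeneousIdeal 𝒯)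
  (hmT : mT.toIdeal = Ideal.span (⋃ n ∈ Set.Ioi (0 : ℤ), (𝒯 n : Set T)))
  (I : GrLC.StarInjRes 𝒜 𝒜) (J : GrLC.StarInjRes ℬ ℬ) (IT : GrLC.StarInjRes 𝒯 𝒯)

include h0R in
lemma finrank_piece_eq_comp (d : ℤ) :
    Module.finrank k (𝒜 d) = Module.finrank (GrLC.deg0 𝒜) (GrLC.comp 𝒜 𝒜 d) :=
  (finrank_eq_of_rank_eq (rank_piece_eq h0R (algebraMap k R).injective d)).trans
    (finrank_eq_of_rank_eq (rank_comp_eq 𝒜 𝒜 d)).symm

include hT h0R h0S h0T hmR hmS hmT in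
/-- **the Künneth formula for the graded local cohomology of a Segre product of rings** -/
theorem finrank_hcomp_segre_ring (d : ℤ) (hR : ∀ q : ℕ, q ≤ 1 → I.Hcomp mR q d = ⊥)
    (hS : ∀ q : ℕ, q ≤ 1 → J.Hcomp mS q d = ⊥) (q : ℕ) :
    Module.finrank (GrLC.deg0 𝒯) (IT.Hcomp mT q d) =
      Module.finrank k (𝒜 d) * Module.finrank (GrLC.deg0 ℬ) (J.Hcomp mS q d) +
        Module.finrank (GrLC.deg0 𝒜) (I.Hcomp mR q d) * Module.finrank k (ℬ d) +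
        (Finset.range (q + 2)).sum (fun i => Module.finrank (GrLC.deg0 𝒜) (I.Hcomp mR i d) *
          Module.finrank (GrLC.deg0 ℬ) (J.Hcomp mS (q + 1 - i) d)) := by
  rw [finrank_piece_eq_comp 𝒜 h0R d, finrank_piece_eq_comp ℬ h0S d]
  exact finrank_hcomp_segre 𝒜 ℬ 𝒯 ψ hT h0R h0S h0T mR hmR mS hmS mT hmT 𝒜 I ℬ J 𝒯
    ψ.toLinearMap (isSegreMod_self ψ hT) IT d hR hS q

end Ring

end Groth.Agent.Lib.Helper6.SegK
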