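import Mathlib
import Groth.Prelude.Def_GrLC
import Groth.Prelude.Def_GrSeg
import Groth.Agent.Lib.Helper6.SegK.SKr

set_option autoImplicit false
set_option linter.unusedSectionVars false
set_option linter.unusedVariables false
set_option linter.unusedSimpArgs false
set_option linter.style.haveILetI false
set_option maxHeartbeats 400000

/-!
# Segre products: the first local cohomology, and vanishing from the Künneth decomposition (helper6)
-/

universe u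

namespace Groth.Agent.Lib.Helper6.SegK

open scoped TensorProduct
open CategoryTheory DirectSum Groth.Agent.Helper9.GrLCLib Groth.Agent.Helper9.GrLCLib.Trans
open Groth.Agent.Helper8.LC Groth.Agent.Lib.Helper6.CMReg

section LinAlg

variable {k : Type u} [Field k] {U V : Type u} [AddCommGroup U] [Module k U] [AddCommGroup V]
  [Module k V]

/-- if `u ⊗ v` with `v ≠ 0` lies in the image of `A ⊗ B`, then `u` lies in the image of `A` -/
lemma mem_range_of_tmul_mem_range_map (A : Module.End k U) (B : Module.End k V) {u : U} {v : V}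
    (hv : v ≠ 0) (h : u ⊗ₜ[k] v ∈ LinearMap.range (TensorProduct.map A B)) :
    u ∈ LinearMap.range A := by
  by_contra hu
  obtain ⟨f, hfu, hf⟩ := Submodule.exists_dual_map_eq_bot_of_notMem hu inferInstance
  have hfA : ∀ x, f (A x) = 0 := by
    intro x
    have h1 : f (A x) ∈ (LinearMap.range A).map f := Submodule.mem_map_of_mem ⟨x, rfl⟩
    rw [hf] at h1
    exact (Submodule.mem_bot k).mp h1
  let G : U ⊗[k] V →ₗ[k] V := TensorProduct.lift ((LinearMap.lsmul k V).comp f)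
  have hG : ∀ x y, G (x ⊗ₜ[k] y) = f x • y := fun x y => by
    show TensorProduct.lift ((LinearMap.lsmul k V).comp f) (x ⊗ₜ[k] y) = _
    rw [TensorProduct.lift.tmul]
    rfl
  have hGz : ∀ w, G (TensorProduct.map A B w) = 0 := by
    intro w
    induction w using TensorProduct.induction_on with
    | zero => rw [map_zero, map_zero]
    | tmul x y => rw [TensorProduct.map_tmul, hG, hfA, zero_smul]
    | add a b ha hb => rw [map_add, map_add, ha, hb, add_zero]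
  obtain ⟨w, hw⟩ := h
  have h2 := hGz w
  rw [hw, hG] at h2
  exact hv ((smul_eq_zero.mp h2).resolve_left hfu)

end LinAlg

namespace KW

variable {k : Type u} [Field k] {U V : Type u} [AddCommGroup U] [Module k U] [AddCommGroup V]
  [Module k V] {GU : DGS k U} {GV : DGS k V} {D' : Module.End k (U ⊗[k] V)}
  (hD' : ∀ w, D' (eW GU GV w) = Dw GU GV w)

include hD' in
/-- the cohomology of the total complex vanishes when each Künneth summand does -/
theorem subsingleton_HWq (n : ℕ)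
    (h : ∀ x ∈ Finset.HasAntidiagonal.antidiagonal n,
      Subsingleton (GU.Hq x.1) ∨ Subsingleton (GV.Hq x.2)) :
    Subsingleton (HWq GU GV D' n) := by
  obtain ⟨SU⟩ := GU.nonempty_sdr
  obtain ⟨SV⟩ := GV.nonempty_sdr
  have hU : ∀ i, Subsingleton (GU.Hq i) → SU.h * GU.p i = 0 := by
    intro i hi
    haveI : Subsingleton ↥(LinearMap.range (SU.h * GU.p i)) :=
      (DGS.HqEquiv SU i).symm.toEquiv.subsingleton
    apply LinearMap.ext
    intro u
    have h1 : (⟨(SU.h * GU.p i) u, ⟨u, rfl⟩⟩ : ↥(LinearMap.range (SU.h * GU.p i))) = 0 :=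
      Subsingleton.elim _ _
    exact congrArg Subtype.val h1
  have hV : ∀ j, Subsingleton (GV.Hq j) → SV.h * GV.p j = 0 := by
    intro j hj
    haveI : Subsingleton ↥(LinearMap.range (SV.h * GV.p j)) :=
      (DGS.HqEquiv SV j).symm.toEquiv.subsingleton
    apply LinearMap.ext
    intro v
    have h1 : (⟨(SV.h * GV.p j) v, ⟨v, rfl⟩⟩ : ↥(LinearMap.range (SV.h * GV.p j))) = 0 :=
      Subsingleton.elim _ _
    exact congrArg Subtype.val h1
  have hz : hw SU SV * Pn GU GV n = 0 := by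
    rw [hw_Pn_eq SU SV n]
    apply Finset.sum_eq_zero
    intro x hx
    rcases h x hx with h1 | h1
    · rw [hU x.1 h1, tm_zero_left]
    · rw [hV x.2 h1, tm_zero_right]
  haveI : Subsingleton ↥(LinearMap.range (hw SU SV * Pn GU GV n)) := by
    constructor
    rintro ⟨a, u, rfl⟩ ⟨b, v, rfl⟩
    apply Subtype.ext
    show (hw SU SV * Pn GU GV n) u = (hw SU SV * Pn GU GV n) v
    rw [hz, LinearMap.zero_apply, LinearMap.zero_apply]
  exact (HWqEquiv SU SV hD' n).toEquiv.subsingleton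

end KW

section Single

variable {k : Type u} [Field k] {R : Type u} [CommRing R] [Algebra k R] [IsNoetherianRing R]
  {𝒜 : ℤ → Submodule k R} [GradedAlgebra 𝒜] {X : GrLC.GMod.{u} (toAG 𝒜)} {xs : List R}
  (K : CPack X xs)
  (a : HomogeneousIdeal (toAG 𝒜)) (ha : a.toIdeal ≤ Ideal.span {y | y ∈ xs})
  (hpos : ∀ e : ℤ, 0 < e → ∀ x ∈ toAG 𝒜 e, x ∈ a.toIdeal)

attribute [local instance] kMod

include ha hpos in
/-- the cohomology of the truncated Čech complex vanishes with the local cohomology -/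
theorem CPack.subsingleton_ddgs_Hq_of_van [Nontrivial R] (d : ℤ) (i : ℕ)
    (h0 : ∀ r ∈ 𝒜 0, ∃ c : k, algebraMap k R c = r)
    (hinj : Function.Injective (algebraMap k R)) (hv : Van a X (i + 2) d) :
    Subsingleton ((K.ddgs d).Hq (i + 2)) := by
  have hr := K.rank_ddgs_Hq a ha hpos d i h0 hinj
  haveI : Subsingleton (LCp a X (i + 2) d) := by
    constructor
    intro x y
    apply Subtype.ext
    rw [hv _ x.2, hv _ y.2]
  rw [rank_subsingleton' (GrLC.deg0 (toAG 𝒜)) (LCp a X (i + 2) d)] at hr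
  exact rank_zero_iff.mp hr

include ha hpos in
/-- vanishing of `H^1` in degree `d`, from the Čech complex -/
theorem CPack.van_one_of_H1 (d : ℤ)
    (H1 : ∀ u : K.T.carrier, u ∈ K.T.gr d → K.p 1 u = u → K.D u = 0 →
      ∃ u0 : K.T.carrier, u0 ∈ K.T.gr d ∧ K.p 0 u0 = u0 ∧ K.D u0 = u) :
    Van a X 1 d := by
  intro z hz
  obtain ⟨e⟩ := (K.toCoPack a ha hpos).piso_pos 1 le_rfl d
  have key : ∀ y : ((K.toCoPack a ha hpos).Hm 1).carrier,
      y ∈ ((K.toCoPack a ha hpos).Hm 1).gr d → y = 0 := by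
    intro y hy
    obtain ⟨m, hm, rfl⟩ : ∃ m ∈ (subGMod K.T _ ((K.toCoPack a ha hpos).Z_hom 1)).gr d,
        sqMap K.T _ _ ((K.toCoPack a ha hpos).B_hom 1) ((K.toCoPack a ha hpos).Z_hom 1) m = y := hy
    refine (sqMap_eq_zero_iff _ _ _ _ _ _).mpr ?_
    have hmZ : subMap K.T _ ((K.toCoPack a ha hpos).Z_hom 1) m ∈
        K.C 1 ⊓ LinearMap.ker K.D := subMap_mem _ _ _ m
    have hmg : subMap K.T _ ((K.toCoPack a ha hpos).Z_hom 1) m ∈ K.T.gr d :=
      (mem_subGMod_gr _ _ _ d m).mp hm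
    obtain ⟨hC, hD⟩ := Submodule.mem_inf.mp hmZ
    obtain ⟨u0, hu0d, hu0p, hu0D⟩ := H1 _ hmg (K.p_of_mem hC) (LinearMap.mem_ker.mp hD)
    exact ⟨u0, ⟨u0, hu0p⟩, hu0D⟩
  have hy : e ⟨z, hz⟩ = 0 := Subtype.ext (key _ (e ⟨z, hz⟩).2)
  have hz0 : (⟨z, hz⟩ : LCp a X 1 d) = 0 := by
    rw [← e.symm_apply_apply ⟨z, hz⟩, hy, map_zero]
  exact congrArg Subtype.val hz0

/-- the term of degree zero of the Čech complex vanishes in the degrees where the module does -/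
lemma CPack.eq_zero_of_p0 (d : ℤ) (hX : ∀ x : X.carrier, x ∈ X.gr d → x = 0)
    (v0 : K.T.carrier) (hv0d : v0 ∈ K.T.gr d) (hv0p : K.p 0 v0 = v0) : v0 = 0 := by
  have h1 : K.ret v0 = 0 := hX _ (K.ret_gr d v0 hv0d)
  have h2 := K.φ_ret v0
  rw [h1, map_zero, hv0p] at h2
  exact h2.symm

/-- when `H^1` vanishes in degree `d` and the module is zero in degree `d`, there are no cocycles
of cohomological degree one in degree `d` -/
lemma CPack.Z1_zero (d : ℤ) (hX : ∀ x : X.carrier, x ∈ X.gr d → x = 0)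
    (H1 : ∀ u : K.T.carrier, u ∈ K.T.gr d → K.p 1 u = u → K.D u = 0 →
      ∃ u0 : K.T.carrier, u0 ∈ K.T.gr d ∧ K.p 0 u0 = u0 ∧ K.D u0 = u)
    (v : K.T.carrier) (hvd : v ∈ K.T.gr d) (hvp : K.p 1 v = v) (hvD : K.D v = 0) : v = 0 := by
  obtain ⟨v0, hv0d, hv0p, hv0D⟩ := H1 v hvd hvp hvD
  rw [← hv0D, K.eq_zero_of_p0 d hX v0 hv0d hv0p, map_zero]

end Single

section SegDim

open Groth.Agent.Helper9.SegreLib

variable {k : Type u} [Field k] {R S T : Type u} [CommRing R] [CommRing S] [CommRing T]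
  [Algebra k R] [Algebra k S] [Algebra k T] [IsNoetherianRing R] [IsNoetherianRing S]
  [IsNoetherianRing T]
  {𝒜 : ℤ → Submodule k R} {ℬ : ℤ → Submodule k S} {𝒯 : ℤ → Submodule k T}
  [GradedAlgebra 𝒜] [GradedAlgebra ℬ] [GradedAlgebra 𝒯]
  (ψ : T →ₐ[k] R ⊗[k] S) (hT : GrSeg.IsSegreRing 𝒜 ℬ 𝒯 ψ)
  {XM : GrLC.GMod.{u} (toAG 𝒜)} {XN : GrLC.GMod.{u} (toAG ℬ)} {xs : List R} {ys : List S}
  (KM : CPack XM xs) (KN : CPack XN ys)

attribute [local instance] kMod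

/-- a homogeneous cocycle of degree one of the total complex vanishes when the second factor has no
cocycles of degree one in this degree -/
theorem amb_zero_of_Z1 (d : ℤ)
    (ZN : ∀ v : KN.T.carrier, v ∈ KN.T.gr d → KN.p 1 v = v → KN.D v = 0 → v = 0)
    (a : Amb KM.T KN.T) (had : a ∈ piece KM.T KN.T d)
    (haQ : a ∈ LinearMap.range (Qamb KM KN 1)) (haD : Damb KM KN a = 0) : a = 0 := by
  have hPa : PiK KM.T KN.T d a = a := PiK_of_mem_piece _ _ had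
  obtain ⟨a', ha'⟩ := haQ
  have hz : a ∈ KW.Zw (KM.ddgs d) (KN.ddgs d) (Damb KM KN) 2 := by
    refine ⟨LinearMap.mem_ker.mpr haD, a', ?_⟩
    rw [Pn_ddgs', Module.End.mul_apply]
    show PiK KM.T KN.T d (Qamb KM KN 1 a') = a
    rw [ha', hPa]
  obtain ⟨b, hb, hab⟩ := KW.exists_decomp (Damb_eW_ddgs KM KN d) hz
  obtain ⟨_, ⟨w', rfl⟩, rfl⟩ := hb
  have hb0 : Damb KM KN (KW.Pnm (KM.ddgs d) (KN.ddgs d) 2 w') = 0 := by
    show Damb KM KN (KW.Pn (KM.ddgs d) (KN.ddgs d) 1 w') = 0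
    rw [KW.Pn_one_eq_zero _ _ (KM.ddgs_p_zero d) (KN.ddgs_p_zero d), LinearMap.zero_apply,
      map_zero]
  rw [hb0, sub_zero] at hab
  have hle : Submodule.span k {w | ∃ (i j : ℕ) (u : KM.T.carrier) (v : KN.T.carrier),
      i + j = 2 ∧ u ∈ (KM.ddgs d).Z i ∧ v ∈ (KN.ddgs d).Z j ∧ w = u ⊗ₜ[k] v} ≤
      (⊥ : Submodule k (Amb KM.T KN.T)) := by
    rw [Submodule.span_le]
    rintro _ ⟨i, j, u, v, hij, hu, hv, rfl⟩
    cases i with
    | zero =>
      rw [KM.ddgs_Z_zero hu, TensorProduct.zero_tmul]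
      exact Submodule.zero_mem _
    | succ i1 =>
      cases j with
      | zero =>
        rw [KN.ddgs_Z_zero hv, TensorProduct.tmul_zero]
        exact Submodule.zero_mem _
      | succ j1 =>
        have hj0 : j1 = 0 := by omega
        subst hj0
        obtain ⟨hvd, hvp, hvD⟩ := KN.mem_ddgs_Z_succ.mp hv
        rw [ZN v hvd hvp hvD, TensorProduct.tmul_zero]
        exact Submodule.zero_mem _
  exact (Submodule.mem_bot k).mp (hle hab)

variable (hxs : ∀ e : ℤ, 0 < e → ∀ x ∈ toAG 𝒜 e, x ∈ Ideal.span {y | y ∈ xs})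
  (hys : ∀ e : ℤ, 0 < e → ∀ y ∈ toAG ℬ e, y ∈ Ideal.span {y' | y' ∈ ys})
  (aT : HomogeneousIdeal (toAG 𝒯))
  (haG : aT.toIdeal ≤
    Ideal.span {t : T | ∃ e : ℤ, 0 < e ∧ ∃ x ∈ 𝒜 e, ∃ y ∈ ℬ e, ψ t = x ⊗ₜ[k] y})
  (hposT : ∀ e : ℤ, 0 < e → ∀ t ∈ toAG 𝒯 e, t ∈ aT.toIdeal)

include KM hxs hys haG hposT in
theorem seg_van_one_of_Z1 (d : ℤ)
    (ZN : ∀ v : KN.T.carrier, v ∈ KN.T.gr d → KN.p 1 v = v → KN.D v = 0 → v = 0) :
    Van aT (SegM ψ hT XM XN) 1 d := by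
  intro z hz
  obtain ⟨e⟩ := (segCoPack ψ hT KM KN hxs hys aT haG hposT).piso_pos 1 le_rfl d
  have key : ∀ y : ((segCoPack ψ hT KM KN hxs hys aT haG hposT).Hm 1).carrier,
      y ∈ ((segCoPack ψ hT KM KN hxs hys aT haG hposT).Hm 1).gr d → y = 0 := by
    intro y hy
    obtain ⟨m, hm, rfl⟩ : ∃ m ∈ (subGMod (SegM ψ hT KM.T KN.T) _
        ((segCoPack ψ hT KM KN hxs hys aT haG hposT).Z_hom 1)).gr d,
        sqMap (SegM ψ hT KM.T KN.T) _ _
          ((segCoPack ψ hT KM KN hxs hys aT haG hposT).B_hom 1)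
          ((segCoPack ψ hT KM KN hxs hys aT haG hposT).Z_hom 1) m = y := hy
    refine (sqMap_eq_zero_iff _ _ _ _ _ _).mpr ?_
    have hmZ : subMap (SegM ψ hT KM.T KN.T) _
        ((segCoPack ψ hT KM KN hxs hys aT haG hposT).Z_hom 1) m ∈
        CS ψ hT KM KN 1 ⊓ LinearMap.ker (DS ψ hT KM KN) := subMap_mem _ _ _ m
    have hmg : subMap (SegM ψ hT KM.T KN.T) _
        ((segCoPack ψ hT KM KN hxs hys aT haG hposT).Z_hom 1) m ∈
        (SegM ψ hT KM.T KN.T).gr d := (mem_subGMod_gr _ _ _ d m).mp hm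
    obtain ⟨hC, hD⟩ := Submodule.mem_inf.mp hmZ
    have haQ : valM ψ hT (subMap (SegM ψ hT KM.T KN.T) _
        ((segCoPack ψ hT KM KN hxs hys aT haG hposT).Z_hom 1) m) ∈
        LinearMap.range (Qamb KM KN 1) := by
      obtain ⟨w, hw⟩ := hC
      exact ⟨valM ψ hT w, by rw [← hw]; rfl⟩
    have haD : Damb KM KN (valM ψ hT (subMap (SegM ψ hT KM.T KN.T) _
        ((segCoPack ψ hT KM KN hxs hys aT haG hposT).Z_hom 1) m)) = 0 := by
      have h := congrArg (valM ψ hT) (LinearMap.mem_ker.mp hD)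
      rw [valM_DS, valM_zero] at h
      exact h
    have h0 := amb_zero_of_Z1 KM KN d ZN _ hmg haQ haD
    refine ⟨0, Submodule.zero_mem _, ?_⟩
    rw [map_zero]
    apply valM_injective ψ hT
    exact h0.symm
  have hy : e ⟨z, hz⟩ = 0 := Subtype.ext (key _ (e ⟨z, hz⟩).2)
  have hz0 : (⟨z, hz⟩ : LCp aT (SegM ψ hT XM XN) 1 d) = 0 := by
    rw [← e.symm_apply_apply ⟨z, hz⟩, hy, map_zero]
  exact congrArg Subtype.val hz0

include hxs hys haG hposT in
/-- the local cohomology of the Segre product in cohomological degrees at least two vanishes in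
the degrees where each Künneth summand does -/
theorem seg_finrank_zero_of_subsingleton (d : ℤ) (q' : ℕ)
    (h0T : ∀ r ∈ 𝒯 0, ∃ c : k, algebraMap k T c = r)
    (hinjT : Function.Injective (algebraMap k T))
    (h : ∀ x ∈ Finset.HasAntidiagonal.antidiagonal (q' + 3),
      Subsingleton ((KM.ddgs d).Hq x.1) ∨ Subsingleton ((KN.ddgs d).Hq x.2)) :
    Module.finrank (GrLC.deg0 (toAG 𝒯)) (LCp aT (SegM ψ hT XM XN) (q' + 2) d) = 0 := by
  have hr := seg_rank ψ hT KM KN hxs hys aT haG hposT d q' h0T hinjT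
  haveI := KW.subsingleton_HWq (Damb_eW_ddgs KM KN d) (q' + 3) h
  rw [finrank_eq_of_rank_eq hr]
  exact Module.finrank_zero_of_subsingleton

include hxs hys haG hposT in
/-- if `H^1` of the Segre product vanishes in degree `d` and the second factor is nonzero in degree
`d`, then `H^1` of the first factor vanishes in degree `d` -/
theorem seg_H1_of_van_one (d : ℤ) (hv : Van aT (SegM ψ hT XM XN) 1 d)
    (H0N : ∀ v : KN.T.carrier, v ∈ KN.T.gr d → KN.p 0 v = v → KN.D v = 0 → v = 0)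
    (v0 : KN.T.carrier) (hv0d : v0 ∈ KN.T.gr d) (hv0p : KN.p 0 v0 = v0) (hv0 : v0 ≠ 0)
    (u : KM.T.carrier) (hud : u ∈ KM.T.gr d) (hup : KM.p 1 u = u) (huD : KM.D u = 0) :
    ∃ u0 : KM.T.carrier, u0 ∈ KM.T.gr d ∧ KM.p 0 u0 = u0 ∧ KM.D u0 = u := by
  have hvne : KN.D v0 ≠ 0 := fun h => hv0 (H0N v0 hv0d hv0p h)
  have hvd : KN.D v0 ∈ KN.T.gr d := KN.D_gr d _ hv0d
  have hvp : KN.p 1 (KN.D v0) = KN.D v0 := by
    rw [← KN.D_p 0 v0, hv0p]
  have hvD : KN.D (KN.D v0) = 0 := KN.D_D v0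
  have had : u ⊗ₜ[k] KN.D v0 ∈ piece KM.T KN.T d := tmul_mem_piece KM.T KN.T hud hvd
  have has : u ⊗ₜ[k] KN.D v0 ∈ segSub KM.T KN.T := piece_le_segSub _ _ _ had
  have haQ : Qamb KM KN 1 (u ⊗ₜ[k] KN.D v0) = u ⊗ₜ[k] KN.D v0 := by
    rw [Qamb_one]
    show KM.pk 1 u ⊗ₜ[k] KN.pk 1 (KN.D v0) = _
    rw [show KM.pk 1 u = u from hup, show KN.pk 1 (KN.D v0) = KN.D v0 from hvp]
  have haD : Damb KM KN (u ⊗ₜ[k] KN.D v0) = 0 := by
    unfold Damb KW.Dw Aamb
    rw [LinearMap.add_apply, LinearMap.add_apply]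
    show KM.tdgs.D u ⊗ₜ[k] KN.tdgs.e (KN.D v0) + KM.tdgs.ε u ⊗ₜ[k] KN.tdgs.D (KN.D v0) +
      (KM.Dk * KM.pk 0) u ⊗ₜ[k] (KN.Dk * KN.pk 0) (KN.D v0) = 0
    rw [KM.tD_of_pk_succ hup, huD, TensorProduct.zero_tmul, zero_add, KN.tD_of_pk_succ hvp, hvD,
      TensorProduct.tmul_zero, zero_add, Module.End.mul_apply, KM.pk0_of_pk_succ hup, map_zero,
      TensorProduct.zero_tmul]
  obtain ⟨e⟩ := (segCoPack ψ hT KM KN hxs hys aT haG hposT).piso_pos 1 le_rfl d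
  have hwZ : mkM ψ hT (u ⊗ₜ[k] KN.D v0) has ∈
      (segCoPack ψ hT KM KN hxs hys aT haG hposT).Z 1 := by
    refine (show mkM ψ hT (u ⊗ₜ[k] KN.D v0) has ∈
      CS ψ hT KM KN 1 ⊓ LinearMap.ker (DS ψ hT KM KN) from
        Submodule.mem_inf.mpr ⟨⟨mkM ψ hT (u ⊗ₜ[k] KN.D v0) has, ?_⟩, ?_⟩)
    · apply valM_injective ψ hT
      show Qamb KM KN 1 (u ⊗ₜ[k] KN.D v0) = u ⊗ₜ[k] KN.D v0
      exact haQ
    · rw [LinearMap.mem_ker]
      apply valM_injective ψ hT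
      rw [valM_DS, valM_zero]
      exact haD
  have hx : subMk (SegM ψ hT KM.T KN.T) _
      ((segCoPack ψ hT KM KN hxs hys aT haG hposT).Z_hom 1)
      (mkM ψ hT (u ⊗ₜ[k] KN.D v0) has) hwZ ∈
      ((segCoPack ψ hT KM KN hxs hys aT haG hposT).Zm 1).gr d := by
    apply (mem_subGMod_gr (SegM ψ hT KM.T KN.T) _ _ d _).mpr
    show valM ψ hT (mkM ψ hT (u ⊗ₜ[k] KN.D v0) has) ∈ piece KM.T KN.T d
    exact had
  let y : ↥(GrLC.comp (toAG 𝒯) ((segCoPack ψ hT KM KN hxs hys aT haG hposT).Hm 1).gr d) :=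
    ⟨sqMap (SegM ψ hT KM.T KN.T) _ _ ((segCoPack ψ hT KM KN hxs hys aT haG hposT).B_hom 1)
        ((segCoPack ψ hT KM KN hxs hys aT haG hposT).Z_hom 1)
        (subMk (SegM ψ hT KM.T KN.T) _ ((segCoPack ψ hT KM KN hxs hys aT haG hposT).Z_hom 1)
          (mkM ψ hT (u ⊗ₜ[k] KN.D v0) has) hwZ),
      isGrHom_sqMap (SegM ψ hT KM.T KN.T) _ _
        ((segCoPack ψ hT KM KN hxs hys aT haG hposT).B_hom 1)
        ((segCoPack ψ hT KM KN hxs hys aT haG hposT).Z_hom 1) d _ hx⟩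
  have h1 : e.symm y = 0 := by
    apply Subtype.ext
    exact hv _ (e.symm y).2
  have h2 : y = 0 := by rw [← e.apply_symm_apply y, h1, map_zero]
  have h3 : sqMap (SegM ψ hT KM.T KN.T) _ _
      ((segCoPack ψ hT KM KN hxs hys aT haG hposT).B_hom 1)
      ((segCoPack ψ hT KM KN hxs hys aT haG hposT).Z_hom 1)
      (subMk (SegM ψ hT KM.T KN.T) _ ((segCoPack ψ hT KM KN hxs hys aT haG hposT).Z_hom 1)
        (mkM ψ hT (u ⊗ₜ[k] KN.D v0) has) hwZ) = 0 := congrArg Subtype.val h2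
  rw [sqMap_eq_zero_iff] at h3
  obtain ⟨w1, hw1, hw1D⟩ := h3
  have hw1' : w1 ∈ LinearMap.range (QS ψ hT KM KN 0) := hw1
  have hw1D' : DS ψ hT KM KN w1 = mkM ψ hT (u ⊗ₜ[k] KN.D v0) has := hw1D
  obtain ⟨w2, hw2⟩ := hw1'
  have hA : Aamb KM KN (valM ψ hT w2) = u ⊗ₜ[k] KN.D v0 := by
    have h4 : valM ψ hT (DS ψ hT KM KN w1) = u ⊗ₜ[k] KN.D v0 := by
      rw [hw1D']
      rfl
    rw [← hw2] at h4
    have h5 : Damb KM KN (Qamb KM KN 0 (valM ψ hT w2)) = u ⊗ₜ[k] KN.D v0 := h4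
    rw [end_mul_eq (Damb_Qamb_zero' KM KN) (valM ψ hT w2)] at h5
    exact h5
  have hmem : u ⊗ₜ[k] KN.D v0 ∈
      LinearMap.range (TensorProduct.map (KM.Dk * KM.pk 0) (KN.Dk * KN.pk 0)) :=
    ⟨valM ψ hT w2, hA⟩
  obtain ⟨u', hu'⟩ := mem_range_of_tmul_mem_range_map _ _ hvne hmem
  have hu'' : KM.D (KM.p 0 u') = u := hu'
  refine ⟨proj KM.T.gr d (KM.p 0 u'), proj_mem _ _ _, ?_, ?_⟩
  · rw [← proj_map_of_isGrHom KM.T.gr KM.T.gr (KM.p_gr 0) (KM.p 0 u'), KM.p_idem]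
  · rw [← proj_map_of_isGrHom KM.T.gr KM.T.gr KM.D_gr (KM.p 0 u'), hu'',
      proj_of_mem_same KM.T.gr hud]

end SegDim

end Groth.Agent.Lib.Helper6.SegK
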